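import Cfsg.Agent.Lib.Helper12.Fi22M.OddLift2
import Cfsg.Agent.Lib.Helper12.Fi22M.PresI6
import Cfsg.Agent.Lib.Helper12.Fi22M.PresI7
import Cfsg.Agent.Lib.Helper12.Fi22M.PresI8
import Cfsg.Agent.Lib.Helper12.Fi22M.PresI9

/-!
The shapes of the relators of the presentation on nine involutions (generated, helper12).
-/

set_option autoImplicit false
set_option maxRecDepth 100000

namespace Cfsg.Agent.Lib.Helper12.Fi22M.CertsI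

open Cfsg.Agent.Lib.Helper12.Fi22M.OddLift2

/-- the shapes of the relators -/
def certs9 : List Cert :=
  [.dih [] 0 [] 1 3,
   .dih [] 0 [] 2 2,
   .dih [] 0 [] 3 2,
   .dih [] 0 [] 4 2,
   .dih [] 0 [] 5 2,
   .dih [] 0 [] 6 2,
   .dih [] 0 [] 7 2,
   .dih [] 0 [] 8 3,
   .dih [] 1 [] 2 3,
   .dih [] 1 [] 3 2,
   .dih [] 1 [] 4 2,
   .dih [] 1 [] 5 2,
   .dih [] 1 [] 6 2,
   .dih [] 1 [] 7 2,
   .dih [] 1 [] 8 2,
   .dih [] 2 [] 3 3,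
   .dih [] 2 [] 4 2,
   .dih [] 2 [] 5 3,
   .dih [] 2 [] 6 2,
   .dih [] 2 [] 7 2,
   .dih [] 2 [] 8 2,
   .dih [] 3 [] 4 3,
   .dih [] 3 [] 5 2,
   .dih [] 3 [] 6 2,
   .dih [] 3 [] 7 2,
   .dih [] 3 [] 8 2,
   .dih [] 4 [] 5 2,
   .dih [] 4 [] 6 2,
   .dih [] 4 [] 7 3,
   .dih [] 4 [] 8 2,
   .dih [] 5 [] 6 3,
   .dih [] 5 [] 7 2,
   .dih [] 5 [] 8 2,
   .dih [] 6 [] 7 2,
   .dih [] 6 [] 8 2,
   .dih [] 7 [] 8 2,
   .dih [1, 2, 3, 4, 5, 2, 1, 3, 2, 5] 0 [] 6 3,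
   .cprod [([], 1), ([], 3), ([], 7), ([], 5), ([2, 3, 5, 2], 1), ([2, 3, 4, 7, 5, 2, 3, 4], 1), ([1, 2, 3, 4, 7, 5, 2, 1, 3, 2, 4, 3, 5, 2, 1, 0], 0)],
   .cprod [([], 8), ([], 1), ([], 3), ([], 5), ([2, 3, 5, 2], 1), ([0, 1, 2, 3, 5, 2, 1, 0], 8), ([0, 1, 2, 3, 4, 5, 2, 1, 0, 3, 2, 1, 5, 2, 3, 4], 8)]]

theorem base9_eq : PresI9.baseL = certs9.map Cert.word ++ [[0, 0], [1, 1], [2, 2], [3, 3], [4, 4], [5, 5], [6, 6], [7, 7], [8, 8], []] := by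
  decide

theorem shape_of_eq {baseL : List (List ℕ)} {certs : List Cert} {sq : List (List ℕ)}
    (h : baseL = certs.map Cert.word ++ sq) (hsq : ∀ b ∈ sq, b = [] ∨ ∃ s, b = [s, s]) :
    ∀ b ∈ baseL, b = [] ∨ (∃ s, b = [s, s]) ∨ ∃ c ∈ certs, b = c.word := by
  intro b hb
  rw [h, List.mem_append] at hb
  rcases hb with hb | hb
  · obtain ⟨c, hc, rfl⟩ := List.mem_map.mp hb
    exact Or.inr (Or.inr ⟨c, hc, rfl⟩)
  · rcases hsq b hb with h1 | h1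
    · exact Or.inl h1
    · exact Or.inr (Or.inl h1)

theorem shape9 : ∀ b ∈ PresI9.baseL, b = [] ∨ (∃ s, b = [s, s]) ∨ ∃ c ∈ certs9, b = c.word := by
  apply shape_of_eq base9_eq
  intro b hb
  simp only [List.mem_cons, List.not_mem_nil, or_false] at hb
  rcases hb with rfl | rfl | rfl | rfl | rfl | rfl | rfl | rfl | rfl | rfl
  · exact Or.inr ⟨0, rfl⟩
  · exact Or.inr ⟨1, rfl⟩
  · exact Or.inr ⟨2, rfl⟩
  · exact Or.inr ⟨3, rfl⟩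
  · exact Or.inr ⟨4, rfl⟩
  · exact Or.inr ⟨5, rfl⟩
  · exact Or.inr ⟨6, rfl⟩
  · exact Or.inr ⟨7, rfl⟩
  · exact Or.inr ⟨8, rfl⟩
  · exact Or.inl rfl

theorem sq9 : ∀ s < 9, [s, s] ∈ PresI9.baseL := by decide

/-- the side conditions of the shapes -/
def sides9 : List (List ℕ) := (certs9.map Cert.side).flatten

theorem mem_sides9 : ∀ c ∈ certs9, ∀ s ∈ c.side, s ∈ sides9 := by
  intro c hc s hs
  exact List.mem_flatten.mpr ⟨c.side, List.mem_map.mpr ⟨c, hc, rfl⟩, hs⟩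

theorem sides9_lt : ∀ s ∈ sides9, ∀ t ∈ s, t < 9 := by decide +kernel

theorem base6_sub : ∀ b ∈ PresI6.baseL, b ∈ PresI7.baseL := by decide

theorem base7_sub : ∀ b ∈ PresI7.baseL, b ∈ PresI8.baseL := by decide

theorem base8_sub : ∀ b ∈ PresI8.baseL, b ∈ PresI9.baseL := by decide

end Cfsg.Agent.Lib.Helper12.Fi22M.CertsI
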