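import Cfsg.Agent.Lib.Helper12.Fi22M.QLift2
import Cfsg.Agent.Lib.Helper12.Fi22M.PresU2
import Cfsg.Agent.Lib.Helper12.Fi22M.PresU3
import Cfsg.Agent.Lib.Helper12.Fi22M.PresU4
import Cfsg.Agent.Lib.Helper12.Fi22M.PresU5

/-!
The shapes of the relators of the presentations on elements of orders three and five (generated, helper12).
-/

set_option autoImplicit false
set_option maxRecDepth 100000

namespace Cfsg.Agent.Lib.Helper12.Fi22M.CertsU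

open Cfsg.Agent.Lib.Helper12.Fi22M.QLift2

open Cfsg.Agent.Lib.Helper12.QLift (flp)

/-- the orders of the generators -/
def qf : ℕ → ℕ
  | 0 => 3
  | 1 => 5
  | 2 => 3
  | 3 => 3
  | 4 => 3
  | _ => 1

theorem qf_dvd : ∀ i < 5, qf i ∣ 15 := by decide

/-- the shapes of the relators -/
def certs : List Cert :=
  [.cprod [([], 0), ([2], 0), ([2, 2], 0), ([2, 2, 2], 0), ([2, 2, 2, 2], 0)],
   .conj [2, 0, 2, 0, 3, 3] 0 1 1,
   .conj [2, 0, 3] 0 1 1,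
   .conj [5, 3, 4, 2, 4, 4, 3, 4, 2, 5] 1 2 1,
   .conj [2, 4, 3, 4, 2, 4, 3, 4, 2] 2 5 1,
   .conj [5, 0, 2, 2, 0, 3, 3] 0 1 1,
   .conj [3, 0, 0, 5, 2, 5, 3] 0 1 1,
   .conj [3, 4, 4, 3, 4, 2, 4, 2] 2 5 1,
   .conj [4, 3, 3, 3, 4, 2, 2, 4] 1 3 1,
   .conj [3, 5, 5, 3, 4, 2, 5, 3, 3] 2 4 1,
   .conj [2, 1, 5, 3, 1, 2, 4, 3] 0 1 1,
   .conj [3, 4, 3, 0, 3, 3, 1, 3, 4, 3] 2 5 1,
   .conj [3, 7, 3, 6, 6, 3, 7, 3] 3 7 1,
   .conj [3, 7, 2, 1, 1, 6, 3, 1] 3 6 1,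
   .conj [3, 4, 7, 3, 5, 3, 4, 3] 3 6 1,
   .conj [0, 6, 0, 7, 7] 1 3 1,
   .conj [0, 7, 7] 2 5 1,
   .conj [3, 7, 2, 7, 1, 6, 3, 0] 0 6 1,
   .conj [3, 3, 7, 2, 6, 1, 3, 0] 0 6 1,
   .conj [3, 5, 2, 6, 6, 3] 3 5 1,
   .conj [5, 1, 6] 3 0 1,
   .conj [3, 3, 0, 7, 3, 0, 7, 3] 2 5 1,
   .conj [3, 7, 2, 5, 5, 2, 5, 2] 3 6 1,
   .conj [2, 7, 0, 3, 6, 1, 2] 0 6 1,
   .conj [2, 6, 2, 6, 2, 6, 2] 2 5 1,
   .conj [2, 5, 3, 3, 6, 3, 4, 3] 3 6 1,
   .conj [6, 2, 5, 5, 5, 3] 2 5 1,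
   .conj [4, 2, 2, 2, 2, 2] 3 7 1,
   .conj [3, 7, 3, 7, 3, 7, 3] 4 9 1,
   .conj [3, 3, 6, 4, 2, 5, 2, 2] 4 9 1,
   .conj [3, 5, 9, 2, 5, 3] 0 1 1,
   .conj [3, 3, 9, 3, 6, 2, 9, 3] 4 7 1,
   .conj [3, 8, 8, 2] 2 5 1,
   .conj [7, 8] 2 5 1,
   .conj [2, 4, 2, 7, 2] 4 8 1,
   .conj [0, 7, 8, 6, 9, 1] 1 3 1]

/-- the powers of the letters -/
def pows : List (List ℕ) :=
  [[0, 0, 0], [2, 2, 2, 2, 2], [4, 4, 4], [6, 6, 6], [8, 8, 8]]

/-- the letters with their inverses, the empty word -/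
def pairs : List (List ℕ) :=
  [[0, 1], [1, 0], [2, 3], [3, 2], [4, 5], [5, 4], [6, 7], [7, 6], [8, 9], [9, 8], []]

theorem base5_eq : PresU5.baseL = pows ++ (certs.map Cert.word ++ pairs) := by
  decide +kernel

theorem shape5 : ∀ b ∈ PresU5.baseL, b = [] ∨ (∃ s, b = [s, flp s]) ∨
    (∃ i < 5, b = List.replicate (qf i) (2 * i)) ∨ ∃ c ∈ certs, b = c.word := by
  intro b hb
  rw [base5_eq, List.mem_append, List.mem_append] at hb
  rcases hb with hb | hb | hb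
  · right; right; left
    simp only [pows, List.mem_cons, List.not_mem_nil, or_false] at hb
    rcases hb with rfl | rfl | rfl | rfl | rfl
    · exact ⟨0, by decide, rfl⟩
    · exact ⟨1, by decide, rfl⟩
    · exact ⟨2, by decide, rfl⟩
    · exact ⟨3, by decide, rfl⟩
    · exact ⟨4, by decide, rfl⟩
  · obtain ⟨c, hc, rfl⟩ := List.mem_map.mp hb
    exact Or.inr (Or.inr (Or.inr ⟨c, hc, rfl⟩))
  · simp only [pairs, List.mem_cons, List.not_mem_nil, or_false] at hb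
    rcases hb with rfl | rfl | rfl | rfl | rfl | rfl | rfl | rfl | rfl | rfl | rfl
    · exact Or.inr (Or.inl ⟨0, rfl⟩)
    · exact Or.inr (Or.inl ⟨1, rfl⟩)
    · exact Or.inr (Or.inl ⟨2, rfl⟩)
    · exact Or.inr (Or.inl ⟨3, rfl⟩)
    · exact Or.inr (Or.inl ⟨4, rfl⟩)
    · exact Or.inr (Or.inl ⟨5, rfl⟩)
    · exact Or.inr (Or.inl ⟨6, rfl⟩)
    · exact Or.inr (Or.inl ⟨7, rfl⟩)
    · exact Or.inr (Or.inl ⟨8, rfl⟩)
    · exact Or.inr (Or.inl ⟨9, rfl⟩)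
    · exact Or.inl rfl

theorem pow5 : ∀ i < 5, List.replicate (qf i) (2 * i) ∈ PresU5.baseL := by decide +kernel

theorem pair5 : ∀ i < 5, [2 * i, 2 * i + 1] ∈ PresU5.baseL := by decide +kernel

/-- the side conditions of the shapes -/
def sides : List (List ℕ) := (certs.map Cert.side).flatten

theorem mem_sides : ∀ c ∈ certs, ∀ s ∈ c.side, s ∈ sides := by
  intro c hc s hs
  exact List.mem_flatten.mpr ⟨c.side, List.mem_map.mpr ⟨c, hc, rfl⟩, hs⟩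

theorem sides_lt : ∀ s ∈ sides, ∀ t ∈ s, t < 10 := by decide +kernel

/-- the relators on the first two generators are relators on the first three -/
theorem base2_sub : ∀ b ∈ PresU2.baseL, b ∈ PresU3.baseL := by decide +kernel

/-- the relators on the first three generators are relators on the first four -/
theorem base3_sub : ∀ b ∈ PresU3.baseL, b ∈ PresU4.baseL := by decide +kernel

/-- the relators on the first four generators are relators on all five -/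
theorem base4_sub : ∀ b ∈ PresU4.baseL, b ∈ PresU5.baseL := by decide +kernel

end Cfsg.Agent.Lib.Helper12.Fi22M.CertsU
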