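import Cfsg.Agent.Lib.Helper12.TC.Fn.Lower

/-!
A word fixes all the points of an interval of a table: a check for the kernel which is made interval by interval, so that
each single check stays small (helper12).
-/

set_option autoImplicit false

namespace Cfsg.Agent.Lib.Helper12.Fi22M

open Cfsg.Agent.Lib.Helper12.TC

/-- the word `w` fixes every point of the interval `[lo, hi)` of the table `T` -/
def fixRangeK (T : ℕ → ℕ → ℕ) (w : List ℕ) (lo hi : ℕ) : Bool :=
  allBelowK hi (fun i => Nat.blt i lo || Nat.beq (Fn.applyW T w i) i)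

theorem fixRangeK_sound {T : ℕ → ℕ → ℕ} {w : List ℕ} {lo hi : ℕ} (h : fixRangeK T w lo hi = true)
    (i : ℕ) (h1 : lo ≤ i) (h2 : i < hi) : Fn.applyW T w i = i := by
  have h3 := (allBelowK_iff hi _).mp h i h2
  rw [Bool.or_eq_true] at h3
  rcases h3 with h3 | h3
  · rw [Nat.blt_eq] at h3
    exact absurd h3 (Nat.not_lt.mpr h1)
  · exact Nat.eq_of_beq_eq_true h3

end Cfsg.Agent.Lib.Helper12.Fi22M
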