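import Cfsg.Agent.Lib.Helper12.Fi22M.ModelIDefs
import Cfsg.Agent.Lib.Helper12.Fi22M.FixRange

/-!
The relators and the side conditions on 3510 points, part 2 (generated, helper12).
-/

set_option autoImplicit false
set_option maxRecDepth 100000
set_option Elab.async false

namespace Cfsg.Agent.Lib.Helper12.Fi22M.ModelI

open Cfsg.Agent.Lib.Helper12.TC Cfsg.Agent.Lib.Helper12.TCG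
  Cfsg.Agent.Lib.Helper12.M23Ext Cfsg.Agent.Lib.Helper12.Fi22M

theorem fxr_10_0 : fixRangeK X35 [1, 4, 1, 4] 0 3510 = true := by
  decide +kernel

theorem fxr_21_0 : fixRangeK X35 [3, 4, 3, 4, 3, 4] 0 3510 = true := by
  decide +kernel

theorem fxr_22_0 : fixRangeK X35 [3, 5, 3, 5] 0 3510 = true := by
  decide +kernel

theorem fxr_33_0 : fixRangeK X35 [6, 7, 6, 7] 0 3510 = true := by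
  decide +kernel

theorem fxr_36_0 : fixRangeK X35 [5, 2, 3, 1, 2, 5, 4, 3, 2, 1, 0, 1, 2, 3, 4, 5, 2, 1, 3, 2, 5, 6, 5, 2, 3, 1, 2, 5, 4, 3, 2, 1, 0, 1, 2, 3, 4, 5, 2, 1, 3, 2, 5, 6, 5, 2, 3, 1, 2, 5, 4, 3, 2, 1, 0, 1, 2, 3, 4, 5, 2, 1, 3, 2, 5, 6] 0 1170 = true := by
  decide +kernel

theorem fxr_44_0 : fixRangeK X35 [5, 5] 0 3510 = true := by
  decide +kernel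

theorem fxs_6_0 : fixRangeK X35 [1, 0, 1, 2, 5, 3, 4, 2, 3, 1, 2, 5, 7, 4, 3, 2, 1, 0, 1, 2, 3, 4, 7, 5, 2, 1, 3, 2, 4, 3, 5, 2, 1, 0, 1, 0, 1, 2, 5, 3, 4, 2, 3, 1, 2, 5, 7, 4, 3, 2, 1, 0, 1, 2, 3, 4, 7, 5, 2, 1, 3, 2, 4, 3, 5, 2, 1, 0] 0 1170 = true := by
  decide +kernel

theorem fxs_10_0 : fixRangeK X35 [3, 5, 3, 5] 0 3510 = true := by
  decide +kernel

theorem fxs_13_1 : fixRangeK X35 [3, 0, 1, 2, 5, 3, 4, 2, 3, 1, 2, 5, 7, 4, 3, 2, 1, 0, 1, 2, 3, 4, 7, 5, 2, 1, 3, 2, 4, 3, 5, 2, 1, 0, 3, 0, 1, 2, 5, 3, 4, 2, 3, 1, 2, 5, 7, 4, 3, 2, 1, 0, 1, 2, 3, 4, 7, 5, 2, 1, 3, 2, 4, 3, 5, 2, 1, 0] 1170 2340 = true := by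
  decide +kernel

theorem fxs_18_0 : fixRangeK X35 [7, 2, 5, 3, 2, 1, 2, 3, 5, 2, 7, 2, 5, 3, 2, 1, 2, 3, 5, 2] 0 3510 = true := by
  decide +kernel

theorem fxs_34_2 : fixRangeK X35 [2, 5, 3, 2, 1, 2, 3, 5, 2, 0, 1, 2, 5, 3, 4, 2, 3, 1, 2, 5, 7, 4, 3, 2, 1, 0, 1, 2, 3, 4, 7, 5, 2, 1, 3, 2, 4, 3, 5, 2, 1, 0, 2, 5, 3, 2, 1, 2, 3, 5, 2, 0, 1, 2, 5, 3, 4, 2, 3, 1, 2, 5, 7, 4, 3, 2, 1, 0, 1, 2, 3, 4, 7, 5, 2, 1, 3, 2, 4, 3, 5, 2, 1, 0] 2340 3510 = true := by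
  decide +kernel

theorem fxs_35_1 : fixRangeK X35 [4, 3, 2, 5, 7, 4, 3, 2, 1, 2, 3, 4, 7, 5, 2, 3, 4, 1, 4, 3, 2, 5, 7, 4, 3, 2, 1, 2, 3, 4, 7, 5, 2, 3, 4, 1] 1755 3510 = true := by
  decide +kernel

theorem fxs_40_2 : fixRangeK X35 [4, 3, 2, 5, 7, 4, 3, 2, 1, 2, 3, 4, 7, 5, 2, 3, 4, 4, 3, 2, 5, 7, 4, 3, 2, 1, 2, 3, 4, 7, 5, 2, 3, 4, 4, 3, 2, 5, 7, 4, 3, 2, 1, 2, 3, 4, 7, 5, 2, 3, 4, 4, 3, 2, 5, 7, 4, 3, 2, 1, 2, 3, 4, 7, 5, 2, 3, 4] 2340 3510 = true := by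
  decide +kernel

theorem fxs_45_0 : fixRangeK X35 [0, 1, 2, 5, 3, 4, 2, 3, 1, 2, 5, 7, 4, 3, 2, 1, 0, 1, 2, 3, 4, 7, 5, 2, 1, 3, 2, 4, 3, 5, 2, 1, 0, 5, 0, 1, 2, 5, 3, 4, 2, 3, 1, 2, 5, 7, 4, 3, 2, 1, 0, 1, 2, 3, 4, 7, 5, 2, 1, 3, 2, 4, 3, 5, 2, 1, 0, 5] 0 1170 = true := by
  decide +kernel

theorem fxs_48_0 : fixRangeK X35 [0, 1, 2, 5, 3, 4, 2, 3, 1, 2, 5, 7, 4, 3, 2, 1, 0, 1, 2, 3, 4, 7, 5, 2, 1, 3, 2, 4, 3, 5, 2, 1, 0, 0, 1, 2, 5, 3, 4, 2, 3, 1, 2, 5, 7, 4, 3, 2, 1, 0, 1, 2, 3, 4, 7, 5, 2, 1, 3, 2, 4, 3, 5, 2, 1, 0, 0, 1, 2, 5, 3, 4, 2, 3, 1, 2, 5, 7, 4, 3, 2, 1, 0, 1, 2, 3, 4, 7, 5, 2, 1, 3, 2, 4, 3, 5, 2, 1, 0, 0, 1, 2, 5, 3, 4, 2, 3, 1, 2, 5, 7, 4, 3, 2, 1, 0, 1, 2, 3, 4, 7, 5, 2, 1, 3, 2, 4, 3, 5, 2, 1, 0] 0 702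 = true := by
  decide +kernel

theorem fxs_50_0 : fixRangeK X35 [8, 1, 8, 1] 0 3510 = true := by
  decide +kernel

theorem fxs_61_1 : fixRangeK X35 [1, 0, 1, 2, 5, 3, 2, 1, 0, 8, 0, 1, 2, 3, 5, 2, 1, 0, 1, 0, 1, 2, 5, 3, 2, 1, 0, 8, 0, 1, 2, 3, 5, 2, 1, 0] 1755 3510 = true := by
  decide +kernel

theorem fxs_66_0 : fixRangeK X35 [3, 5, 3, 5] 0 3510 = true := by
  decide +kernel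

theorem fxs_69_1 : fixRangeK X35 [3, 4, 3, 2, 5, 1, 2, 3, 0, 1, 2, 5, 4, 3, 2, 1, 0, 8, 0, 1, 2, 3, 4, 5, 2, 1, 0, 3, 2, 1, 5, 2, 3, 4, 3, 4, 3, 2, 5, 1, 2, 3, 0, 1, 2, 5, 4, 3, 2, 1, 0, 8, 0, 1, 2, 3, 4, 5, 2, 1, 0, 3, 2, 1, 5, 2, 3, 4] 1170 2340 = true := by
  decide +kernel

theorem fxs_77_0 : fixRangeK X35 [2, 5, 3, 2, 1, 2, 3, 5, 2, 8, 2, 5, 3, 2, 1, 2, 3, 5, 2, 8] 0 3510 = true := by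
  decide +kernel

theorem fxs_85_1 : fixRangeK X35 [0, 1, 2, 5, 3, 2, 1, 0, 8, 0, 1, 2, 3, 5, 2, 1, 0, 1, 0, 1, 2, 5, 3, 2, 1, 0, 8, 0, 1, 2, 3, 5, 2, 1, 0, 1] 1755 3510 = true := by
  decide +kernel

theorem fxs_90_0 : fixRangeK X35 [0, 1, 2, 5, 3, 2, 1, 0, 8, 0, 1, 2, 3, 5, 2, 1, 0, 4, 3, 2, 5, 1, 2, 3, 0, 1, 2, 5, 4, 3, 2, 1, 0, 8, 0, 1, 2, 3, 4, 5, 2, 1, 0, 3, 2, 1, 5, 2, 3, 4, 0, 1, 2, 5, 3, 2, 1, 0, 8, 0, 1, 2, 3, 5, 2, 1, 0, 4, 3, 2, 5, 1, 2, 3, 0, 1, 2, 5, 4, 3, 2, 1, 0, 8, 0, 1, 2, 3, 4, 5, 2, 1, 0, 3, 2, 1, 5, 2, 3, 4] 0 878 = true := by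
  decide +kernel

theorem fxs_91_2 : fixRangeK X35 [4, 3, 2, 5, 1, 2, 3, 0, 1, 2, 5, 4, 3, 2, 1, 0, 8, 0, 1, 2, 3, 4, 5, 2, 1, 0, 3, 2, 1, 5, 2, 3, 4, 8, 4, 3, 2, 5, 1, 2, 3, 0, 1, 2, 5, 4, 3, 2, 1, 0, 8, 0, 1, 2, 3, 4, 5, 2, 1, 0, 3, 2, 1, 5, 2, 3, 4, 8] 2340 3510 = true := by
  decide +kernel

theorem fxs_97_3 : fixRangeK X35 [4, 3, 2, 5, 1, 2, 3, 0, 1, 2, 5, 4, 3, 2, 1, 0, 8, 0, 1, 2, 3, 4, 5, 2, 1, 0, 3, 2, 1, 5, 2, 3, 4, 4, 3, 2, 5, 1, 2, 3, 0, 1, 2, 5, 4, 3, 2, 1, 0, 8, 0, 1, 2, 3, 4, 5, 2, 1, 0, 3, 2, 1, 5, 2, 3, 4, 4, 3, 2, 5, 1, 2, 3, 0, 1, 2, 5, 4, 3, 2, 1, 0, 8, 0, 1, 2, 3, 4, 5, 2, 1, 0, 3, 2, 1, 5, 2, 3, 4, 4, 3, 2, 5, 1, 2, 3, 0, 1, 2, 5, 4, 3, 2, 1, 0, 8, 0, 1, 2, 3, 4, 5, 2, 1, 0, 3, 2, 1, 5, 2, 3, 4] 2106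 2808 = true := by
  decide +kernel

end Cfsg.Agent.Lib.Helper12.Fi22M.ModelI
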