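import Cfsg.Agent.Lib.Helper12.Fi22M.ModelIRel0
import Cfsg.Agent.Lib.Helper12.Fi22M.ModelIRel1
import Cfsg.Agent.Lib.Helper12.Fi22M.ModelIRel2
import Cfsg.Agent.Lib.Helper12.Fi22M.ModelIRel3
import Cfsg.Agent.Lib.Helper12.Fi22M.ModelIRel4
import Cfsg.Agent.Lib.Helper12.Fi22M.ModelIRel5
import Cfsg.Agent.Lib.Helper12.Fi22M.ModelIRel6
import Cfsg.Agent.Lib.Helper12.Fi22M.ModelIRel7
import Cfsg.Agent.Lib.Helper12.Fi22M.ModelIRel8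
import Cfsg.Agent.Lib.Helper12.Fi22M.ModelIRel9

/-!
The nine generators of the presented group of Fischer satisfy the relators of the presentation of the triple cover
and the side conditions of their shapes: the homomorphism of the presented cover onto the group (generated, helper12).
-/

set_option autoImplicit false
set_option maxRecDepth 100000

namespace Cfsg.Agent.Lib.Helper12.Fi22M.ModelI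

open Cfsg.Agent.Lib.Helper12.TC Cfsg.Agent.Lib.Helper12.TCG
  Cfsg.Agent.Lib.Helper12.M23Ext Cfsg.Agent.Lib.Helper12.Fi22M

theorem fixwr_0 : ∀ i < 3510, Fn.applyW X35 [0, 1, 0, 1, 0, 1] i = i := by
  intro i hi
  exact fixRangeK_sound fxr_0_0 i (Nat.zero_le _) hi

theorem fixwr_1 : ∀ i < 3510, Fn.applyW X35 [0, 2, 0, 2] i = i := by
  intro i hi
  exact fixRangeK_sound fxr_1_0 i (Nat.zero_le _) hi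

theorem fixwr_2 : ∀ i < 3510, Fn.applyW X35 [0, 3, 0, 3] i = i := by
  intro i hi
  exact fixRangeK_sound fxr_2_0 i (Nat.zero_le _) hi

theorem fixwr_3 : ∀ i < 3510, Fn.applyW X35 [0, 4, 0, 4] i = i := by
  intro i hi
  exact fixRangeK_sound fxr_3_0 i (Nat.zero_le _) hi

theorem fixwr_4 : ∀ i < 3510, Fn.applyW X35 [0, 5, 0, 5] i = i := by
  intro i hi
  exact fixRangeK_sound fxr_4_0 i (Nat.zero_le _) hi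

theorem fixwr_5 : ∀ i < 3510, Fn.applyW X35 [0, 6, 0, 6] i = i := by
  intro i hi
  exact fixRangeK_sound fxr_5_0 i (Nat.zero_le _) hi

theorem fixwr_6 : ∀ i < 3510, Fn.applyW X35 [0, 7, 0, 7] i = i := by
  intro i hi
  exact fixRangeK_sound fxr_6_0 i (Nat.zero_le _) hi

theorem fixwr_7 : ∀ i < 3510, Fn.applyW X35 [0, 8, 0, 8, 0, 8] i = i := by
  intro i hi
  exact fixRangeK_sound fxr_7_0 i (Nat.zero_le _) hi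

theorem fixwr_8 : ∀ i < 3510, Fn.applyW X35 [1, 2, 1, 2, 1, 2] i = i := by
  intro i hi
  exact fixRangeK_sound fxr_8_0 i (Nat.zero_le _) hi

theorem fixwr_9 : ∀ i < 3510, Fn.applyW X35 [1, 3, 1, 3] i = i := by
  intro i hi
  exact fixRangeK_sound fxr_9_0 i (Nat.zero_le _) hi

theorem fixwr_10 : ∀ i < 3510, Fn.applyW X35 [1, 4, 1, 4] i = i := by
  intro i hi
  exact fixRangeK_sound fxr_10_0 i (Nat.zero_le _) hi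

theorem fixwr_11 : ∀ i < 3510, Fn.applyW X35 [1, 5, 1, 5] i = i := by
  intro i hi
  exact fixRangeK_sound fxr_11_0 i (Nat.zero_le _) hi

theorem fixwr_12 : ∀ i < 3510, Fn.applyW X35 [1, 6, 1, 6] i = i := by
  intro i hi
  exact fixRangeK_sound fxr_12_0 i (Nat.zero_le _) hi

theorem fixwr_13 : ∀ i < 3510, Fn.applyW X35 [1, 7, 1, 7] i = i := by
  intro i hi
  exact fixRangeK_sound fxr_13_0 i (Nat.zero_le _) hi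

theorem fixwr_14 : ∀ i < 3510, Fn.applyW X35 [1, 8, 1, 8] i = i := by
  intro i hi
  exact fixRangeK_sound fxr_14_0 i (Nat.zero_le _) hi

theorem fixwr_15 : ∀ i < 3510, Fn.applyW X35 [2, 3, 2, 3, 2, 3] i = i := by
  intro i hi
  exact fixRangeK_sound fxr_15_0 i (Nat.zero_le _) hi

theorem fixwr_16 : ∀ i < 3510, Fn.applyW X35 [2, 4, 2, 4] i = i := by
  intro i hi
  exact fixRangeK_sound fxr_16_0 i (Nat.zero_le _) hi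

theorem fixwr_17 : ∀ i < 3510, Fn.applyW X35 [2, 5, 2, 5, 2, 5] i = i := by
  intro i hi
  exact fixRangeK_sound fxr_17_0 i (Nat.zero_le _) hi

theorem fixwr_18 : ∀ i < 3510, Fn.applyW X35 [2, 6, 2, 6] i = i := by
  intro i hi
  exact fixRangeK_sound fxr_18_0 i (Nat.zero_le _) hi

theorem fixwr_19 : ∀ i < 3510, Fn.applyW X35 [2, 7, 2, 7] i = i := by
  intro i hi
  exact fixRangeK_sound fxr_19_0 i (Nat.zero_le _) hi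

theorem fixwr_20 : ∀ i < 3510, Fn.applyW X35 [2, 8, 2, 8] i = i := by
  intro i hi
  exact fixRangeK_sound fxr_20_0 i (Nat.zero_le _) hi

theorem fixwr_21 : ∀ i < 3510, Fn.applyW X35 [3, 4, 3, 4, 3, 4] i = i := by
  intro i hi
  exact fixRangeK_sound fxr_21_0 i (Nat.zero_le _) hi

theorem fixwr_22 : ∀ i < 3510, Fn.applyW X35 [3, 5, 3, 5] i = i := by
  intro i hi
  exact fixRangeK_sound fxr_22_0 i (Nat.zero_le _) hi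

theorem fixwr_23 : ∀ i < 3510, Fn.applyW X35 [3, 6, 3, 6] i = i := by
  intro i hi
  exact fixRangeK_sound fxr_23_0 i (Nat.zero_le _) hi

theorem fixwr_24 : ∀ i < 3510, Fn.applyW X35 [3, 7, 3, 7] i = i := by
  intro i hi
  exact fixRangeK_sound fxr_24_0 i (Nat.zero_le _) hi

theorem fixwr_25 : ∀ i < 3510, Fn.applyW X35 [3, 8, 3, 8] i = i := by
  intro i hi
  exact fixRangeK_sound fxr_25_0 i (Nat.zero_le _) hi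

theorem fixwr_26 : ∀ i < 3510, Fn.applyW X35 [4, 5, 4, 5] i = i := by
  intro i hi
  exact fixRangeK_sound fxr_26_0 i (Nat.zero_le _) hi

theorem fixwr_27 : ∀ i < 3510, Fn.applyW X35 [4, 6, 4, 6] i = i := by
  intro i hi
  exact fixRangeK_sound fxr_27_0 i (Nat.zero_le _) hi

theorem fixwr_28 : ∀ i < 3510, Fn.applyW X35 [4, 7, 4, 7, 4, 7] i = i := by
  intro i hi
  exact fixRangeK_sound fxr_28_0 i (Nat.zero_le _) hi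

theorem fixwr_29 : ∀ i < 3510, Fn.applyW X35 [4, 8, 4, 8] i = i := by
  intro i hi
  exact fixRangeK_sound fxr_29_0 i (Nat.zero_le _) hi

theorem fixwr_30 : ∀ i < 3510, Fn.applyW X35 [5, 6, 5, 6, 5, 6] i = i := by
  intro i hi
  exact fixRangeK_sound fxr_30_0 i (Nat.zero_le _) hi

theorem fixwr_31 : ∀ i < 3510, Fn.applyW X35 [5, 7, 5, 7] i = i := by
  intro i hi
  exact fixRangeK_sound fxr_31_0 i (Nat.zero_le _) hi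

theorem fixwr_32 : ∀ i < 3510, Fn.applyW X35 [5, 8, 5, 8] i = i := by
  intro i hi
  exact fixRangeK_sound fxr_32_0 i (Nat.zero_le _) hi

theorem fixwr_33 : ∀ i < 3510, Fn.applyW X35 [6, 7, 6, 7] i = i := by
  intro i hi
  exact fixRangeK_sound fxr_33_0 i (Nat.zero_le _) hi

theorem fixwr_34 : ∀ i < 3510, Fn.applyW X35 [6, 8, 6, 8] i = i := by
  intro i hi
  exact fixRangeK_sound fxr_34_0 i (Nat.zero_le _) hi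

theorem fixwr_35 : ∀ i < 3510, Fn.applyW X35 [7, 8, 7, 8] i = i := by
  intro i hi
  exact fixRangeK_sound fxr_35_0 i (Nat.zero_le _) hi

theorem fixwr_36 : ∀ i < 3510, Fn.applyW X35 [5, 2, 3, 1, 2, 5, 4, 3, 2, 1, 0, 1, 2, 3, 4, 5, 2, 1, 3, 2, 5, 6, 5, 2, 3, 1, 2, 5, 4, 3, 2, 1, 0, 1, 2, 3, 4, 5, 2, 1, 3, 2, 5, 6, 5, 2, 3, 1, 2, 5, 4, 3, 2, 1, 0, 1, 2, 3, 4, 5, 2, 1, 3, 2, 5, 6] i = i := by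
  intro i hi
  by_cases h0 : i < 1170
  · exact fixRangeK_sound fxr_36_0 i (Nat.zero_le _) h0
  by_cases h1 : i < 2340
  · exact fixRangeK_sound fxr_36_1 i (Nat.le_of_not_gt h0) h1
  exact fixRangeK_sound fxr_36_2 i (Nat.le_of_not_gt h1) hi

theorem fixwr_37 : ∀ i < 3510, Fn.applyW X35 [1, 3, 7, 5, 2, 5, 3, 2, 1, 2, 3, 5, 2, 4, 3, 2, 5, 7, 4, 3, 2, 1, 2, 3, 4, 7, 5, 2, 3, 4, 0, 1, 2, 5, 3, 4, 2, 3, 1, 2, 5, 7, 4, 3, 2, 1, 0, 1, 2, 3, 4, 7, 5, 2, 1, 3, 2, 4, 3, 5, 2, 1, 0] i = i := by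
  intro i hi
  by_cases h0 : i < 1170
  · exact fixRangeK_sound fxr_37_0 i (Nat.zero_le _) h0
  by_cases h1 : i < 2340
  · exact fixRangeK_sound fxr_37_1 i (Nat.le_of_not_gt h0) h1
  exact fixRangeK_sound fxr_37_2 i (Nat.le_of_not_gt h1) hi

theorem fixwr_38 : ∀ i < 3510, Fn.applyW X35 [8, 1, 3, 5, 2, 5, 3, 2, 1, 2, 3, 5, 2, 0, 1, 2, 5, 3, 2, 1, 0, 8, 0, 1, 2, 3, 5, 2, 1, 0, 4, 3, 2, 5, 1, 2, 3, 0, 1, 2, 5, 4, 3, 2, 1, 0, 8, 0, 1, 2, 3, 4, 5, 2, 1, 0, 3, 2, 1, 5, 2, 3, 4] i = i := by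
  intro i hi
  by_cases h0 : i < 1170
  · exact fixRangeK_sound fxr_38_0 i (Nat.zero_le _) h0
  by_cases h1 : i < 2340
  · exact fixRangeK_sound fxr_38_1 i (Nat.le_of_not_gt h0) h1
  exact fixRangeK_sound fxr_38_2 i (Nat.le_of_not_gt h1) hi

theorem fixwr_39 : ∀ i < 3510, Fn.applyW X35 [0, 0] i = i := by
  intro i hi
  exact fixRangeK_sound fxr_39_0 i (Nat.zero_le _) hi

theorem fixwr_40 : ∀ i < 3510, Fn.applyW X35 [1, 1] i = i := by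
  intro i hi
  exact fixRangeK_sound fxr_40_0 i (Nat.zero_le _) hi

theorem fixwr_41 : ∀ i < 3510, Fn.applyW X35 [2, 2] i = i := by
  intro i hi
  exact fixRangeK_sound fxr_41_0 i (Nat.zero_le _) hi

theorem fixwr_42 : ∀ i < 3510, Fn.applyW X35 [3, 3] i = i := by
  intro i hi
  exact fixRangeK_sound fxr_42_0 i (Nat.zero_le _) hi

theorem fixwr_43 : ∀ i < 3510, Fn.applyW X35 [4, 4] i = i := by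
  intro i hi
  exact fixRangeK_sound fxr_43_0 i (Nat.zero_le _) hi

theorem fixwr_44 : ∀ i < 3510, Fn.applyW X35 [5, 5] i = i := by
  intro i hi
  exact fixRangeK_sound fxr_44_0 i (Nat.zero_le _) hi

theorem fixwr_45 : ∀ i < 3510, Fn.applyW X35 [6, 6] i = i := by
  intro i hi
  exact fixRangeK_sound fxr_45_0 i (Nat.zero_le _) hi

theorem fixwr_46 : ∀ i < 3510, Fn.applyW X35 [7, 7] i = i := by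
  intro i hi
  exact fixRangeK_sound fxr_46_0 i (Nat.zero_le _) hi

theorem fixwr_47 : ∀ i < 3510, Fn.applyW X35 [8, 8] i = i := by
  intro i hi
  exact fixRangeK_sound fxr_47_0 i (Nat.zero_le _) hi

theorem fixwr_48 : ∀ i < 3510, Fn.applyW X35 [] i = i := by
  intro i hi
  exact fixRangeK_sound fxr_48_0 i (Nat.zero_le _) hi

theorem rels35 : ∀ b ∈ PresI9.baseL, ∀ i < 3510, Fn.applyW X35 b i = i := by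
  intro b hb
  simp only [PresI9.baseL, List.mem_cons, List.not_mem_nil, or_false] at hb
  rcases hb with rfl | rfl | rfl | rfl | rfl | rfl | rfl | rfl | rfl | rfl | rfl | rfl | rfl | rfl | rfl | rfl | rfl | rfl | rfl | rfl | rfl | rfl | rfl | rfl | rfl | rfl | rfl | rfl | rfl | rfl | rfl | rfl | rfl | rfl | rfl | rfl | rfl | rfl | rfl | rfl | rfl | rfl | rfl | rfl | rfl | rfl | rfl | rfl | rfl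
  · exact fixwr_0
  · exact fixwr_1
  · exact fixwr_2
  · exact fixwr_3
  · exact fixwr_4
  · exact fixwr_5
  · exact fixwr_6
  · exact fixwr_7
  · exact fixwr_8
  · exact fixwr_9
  · exact fixwr_10
  · exact fixwr_11
  · exact fixwr_12
  · exact fixwr_13
  · exact fixwr_14
  · exact fixwr_15
  · exact fixwr_16
  · exact fixwr_17
  · exact fixwr_18
  · exact fixwr_19
  · exact fixwr_20
  · exact fixwr_21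
  · exact fixwr_22
  · exact fixwr_23
  · exact fixwr_24
  · exact fixwr_25
  · exact fixwr_26
  · exact fixwr_27
  · exact fixwr_28
  · exact fixwr_29
  · exact fixwr_30
  · exact fixwr_31
  · exact fixwr_32
  · exact fixwr_33
  · exact fixwr_34
  · exact fixwr_35
  · exact fixwr_36
  · exact fixwr_37
  · exact fixwr_38
  · exact fixwr_39
  · exact fixwr_40
  · exact fixwr_41
  · exact fixwr_42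
  · exact fixwr_43
  · exact fixwr_44
  · exact fixwr_45
  · exact fixwr_46
  · exact fixwr_47
  · exact fixwr_48

theorem fixws_0 : ∀ i < 3510, Fn.applyW X35 [1, 1, 1, 1] i = i := by
  intro i hi
  exact fixRangeK_sound fxs_0_0 i (Nat.zero_le _) hi

theorem fixws_1 : ∀ i < 3510, Fn.applyW X35 [1, 3, 1, 3] i = i := by
  intro i hi
  exact fixRangeK_sound fxs_1_0 i (Nat.zero_le _) hi

theorem fixws_2 : ∀ i < 3510, Fn.applyW X35 [1, 7, 1, 7] i = i := by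
  intro i hi
  exact fixRangeK_sound fxs_2_0 i (Nat.zero_le _) hi

theorem fixws_3 : ∀ i < 3510, Fn.applyW X35 [1, 5, 1, 5] i = i := by
  intro i hi
  exact fixRangeK_sound fxs_3_0 i (Nat.zero_le _) hi

theorem fixws_4 : ∀ i < 3510, Fn.applyW X35 [1, 2, 5, 3, 2, 1, 2, 3, 5, 2, 1, 2, 5, 3, 2, 1, 2, 3, 5, 2] i = i := by
  intro i hi
  exact fixRangeK_sound fxs_4_0 i (Nat.zero_le _) hi

theorem fixws_5 : ∀ i < 3510, Fn.applyW X35 [1, 4, 3, 2, 5, 7, 4, 3, 2, 1, 2, 3, 4, 7, 5, 2, 3, 4, 1, 4, 3, 2, 5, 7, 4, 3, 2, 1, 2, 3, 4, 7, 5, 2, 3, 4] i = i := by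
  intro i hi
  by_cases h0 : i < 1755
  · exact fixRangeK_sound fxs_5_0 i (Nat.zero_le _) h0
  exact fixRangeK_sound fxs_5_1 i (Nat.le_of_not_gt h0) hi

theorem fixws_6 : ∀ i < 3510, Fn.applyW X35 [1, 0, 1, 2, 5, 3, 4, 2, 3, 1, 2, 5, 7, 4, 3, 2, 1, 0, 1, 2, 3, 4, 7, 5, 2, 1, 3, 2, 4, 3, 5, 2, 1, 0, 1, 0, 1, 2, 5, 3, 4, 2, 3, 1, 2, 5, 7, 4, 3, 2, 1, 0, 1, 2, 3, 4, 7, 5, 2, 1, 3, 2, 4, 3, 5, 2, 1, 0] i = i := by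
  intro i hi
  by_cases h0 : i < 1170
  · exact fixRangeK_sound fxs_6_0 i (Nat.zero_le _) h0
  by_cases h1 : i < 2340
  · exact fixRangeK_sound fxs_6_1 i (Nat.le_of_not_gt h0) h1
  exact fixRangeK_sound fxs_6_2 i (Nat.le_of_not_gt h1) hi

theorem fixws_7 : ∀ i < 3510, Fn.applyW X35 [3, 1, 3, 1] i = i := by
  intro i hi
  exact fixRangeK_sound fxs_7_0 i (Nat.zero_le _) hi

theorem fixws_8 : ∀ i < 3510, Fn.applyW X35 [3, 3, 3, 3] i = i := by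
  intro i hi
  exact fixRangeK_sound fxs_8_0 i (Nat.zero_le _) hi

theorem fixws_9 : ∀ i < 3510, Fn.applyW X35 [3, 7, 3, 7] i = i := by
  intro i hi
  exact fixRangeK_sound fxs_9_0 i (Nat.zero_le _) hi

theorem fixws_10 : ∀ i < 3510, Fn.applyW X35 [3, 5, 3, 5] i = i := by
  intro i hi
  exact fixRangeK_sound fxs_10_0 i (Nat.zero_le _) hi

theorem fixws_11 : ∀ i < 3510, Fn.applyW X35 [3, 2, 5, 3, 2, 1, 2, 3, 5, 2, 3, 2, 5, 3, 2, 1, 2, 3, 5, 2] i = i := by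
  intro i hi
  exact fixRangeK_sound fxs_11_0 i (Nat.zero_le _) hi

theorem fixws_12 : ∀ i < 3510, Fn.applyW X35 [3, 4, 3, 2, 5, 7, 4, 3, 2, 1, 2, 3, 4, 7, 5, 2, 3, 4, 3, 4, 3, 2, 5, 7, 4, 3, 2, 1, 2, 3, 4, 7, 5, 2, 3, 4] i = i := by
  intro i hi
  by_cases h0 : i < 1755
  · exact fixRangeK_sound fxs_12_0 i (Nat.zero_le _) h0
  exact fixRangeK_sound fxs_12_1 i (Nat.le_of_not_gt h0) hi

theorem fixws_13 : ∀ i < 3510, Fn.applyW X35 [3, 0, 1, 2, 5, 3, 4, 2, 3, 1, 2, 5, 7, 4, 3, 2, 1, 0, 1, 2, 3, 4, 7, 5, 2, 1, 3, 2, 4, 3, 5, 2, 1, 0, 3, 0, 1, 2, 5, 3, 4, 2, 3, 1, 2, 5, 7, 4, 3, 2, 1, 0, 1, 2, 3, 4, 7, 5, 2, 1, 3, 2, 4, 3, 5, 2, 1, 0] i = i := by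
  intro i hi
  by_cases h0 : i < 1170
  · exact fixRangeK_sound fxs_13_0 i (Nat.zero_le _) h0
  by_cases h1 : i < 2340
  · exact fixRangeK_sound fxs_13_1 i (Nat.le_of_not_gt h0) h1
  exact fixRangeK_sound fxs_13_2 i (Nat.le_of_not_gt h1) hi

theorem fixws_14 : ∀ i < 3510, Fn.applyW X35 [7, 1, 7, 1] i = i := by
  intro i hi
  exact fixRangeK_sound fxs_14_0 i (Nat.zero_le _) hi

theorem fixws_15 : ∀ i < 3510, Fn.applyW X35 [7, 3, 7, 3] i = i := by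
  intro i hi
  exact fixRangeK_sound fxs_15_0 i (Nat.zero_le _) hi

theorem fixws_16 : ∀ i < 3510, Fn.applyW X35 [7, 7, 7, 7] i = i := by
  intro i hi
  exact fixRangeK_sound fxs_16_0 i (Nat.zero_le _) hi

theorem fixws_17 : ∀ i < 3510, Fn.applyW X35 [7, 5, 7, 5] i = i := by
  intro i hi
  exact fixRangeK_sound fxs_17_0 i (Nat.zero_le _) hi

theorem fixws_18 : ∀ i < 3510, Fn.applyW X35 [7, 2, 5, 3, 2, 1, 2, 3, 5, 2, 7, 2, 5, 3, 2, 1, 2, 3, 5, 2] i = i := by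
  intro i hi
  exact fixRangeK_sound fxs_18_0 i (Nat.zero_le _) hi

theorem fixws_19 : ∀ i < 3510, Fn.applyW X35 [7, 4, 3, 2, 5, 7, 4, 3, 2, 1, 2, 3, 4, 7, 5, 2, 3, 4, 7, 4, 3, 2, 5, 7, 4, 3, 2, 1, 2, 3, 4, 7, 5, 2, 3, 4] i = i := by
  intro i hi
  by_cases h0 : i < 1755
  · exact fixRangeK_sound fxs_19_0 i (Nat.zero_le _) h0
  exact fixRangeK_sound fxs_19_1 i (Nat.le_of_not_gt h0) hi

theorem fixws_20 : ∀ i < 3510, Fn.applyW X35 [7, 0, 1, 2, 5, 3, 4, 2, 3, 1, 2, 5, 7, 4, 3, 2, 1, 0, 1, 2, 3, 4, 7, 5, 2, 1, 3, 2, 4, 3, 5, 2, 1, 0, 7, 0, 1, 2, 5, 3, 4, 2, 3, 1, 2, 5, 7, 4, 3, 2, 1, 0, 1, 2, 3, 4, 7, 5, 2, 1, 3, 2, 4, 3, 5, 2, 1, 0] i = i := by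
  intro i hi
  by_cases h0 : i < 1170
  · exact fixRangeK_sound fxs_20_0 i (Nat.zero_le _) h0
  by_cases h1 : i < 2340
  · exact fixRangeK_sound fxs_20_1 i (Nat.le_of_not_gt h0) h1
  exact fixRangeK_sound fxs_20_2 i (Nat.le_of_not_gt h1) hi

theorem fixws_21 : ∀ i < 3510, Fn.applyW X35 [5, 1, 5, 1] i = i := by
  intro i hi
  exact fixRangeK_sound fxs_21_0 i (Nat.zero_le _) hi

theorem fixws_22 : ∀ i < 3510, Fn.applyW X35 [5, 3, 5, 3] i = i := by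
  intro i hi
  exact fixRangeK_sound fxs_22_0 i (Nat.zero_le _) hi

theorem fixws_23 : ∀ i < 3510, Fn.applyW X35 [5, 7, 5, 7] i = i := by
  intro i hi
  exact fixRangeK_sound fxs_23_0 i (Nat.zero_le _) hi

theorem fixws_24 : ∀ i < 3510, Fn.applyW X35 [5, 5, 5, 5] i = i := by
  intro i hi
  exact fixRangeK_sound fxs_24_0 i (Nat.zero_le _) hi

theorem fixws_25 : ∀ i < 3510, Fn.applyW X35 [5, 2, 5, 3, 2, 1, 2, 3, 5, 2, 5, 2, 5, 3, 2, 1, 2, 3, 5, 2] i = i := by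
  intro i hi
  exact fixRangeK_sound fxs_25_0 i (Nat.zero_le _) hi

theorem fixws_26 : ∀ i < 3510, Fn.applyW X35 [5, 4, 3, 2, 5, 7, 4, 3, 2, 1, 2, 3, 4, 7, 5, 2, 3, 4, 5, 4, 3, 2, 5, 7, 4, 3, 2, 1, 2, 3, 4, 7, 5, 2, 3, 4] i = i := by
  intro i hi
  by_cases h0 : i < 1755
  · exact fixRangeK_sound fxs_26_0 i (Nat.zero_le _) h0
  exact fixRangeK_sound fxs_26_1 i (Nat.le_of_not_gt h0) hi

theorem fixws_27 : ∀ i < 3510, Fn.applyW X35 [5, 0, 1, 2, 5, 3, 4, 2, 3, 1, 2, 5, 7, 4, 3, 2, 1, 0, 1, 2, 3, 4, 7, 5, 2, 1, 3, 2, 4, 3, 5, 2, 1, 0, 5, 0, 1, 2, 5, 3, 4, 2, 3, 1, 2, 5, 7, 4, 3, 2, 1, 0, 1, 2, 3, 4, 7, 5, 2, 1, 3, 2, 4, 3, 5, 2, 1, 0] i = i := by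
  intro i hi
  by_cases h0 : i < 1170
  · exact fixRangeK_sound fxs_27_0 i (Nat.zero_le _) h0
  by_cases h1 : i < 2340
  · exact fixRangeK_sound fxs_27_1 i (Nat.le_of_not_gt h0) h1
  exact fixRangeK_sound fxs_27_2 i (Nat.le_of_not_gt h1) hi

theorem fixws_28 : ∀ i < 3510, Fn.applyW X35 [2, 5, 3, 2, 1, 2, 3, 5, 2, 1, 2, 5, 3, 2, 1, 2, 3, 5, 2, 1] i = i := by
  intro i hi
  exact fixRangeK_sound fxs_28_0 i (Nat.zero_le _) hi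

theorem fixws_29 : ∀ i < 3510, Fn.applyW X35 [2, 5, 3, 2, 1, 2, 3, 5, 2, 3, 2, 5, 3, 2, 1, 2, 3, 5, 2, 3] i = i := by
  intro i hi
  exact fixRangeK_sound fxs_29_0 i (Nat.zero_le _) hi

theorem fixws_30 : ∀ i < 3510, Fn.applyW X35 [2, 5, 3, 2, 1, 2, 3, 5, 2, 7, 2, 5, 3, 2, 1, 2, 3, 5, 2, 7] i = i := by
  intro i hi
  exact fixRangeK_sound fxs_30_0 i (Nat.zero_le _) hi

theorem fixws_31 : ∀ i < 3510, Fn.applyW X35 [2, 5, 3, 2, 1, 2, 3, 5, 2, 5, 2, 5, 3, 2, 1, 2, 3, 5, 2, 5] i = i := by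
  intro i hi
  exact fixRangeK_sound fxs_31_0 i (Nat.zero_le _) hi

theorem fixws_32 : ∀ i < 3510, Fn.applyW X35 [2, 5, 3, 2, 1, 2, 3, 5, 2, 2, 5, 3, 2, 1, 2, 3, 5, 2, 2, 5, 3, 2, 1, 2, 3, 5, 2, 2, 5, 3, 2, 1, 2, 3, 5, 2] i = i := by
  intro i hi
  by_cases h0 : i < 1755
  · exact fixRangeK_sound fxs_32_0 i (Nat.zero_le _) h0
  exact fixRangeK_sound fxs_32_1 i (Nat.le_of_not_gt h0) hi

theorem fixws_33 : ∀ i < 3510, Fn.applyW X35 [2, 5, 3, 2, 1, 2, 3, 5, 2, 4, 3, 2, 5, 7, 4, 3, 2, 1, 2, 3, 4, 7, 5, 2, 3, 4, 2, 5, 3, 2, 1, 2, 3, 5, 2, 4, 3, 2, 5, 7, 4, 3, 2, 1, 2, 3, 4, 7, 5, 2, 3, 4] i = i := by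
  intro i hi
  by_cases h0 : i < 1755
  · exact fixRangeK_sound fxs_33_0 i (Nat.zero_le _) h0
  exact fixRangeK_sound fxs_33_1 i (Nat.le_of_not_gt h0) hi

theorem fixws_34 : ∀ i < 3510, Fn.applyW X35 [2, 5, 3, 2, 1, 2, 3, 5, 2, 0, 1, 2, 5, 3, 4, 2, 3, 1, 2, 5, 7, 4, 3, 2, 1, 0, 1, 2, 3, 4, 7, 5, 2, 1, 3, 2, 4, 3, 5, 2, 1, 0, 2, 5, 3, 2, 1, 2, 3, 5, 2, 0, 1, 2, 5, 3, 4, 2, 3, 1, 2, 5, 7, 4, 3, 2, 1, 0, 1, 2, 3, 4, 7, 5, 2, 1, 3, 2, 4, 3, 5, 2, 1, 0] i = i := by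
  intro i hi
  by_cases h0 : i < 1170
  · exact fixRangeK_sound fxs_34_0 i (Nat.zero_le _) h0
  by_cases h1 : i < 2340
  · exact fixRangeK_sound fxs_34_1 i (Nat.le_of_not_gt h0) h1
  exact fixRangeK_sound fxs_34_2 i (Nat.le_of_not_gt h1) hi

theorem fixws_35 : ∀ i < 3510, Fn.applyW X35 [4, 3, 2, 5, 7, 4, 3, 2, 1, 2, 3, 4, 7, 5, 2, 3, 4, 1, 4, 3, 2, 5, 7, 4, 3, 2, 1, 2, 3, 4, 7, 5, 2, 3, 4, 1] i = i := by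
  intro i hi
  by_cases h0 : i < 1755
  · exact fixRangeK_sound fxs_35_0 i (Nat.zero_le _) h0
  exact fixRangeK_sound fxs_35_1 i (Nat.le_of_not_gt h0) hi

theorem fixws_36 : ∀ i < 3510, Fn.applyW X35 [4, 3, 2, 5, 7, 4, 3, 2, 1, 2, 3, 4, 7, 5, 2, 3, 4, 3, 4, 3, 2, 5, 7, 4, 3, 2, 1, 2, 3, 4, 7, 5, 2, 3, 4, 3] i = i := by
  intro i hi
  by_cases h0 : i < 1755
  · exact fixRangeK_sound fxs_36_0 i (Nat.zero_le _) h0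
  exact fixRangeK_sound fxs_36_1 i (Nat.le_of_not_gt h0) hi

theorem fixws_37 : ∀ i < 3510, Fn.applyW X35 [4, 3, 2, 5, 7, 4, 3, 2, 1, 2, 3, 4, 7, 5, 2, 3, 4, 7, 4, 3, 2, 5, 7, 4, 3, 2, 1, 2, 3, 4, 7, 5, 2, 3, 4, 7] i = i := by
  intro i hi
  by_cases h0 : i < 1755
  · exact fixRangeK_sound fxs_37_0 i (Nat.zero_le _) h0
  exact fixRangeK_sound fxs_37_1 i (Nat.le_of_not_gt h0) hi

theorem fixws_38 : ∀ i < 3510, Fn.applyW X35 [4, 3, 2, 5, 7, 4, 3, 2, 1, 2, 3, 4, 7, 5, 2, 3, 4, 5, 4, 3, 2, 5, 7, 4, 3, 2, 1, 2, 3, 4, 7, 5, 2, 3, 4, 5] i = i := by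
  intro i hi
  by_cases h0 : i < 1755
  · exact fixRangeK_sound fxs_38_0 i (Nat.zero_le _) h0
  exact fixRangeK_sound fxs_38_1 i (Nat.le_of_not_gt h0) hi

theorem fixws_39 : ∀ i < 3510, Fn.applyW X35 [4, 3, 2, 5, 7, 4, 3, 2, 1, 2, 3, 4, 7, 5, 2, 3, 4, 2, 5, 3, 2, 1, 2, 3, 5, 2, 4, 3, 2, 5, 7, 4, 3, 2, 1, 2, 3, 4, 7, 5, 2, 3, 4, 2, 5, 3, 2, 1, 2, 3, 5, 2] i = i := by
  intro i hi
  by_cases h0 : i < 1755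
  · exact fixRangeK_sound fxs_39_0 i (Nat.zero_le _) h0
  exact fixRangeK_sound fxs_39_1 i (Nat.le_of_not_gt h0) hi

theorem fixws_40 : ∀ i < 3510, Fn.applyW X35 [4, 3, 2, 5, 7, 4, 3, 2, 1, 2, 3, 4, 7, 5, 2, 3, 4, 4, 3, 2, 5, 7, 4, 3, 2, 1, 2, 3, 4, 7, 5, 2, 3, 4, 4, 3, 2, 5, 7, 4, 3, 2, 1, 2, 3, 4, 7, 5, 2, 3, 4, 4, 3, 2, 5, 7, 4, 3, 2, 1, 2, 3, 4, 7, 5, 2, 3, 4] i = i := by
  intro i hi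
  by_cases h0 : i < 1170
  · exact fixRangeK_sound fxs_40_0 i (Nat.zero_le _) h0
  by_cases h1 : i < 2340
  · exact fixRangeK_sound fxs_40_1 i (Nat.le_of_not_gt h0) h1
  exact fixRangeK_sound fxs_40_2 i (Nat.le_of_not_gt h1) hi

theorem fixws_41 : ∀ i < 3510, Fn.applyW X35 [4, 3, 2, 5, 7, 4, 3, 2, 1, 2, 3, 4, 7, 5, 2, 3, 4, 0, 1, 2, 5, 3, 4, 2, 3, 1, 2, 5, 7, 4, 3, 2, 1, 0, 1, 2, 3, 4, 7, 5, 2, 1, 3, 2, 4, 3, 5, 2, 1, 0, 4, 3, 2, 5, 7, 4, 3, 2, 1, 2, 3, 4, 7, 5, 2, 3, 4, 0, 1, 2, 5, 3, 4, 2, 3, 1, 2, 5, 7, 4, 3, 2, 1, 0, 1, 2, 3, 4, 7, 5, 2, 1, 3, 2, 4, 3, 5, 2, 1, 0] i = i := by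
  intro i hi
  by_cases h0 : i < 878
  · exact fixRangeK_sound fxs_41_0 i (Nat.zero_le _) h0
  by_cases h1 : i < 1756
  · exact fixRangeK_sound fxs_41_1 i (Nat.le_of_not_gt h0) h1
  by_cases h2 : i < 2634
  · exact fixRangeK_sound fxs_41_2 i (Nat.le_of_not_gt h1) h2
  exact fixRangeK_sound fxs_41_3 i (Nat.le_of_not_gt h2) hi

theorem fixws_42 : ∀ i < 3510, Fn.applyW X35 [0, 1, 2, 5, 3, 4, 2, 3, 1, 2, 5, 7, 4, 3, 2, 1, 0, 1, 2, 3, 4, 7, 5, 2, 1, 3, 2, 4, 3, 5, 2, 1, 0, 1, 0, 1, 2, 5, 3, 4, 2, 3, 1, 2, 5, 7, 4, 3, 2, 1, 0, 1, 2, 3, 4, 7, 5, 2, 1, 3, 2, 4, 3, 5, 2, 1, 0, 1] i = i := by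
  intro i hi
  by_cases h0 : i < 1170
  · exact fixRangeK_sound fxs_42_0 i (Nat.zero_le _) h0
  by_cases h1 : i < 2340
  · exact fixRangeK_sound fxs_42_1 i (Nat.le_of_not_gt h0) h1
  exact fixRangeK_sound fxs_42_2 i (Nat.le_of_not_gt h1) hi

theorem fixws_43 : ∀ i < 3510, Fn.applyW X35 [0, 1, 2, 5, 3, 4, 2, 3, 1, 2, 5, 7, 4, 3, 2, 1, 0, 1, 2, 3, 4, 7, 5, 2, 1, 3, 2, 4, 3, 5, 2, 1, 0, 3, 0, 1, 2, 5, 3, 4, 2, 3, 1, 2, 5, 7, 4, 3, 2, 1, 0, 1, 2, 3, 4, 7, 5, 2, 1, 3, 2, 4, 3, 5, 2, 1, 0, 3] i = i := by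
  intro i hi
  by_cases h0 : i < 1170
  · exact fixRangeK_sound fxs_43_0 i (Nat.zero_le _) h0
  by_cases h1 : i < 2340
  · exact fixRangeK_sound fxs_43_1 i (Nat.le_of_not_gt h0) h1
  exact fixRangeK_sound fxs_43_2 i (Nat.le_of_not_gt h1) hi

theorem fixws_44 : ∀ i < 3510, Fn.applyW X35 [0, 1, 2, 5, 3, 4, 2, 3, 1, 2, 5, 7, 4, 3, 2, 1, 0, 1, 2, 3, 4, 7, 5, 2, 1, 3, 2, 4, 3, 5, 2, 1, 0, 7, 0, 1, 2, 5, 3, 4, 2, 3, 1, 2, 5, 7, 4, 3, 2, 1, 0, 1, 2, 3, 4, 7, 5, 2, 1, 3, 2, 4, 3, 5, 2, 1, 0, 7] i = i := by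
  intro i hi
  by_cases h0 : i < 1170
  · exact fixRangeK_sound fxs_44_0 i (Nat.zero_le _) h0
  by_cases h1 : i < 2340
  · exact fixRangeK_sound fxs_44_1 i (Nat.le_of_not_gt h0) h1
  exact fixRangeK_sound fxs_44_2 i (Nat.le_of_not_gt h1) hi

theorem fixws_45 : ∀ i < 3510, Fn.applyW X35 [0, 1, 2, 5, 3, 4, 2, 3, 1, 2, 5, 7, 4, 3, 2, 1, 0, 1, 2, 3, 4, 7, 5, 2, 1, 3, 2, 4, 3, 5, 2, 1, 0, 5, 0, 1, 2, 5, 3, 4, 2, 3, 1, 2, 5, 7, 4, 3, 2, 1, 0, 1, 2, 3, 4, 7, 5, 2, 1, 3, 2, 4, 3, 5, 2, 1, 0, 5] i = i := by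
  intro i hi
  by_cases h0 : i < 1170
  · exact fixRangeK_sound fxs_45_0 i (Nat.zero_le _) h0
  by_cases h1 : i < 2340
  · exact fixRangeK_sound fxs_45_1 i (Nat.le_of_not_gt h0) h1
  exact fixRangeK_sound fxs_45_2 i (Nat.le_of_not_gt h1) hi

theorem fixws_46 : ∀ i < 3510, Fn.applyW X35 [0, 1, 2, 5, 3, 4, 2, 3, 1, 2, 5, 7, 4, 3, 2, 1, 0, 1, 2, 3, 4, 7, 5, 2, 1, 3, 2, 4, 3, 5, 2, 1, 0, 2, 5, 3, 2, 1, 2, 3, 5, 2, 0, 1, 2, 5, 3, 4, 2, 3, 1, 2, 5, 7, 4, 3, 2, 1, 0, 1, 2, 3, 4, 7, 5, 2, 1, 3, 2, 4, 3, 5, 2, 1, 0, 2, 5, 3, 2, 1, 2, 3, 5, 2] i = i := by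
  intro i hi
  by_cases h0 : i < 1170
  · exact fixRangeK_sound fxs_46_0 i (Nat.zero_le _) h0
  by_cases h1 : i < 2340
  · exact fixRangeK_sound fxs_46_1 i (Nat.le_of_not_gt h0) h1
  exact fixRangeK_sound fxs_46_2 i (Nat.le_of_not_gt h1) hi

theorem fixws_47 : ∀ i < 3510, Fn.applyW X35 [0, 1, 2, 5, 3, 4, 2, 3, 1, 2, 5, 7, 4, 3, 2, 1, 0, 1, 2, 3, 4, 7, 5, 2, 1, 3, 2, 4, 3, 5, 2, 1, 0, 4, 3, 2, 5, 7, 4, 3, 2, 1, 2, 3, 4, 7, 5, 2, 3, 4, 0, 1, 2, 5, 3, 4, 2, 3, 1, 2, 5, 7, 4, 3, 2, 1, 0, 1, 2, 3, 4, 7, 5, 2, 1, 3, 2, 4, 3, 5, 2, 1, 0, 4, 3, 2, 5, 7, 4, 3, 2, 1, 2, 3, 4, 7, 5, 2, 3, 4] i = i := by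
  intro i hi
  by_cases h0 : i < 878
  · exact fixRangeK_sound fxs_47_0 i (Nat.zero_le _) h0
  by_cases h1 : i < 1756
  · exact fixRangeK_sound fxs_47_1 i (Nat.le_of_not_gt h0) h1
  by_cases h2 : i < 2634
  · exact fixRangeK_sound fxs_47_2 i (Nat.le_of_not_gt h1) h2
  exact fixRangeK_sound fxs_47_3 i (Nat.le_of_not_gt h2) hi

theorem fixws_48 : ∀ i < 3510, Fn.applyW X35 [0, 1, 2, 5, 3, 4, 2, 3, 1, 2, 5, 7, 4, 3, 2, 1, 0, 1, 2, 3, 4, 7, 5, 2, 1, 3, 2, 4, 3, 5, 2, 1, 0, 0, 1, 2, 5, 3, 4, 2, 3, 1, 2, 5, 7, 4, 3, 2, 1, 0, 1, 2, 3, 4, 7, 5, 2, 1, 3, 2, 4, 3, 5, 2, 1, 0, 0, 1, 2, 5, 3, 4, 2, 3, 1, 2, 5, 7, 4, 3, 2, 1, 0, 1, 2, 3, 4, 7, 5, 2, 1, 3, 2, 4, 3, 5, 2, 1, 0, 0, 1, 2, 5, 3, 4, 2, 3, 1, 2, 5, 7, 4, 3, 2, 1, 0, 1, 2, 3, 4, 7, 5, 2, 1, 3, 2, 4, 3, 5, 2, 1, 0] i = i := by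
  intro i hi
  by_cases h0 : i < 702
  · exact fixRangeK_sound fxs_48_0 i (Nat.zero_le _) h0
  by_cases h1 : i < 1404
  · exact fixRangeK_sound fxs_48_1 i (Nat.le_of_not_gt h0) h1
  by_cases h2 : i < 2106
  · exact fixRangeK_sound fxs_48_2 i (Nat.le_of_not_gt h1) h2
  by_cases h3 : i < 2808
  · exact fixRangeK_sound fxs_48_3 i (Nat.le_of_not_gt h2) h3
  exact fixRangeK_sound fxs_48_4 i (Nat.le_of_not_gt h3) hi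

theorem fixws_49 : ∀ i < 3510, Fn.applyW X35 [8, 8, 8, 8] i = i := by
  intro i hi
  exact fixRangeK_sound fxs_49_0 i (Nat.zero_le _) hi

theorem fixws_50 : ∀ i < 3510, Fn.applyW X35 [8, 1, 8, 1] i = i := by
  intro i hi
  exact fixRangeK_sound fxs_50_0 i (Nat.zero_le _) hi

theorem fixws_51 : ∀ i < 3510, Fn.applyW X35 [8, 3, 8, 3] i = i := by
  intro i hi
  exact fixRangeK_sound fxs_51_0 i (Nat.zero_le _) hi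

theorem fixws_52 : ∀ i < 3510, Fn.applyW X35 [8, 5, 8, 5] i = i := by
  intro i hi
  exact fixRangeK_sound fxs_52_0 i (Nat.zero_le _) hi

theorem fixws_53 : ∀ i < 3510, Fn.applyW X35 [8, 2, 5, 3, 2, 1, 2, 3, 5, 2, 8, 2, 5, 3, 2, 1, 2, 3, 5, 2] i = i := by
  intro i hi
  exact fixRangeK_sound fxs_53_0 i (Nat.zero_le _) hi

theorem fixws_54 : ∀ i < 3510, Fn.applyW X35 [8, 0, 1, 2, 5, 3, 2, 1, 0, 8, 0, 1, 2, 3, 5, 2, 1, 0, 8, 0, 1, 2, 5, 3, 2, 1, 0, 8, 0, 1, 2, 3, 5, 2, 1, 0] i = i := by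
  intro i hi
  by_cases h0 : i < 1755
  · exact fixRangeK_sound fxs_54_0 i (Nat.zero_le _) h0
  exact fixRangeK_sound fxs_54_1 i (Nat.le_of_not_gt h0) hi

theorem fixws_55 : ∀ i < 3510, Fn.applyW X35 [8, 4, 3, 2, 5, 1, 2, 3, 0, 1, 2, 5, 4, 3, 2, 1, 0, 8, 0, 1, 2, 3, 4, 5, 2, 1, 0, 3, 2, 1, 5, 2, 3, 4, 8, 4, 3, 2, 5, 1, 2, 3, 0, 1, 2, 5, 4, 3, 2, 1, 0, 8, 0, 1, 2, 3, 4, 5, 2, 1, 0, 3, 2, 1, 5, 2, 3, 4] i = i := by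
  intro i hi
  by_cases h0 : i < 1170
  · exact fixRangeK_sound fxs_55_0 i (Nat.zero_le _) h0
  by_cases h1 : i < 2340
  · exact fixRangeK_sound fxs_55_1 i (Nat.le_of_not_gt h0) h1
  exact fixRangeK_sound fxs_55_2 i (Nat.le_of_not_gt h1) hi

theorem fixws_56 : ∀ i < 3510, Fn.applyW X35 [1, 8, 1, 8] i = i := by
  intro i hi
  exact fixRangeK_sound fxs_56_0 i (Nat.zero_le _) hi

theorem fixws_57 : ∀ i < 3510, Fn.applyW X35 [1, 1, 1, 1] i = i := by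
  intro i hi
  exact fixRangeK_sound fxs_57_0 i (Nat.zero_le _) hi

theorem fixws_58 : ∀ i < 3510, Fn.applyW X35 [1, 3, 1, 3] i = i := by
  intro i hi
  exact fixRangeK_sound fxs_58_0 i (Nat.zero_le _) hi

theorem fixws_59 : ∀ i < 3510, Fn.applyW X35 [1, 5, 1, 5] i = i := by
  intro i hi
  exact fixRangeK_sound fxs_59_0 i (Nat.zero_le _) hi

theorem fixws_60 : ∀ i < 3510, Fn.applyW X35 [1, 2, 5, 3, 2, 1, 2, 3, 5, 2, 1, 2, 5, 3, 2, 1, 2, 3, 5, 2] i = i := by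
  intro i hi
  exact fixRangeK_sound fxs_60_0 i (Nat.zero_le _) hi

theorem fixws_61 : ∀ i < 3510, Fn.applyW X35 [1, 0, 1, 2, 5, 3, 2, 1, 0, 8, 0, 1, 2, 3, 5, 2, 1, 0, 1, 0, 1, 2, 5, 3, 2, 1, 0, 8, 0, 1, 2, 3, 5, 2, 1, 0] i = i := by
  intro i hi
  by_cases h0 : i < 1755
  · exact fixRangeK_sound fxs_61_0 i (Nat.zero_le _) h0
  exact fixRangeK_sound fxs_61_1 i (Nat.le_of_not_gt h0) hi

theorem fixws_62 : ∀ i < 3510, Fn.applyW X35 [1, 4, 3, 2, 5, 1, 2, 3, 0, 1, 2, 5, 4, 3, 2, 1, 0, 8, 0, 1, 2, 3, 4, 5, 2, 1, 0, 3, 2, 1, 5, 2, 3, 4, 1, 4, 3, 2, 5, 1, 2, 3, 0, 1, 2, 5, 4, 3, 2, 1, 0, 8, 0, 1, 2, 3, 4, 5, 2, 1, 0, 3, 2, 1, 5, 2, 3, 4] i = i := by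
  intro i hi
  by_cases h0 : i < 1170
  · exact fixRangeK_sound fxs_62_0 i (Nat.zero_le _) h0
  by_cases h1 : i < 2340
  · exact fixRangeK_sound fxs_62_1 i (Nat.le_of_not_gt h0) h1
  exact fixRangeK_sound fxs_62_2 i (Nat.le_of_not_gt h1) hi

theorem fixws_63 : ∀ i < 3510, Fn.applyW X35 [3, 8, 3, 8] i = i := by
  intro i hi
  exact fixRangeK_sound fxs_63_0 i (Nat.zero_le _) hi

theorem fixws_64 : ∀ i < 3510, Fn.applyW X35 [3, 1, 3, 1] i = i := by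
  intro i hi
  exact fixRangeK_sound fxs_64_0 i (Nat.zero_le _) hi

theorem fixws_65 : ∀ i < 3510, Fn.applyW X35 [3, 3, 3, 3] i = i := by
  intro i hi
  exact fixRangeK_sound fxs_65_0 i (Nat.zero_le _) hi

theorem fixws_66 : ∀ i < 3510, Fn.applyW X35 [3, 5, 3, 5] i = i := by
  intro i hi
  exact fixRangeK_sound fxs_66_0 i (Nat.zero_le _) hi

theorem fixws_67 : ∀ i < 3510, Fn.applyW X35 [3, 2, 5, 3, 2, 1, 2, 3, 5, 2, 3, 2, 5, 3, 2, 1, 2, 3, 5, 2] i = i := by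
  intro i hi
  exact fixRangeK_sound fxs_67_0 i (Nat.zero_le _) hi

theorem fixws_68 : ∀ i < 3510, Fn.applyW X35 [3, 0, 1, 2, 5, 3, 2, 1, 0, 8, 0, 1, 2, 3, 5, 2, 1, 0, 3, 0, 1, 2, 5, 3, 2, 1, 0, 8, 0, 1, 2, 3, 5, 2, 1, 0] i = i := by
  intro i hi
  by_cases h0 : i < 1755
  · exact fixRangeK_sound fxs_68_0 i (Nat.zero_le _) h0
  exact fixRangeK_sound fxs_68_1 i (Nat.le_of_not_gt h0) hi

theorem fixws_69 : ∀ i < 3510, Fn.applyW X35 [3, 4, 3, 2, 5, 1, 2, 3, 0, 1, 2, 5, 4, 3, 2, 1, 0, 8, 0, 1, 2, 3, 4, 5, 2, 1, 0, 3, 2, 1, 5, 2, 3, 4, 3, 4, 3, 2, 5, 1, 2, 3, 0, 1, 2, 5, 4, 3, 2, 1, 0, 8, 0, 1, 2, 3, 4, 5, 2, 1, 0, 3, 2, 1, 5, 2, 3, 4] i = i := by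
  intro i hi
  by_cases h0 : i < 1170
  · exact fixRangeK_sound fxs_69_0 i (Nat.zero_le _) h0
  by_cases h1 : i < 2340
  · exact fixRangeK_sound fxs_69_1 i (Nat.le_of_not_gt h0) h1
  exact fixRangeK_sound fxs_69_2 i (Nat.le_of_not_gt h1) hi

theorem fixws_70 : ∀ i < 3510, Fn.applyW X35 [5, 8, 5, 8] i = i := by
  intro i hi
  exact fixRangeK_sound fxs_70_0 i (Nat.zero_le _) hi

theorem fixws_71 : ∀ i < 3510, Fn.applyW X35 [5, 1, 5, 1] i = i := by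
  intro i hi
  exact fixRangeK_sound fxs_71_0 i (Nat.zero_le _) hi

theorem fixws_72 : ∀ i < 3510, Fn.applyW X35 [5, 3, 5, 3] i = i := by
  intro i hi
  exact fixRangeK_sound fxs_72_0 i (Nat.zero_le _) hi

theorem fixws_73 : ∀ i < 3510, Fn.applyW X35 [5, 5, 5, 5] i = i := by
  intro i hi
  exact fixRangeK_sound fxs_73_0 i (Nat.zero_le _) hi

theorem fixws_74 : ∀ i < 3510, Fn.applyW X35 [5, 2, 5, 3, 2, 1, 2, 3, 5, 2, 5, 2, 5, 3, 2, 1, 2, 3, 5, 2] i = i := by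
  intro i hi
  exact fixRangeK_sound fxs_74_0 i (Nat.zero_le _) hi

theorem fixws_75 : ∀ i < 3510, Fn.applyW X35 [5, 0, 1, 2, 5, 3, 2, 1, 0, 8, 0, 1, 2, 3, 5, 2, 1, 0, 5, 0, 1, 2, 5, 3, 2, 1, 0, 8, 0, 1, 2, 3, 5, 2, 1, 0] i = i := by
  intro i hi
  by_cases h0 : i < 1755
  · exact fixRangeK_sound fxs_75_0 i (Nat.zero_le _) h0
  exact fixRangeK_sound fxs_75_1 i (Nat.le_of_not_gt h0) hi

theorem fixws_76 : ∀ i < 3510, Fn.applyW X35 [5, 4, 3, 2, 5, 1, 2, 3, 0, 1, 2, 5, 4, 3, 2, 1, 0, 8, 0, 1, 2, 3, 4, 5, 2, 1, 0, 3, 2, 1, 5, 2, 3, 4, 5, 4, 3, 2, 5, 1, 2, 3, 0, 1, 2, 5, 4, 3, 2, 1, 0, 8, 0, 1, 2, 3, 4, 5, 2, 1, 0, 3, 2, 1, 5, 2, 3, 4] i = i := by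
  intro i hi
  by_cases h0 : i < 1170
  · exact fixRangeK_sound fxs_76_0 i (Nat.zero_le _) h0
  by_cases h1 : i < 2340
  · exact fixRangeK_sound fxs_76_1 i (Nat.le_of_not_gt h0) h1
  exact fixRangeK_sound fxs_76_2 i (Nat.le_of_not_gt h1) hi

theorem fixws_77 : ∀ i < 3510, Fn.applyW X35 [2, 5, 3, 2, 1, 2, 3, 5, 2, 8, 2, 5, 3, 2, 1, 2, 3, 5, 2, 8] i = i := by
  intro i hi
  exact fixRangeK_sound fxs_77_0 i (Nat.zero_le _) hi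

theorem fixws_78 : ∀ i < 3510, Fn.applyW X35 [2, 5, 3, 2, 1, 2, 3, 5, 2, 1, 2, 5, 3, 2, 1, 2, 3, 5, 2, 1] i = i := by
  intro i hi
  exact fixRangeK_sound fxs_78_0 i (Nat.zero_le _) hi

theorem fixws_79 : ∀ i < 3510, Fn.applyW X35 [2, 5, 3, 2, 1, 2, 3, 5, 2, 3, 2, 5, 3, 2, 1, 2, 3, 5, 2, 3] i = i := by
  intro i hi
  exact fixRangeK_sound fxs_79_0 i (Nat.zero_le _) hi

theorem fixws_80 : ∀ i < 3510, Fn.applyW X35 [2, 5, 3, 2, 1, 2, 3, 5, 2, 5, 2, 5, 3, 2, 1, 2, 3, 5, 2, 5] i = i := by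
  intro i hi
  exact fixRangeK_sound fxs_80_0 i (Nat.zero_le _) hi

theorem fixws_81 : ∀ i < 3510, Fn.applyW X35 [2, 5, 3, 2, 1, 2, 3, 5, 2, 2, 5, 3, 2, 1, 2, 3, 5, 2, 2, 5, 3, 2, 1, 2, 3, 5, 2, 2, 5, 3, 2, 1, 2, 3, 5, 2] i = i := by
  intro i hi
  by_cases h0 : i < 1755
  · exact fixRangeK_sound fxs_81_0 i (Nat.zero_le _) h0
  exact fixRangeK_sound fxs_81_1 i (Nat.le_of_not_gt h0) hi

theorem fixws_82 : ∀ i < 3510, Fn.applyW X35 [2, 5, 3, 2, 1, 2, 3, 5, 2, 0, 1, 2, 5, 3, 2, 1, 0, 8, 0, 1, 2, 3, 5, 2, 1, 0, 2, 5, 3, 2, 1, 2, 3, 5, 2, 0, 1, 2, 5, 3, 2, 1, 0, 8, 0, 1, 2, 3, 5, 2, 1, 0] i = i := by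
  intro i hi
  by_cases h0 : i < 1755
  · exact fixRangeK_sound fxs_82_0 i (Nat.zero_le _) h0
  exact fixRangeK_sound fxs_82_1 i (Nat.le_of_not_gt h0) hi

theorem fixws_83 : ∀ i < 3510, Fn.applyW X35 [2, 5, 3, 2, 1, 2, 3, 5, 2, 4, 3, 2, 5, 1, 2, 3, 0, 1, 2, 5, 4, 3, 2, 1, 0, 8, 0, 1, 2, 3, 4, 5, 2, 1, 0, 3, 2, 1, 5, 2, 3, 4, 2, 5, 3, 2, 1, 2, 3, 5, 2, 4, 3, 2, 5, 1, 2, 3, 0, 1, 2, 5, 4, 3, 2, 1, 0, 8, 0, 1, 2, 3, 4, 5, 2, 1, 0, 3, 2, 1, 5, 2, 3, 4] i = i := by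
  intro i hi
  by_cases h0 : i < 1170
  · exact fixRangeK_sound fxs_83_0 i (Nat.zero_le _) h0
  by_cases h1 : i < 2340
  · exact fixRangeK_sound fxs_83_1 i (Nat.le_of_not_gt h0) h1
  exact fixRangeK_sound fxs_83_2 i (Nat.le_of_not_gt h1) hi

theorem fixws_84 : ∀ i < 3510, Fn.applyW X35 [0, 1, 2, 5, 3, 2, 1, 0, 8, 0, 1, 2, 3, 5, 2, 1, 0, 8, 0, 1, 2, 5, 3, 2, 1, 0, 8, 0, 1, 2, 3, 5, 2, 1, 0, 8] i = i := by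
  intro i hi
  by_cases h0 : i < 1755
  · exact fixRangeK_sound fxs_84_0 i (Nat.zero_le _) h0
  exact fixRangeK_sound fxs_84_1 i (Nat.le_of_not_gt h0) hi

theorem fixws_85 : ∀ i < 3510, Fn.applyW X35 [0, 1, 2, 5, 3, 2, 1, 0, 8, 0, 1, 2, 3, 5, 2, 1, 0, 1, 0, 1, 2, 5, 3, 2, 1, 0, 8, 0, 1, 2, 3, 5, 2, 1, 0, 1] i = i := by
  intro i hi
  by_cases h0 : i < 1755
  · exact fixRangeK_sound fxs_85_0 i (Nat.zero_le _) h0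
  exact fixRangeK_sound fxs_85_1 i (Nat.le_of_not_gt h0) hi

theorem fixws_86 : ∀ i < 3510, Fn.applyW X35 [0, 1, 2, 5, 3, 2, 1, 0, 8, 0, 1, 2, 3, 5, 2, 1, 0, 3, 0, 1, 2, 5, 3, 2, 1, 0, 8, 0, 1, 2, 3, 5, 2, 1, 0, 3] i = i := by
  intro i hi
  by_cases h0 : i < 1755
  · exact fixRangeK_sound fxs_86_0 i (Nat.zero_le _) h0
  exact fixRangeK_sound fxs_86_1 i (Nat.le_of_not_gt h0) hi

theorem fixws_87 : ∀ i < 3510, Fn.applyW X35 [0, 1, 2, 5, 3, 2, 1, 0, 8, 0, 1, 2, 3, 5, 2, 1, 0, 5, 0, 1, 2, 5, 3, 2, 1, 0, 8, 0, 1, 2, 3, 5, 2, 1, 0, 5] i = i := by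
  intro i hi
  by_cases h0 : i < 1755
  · exact fixRangeK_sound fxs_87_0 i (Nat.zero_le _) h0
  exact fixRangeK_sound fxs_87_1 i (Nat.le_of_not_gt h0) hi

theorem fixws_88 : ∀ i < 3510, Fn.applyW X35 [0, 1, 2, 5, 3, 2, 1, 0, 8, 0, 1, 2, 3, 5, 2, 1, 0, 2, 5, 3, 2, 1, 2, 3, 5, 2, 0, 1, 2, 5, 3, 2, 1, 0, 8, 0, 1, 2, 3, 5, 2, 1, 0, 2, 5, 3, 2, 1, 2, 3, 5, 2] i = i := by
  intro i hi
  by_cases h0 : i < 1755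
  · exact fixRangeK_sound fxs_88_0 i (Nat.zero_le _) h0
  exact fixRangeK_sound fxs_88_1 i (Nat.le_of_not_gt h0) hi

theorem fixws_89 : ∀ i < 3510, Fn.applyW X35 [0, 1, 2, 5, 3, 2, 1, 0, 8, 0, 1, 2, 3, 5, 2, 1, 0, 0, 1, 2, 5, 3, 2, 1, 0, 8, 0, 1, 2, 3, 5, 2, 1, 0, 0, 1, 2, 5, 3, 2, 1, 0, 8, 0, 1, 2, 3, 5, 2, 1, 0, 0, 1, 2, 5, 3, 2, 1, 0, 8, 0, 1, 2, 3, 5, 2, 1, 0] i = i := by
  intro i hi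
  by_cases h0 : i < 1170
  · exact fixRangeK_sound fxs_89_0 i (Nat.zero_le _) h0
  by_cases h1 : i < 2340
  · exact fixRangeK_sound fxs_89_1 i (Nat.le_of_not_gt h0) h1
  exact fixRangeK_sound fxs_89_2 i (Nat.le_of_not_gt h1) hi

theorem fixws_90 : ∀ i < 3510, Fn.applyW X35 [0, 1, 2, 5, 3, 2, 1, 0, 8, 0, 1, 2, 3, 5, 2, 1, 0, 4, 3, 2, 5, 1, 2, 3, 0, 1, 2, 5, 4, 3, 2, 1, 0, 8, 0, 1, 2, 3, 4, 5, 2, 1, 0, 3, 2, 1, 5, 2, 3, 4, 0, 1, 2, 5, 3, 2, 1, 0, 8, 0, 1, 2, 3, 5, 2, 1, 0, 4, 3, 2, 5, 1, 2, 3, 0, 1, 2, 5, 4, 3, 2, 1, 0, 8, 0, 1, 2, 3, 4, 5, 2, 1, 0, 3, 2, 1, 5, 2, 3, 4] i = i := by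
  intro i hi
  by_cases h0 : i < 878
  · exact fixRangeK_sound fxs_90_0 i (Nat.zero_le _) h0
  by_cases h1 : i < 1756
  · exact fixRangeK_sound fxs_90_1 i (Nat.le_of_not_gt h0) h1
  by_cases h2 : i < 2634
  · exact fixRangeK_sound fxs_90_2 i (Nat.le_of_not_gt h1) h2
  exact fixRangeK_sound fxs_90_3 i (Nat.le_of_not_gt h2) hi

theorem fixws_91 : ∀ i < 3510, Fn.applyW X35 [4, 3, 2, 5, 1, 2, 3, 0, 1, 2, 5, 4, 3, 2, 1, 0, 8, 0, 1, 2, 3, 4, 5, 2, 1, 0, 3, 2, 1, 5, 2, 3, 4, 8, 4, 3, 2, 5, 1, 2, 3, 0, 1, 2, 5, 4, 3, 2, 1, 0, 8, 0, 1, 2, 3, 4, 5, 2, 1, 0, 3, 2, 1, 5, 2, 3, 4, 8] i = i := by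
  intro i hi
  by_cases h0 : i < 1170
  · exact fixRangeK_sound fxs_91_0 i (Nat.zero_le _) h0
  by_cases h1 : i < 2340
  · exact fixRangeK_sound fxs_91_1 i (Nat.le_of_not_gt h0) h1
  exact fixRangeK_sound fxs_91_2 i (Nat.le_of_not_gt h1) hi

theorem fixws_92 : ∀ i < 3510, Fn.applyW X35 [4, 3, 2, 5, 1, 2, 3, 0, 1, 2, 5, 4, 3, 2, 1, 0, 8, 0, 1, 2, 3, 4, 5, 2, 1, 0, 3, 2, 1, 5, 2, 3, 4, 1, 4, 3, 2, 5, 1, 2, 3, 0, 1, 2, 5, 4, 3, 2, 1, 0, 8, 0, 1, 2, 3, 4, 5, 2, 1, 0, 3, 2, 1, 5, 2, 3, 4, 1] i = i := by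
  intro i hi
  by_cases h0 : i < 1170
  · exact fixRangeK_sound fxs_92_0 i (Nat.zero_le _) h0
  by_cases h1 : i < 2340
  · exact fixRangeK_sound fxs_92_1 i (Nat.le_of_not_gt h0) h1
  exact fixRangeK_sound fxs_92_2 i (Nat.le_of_not_gt h1) hi

theorem fixws_93 : ∀ i < 3510, Fn.applyW X35 [4, 3, 2, 5, 1, 2, 3, 0, 1, 2, 5, 4, 3, 2, 1, 0, 8, 0, 1, 2, 3, 4, 5, 2, 1, 0, 3, 2, 1, 5, 2, 3, 4, 3, 4, 3, 2, 5, 1, 2, 3, 0, 1, 2, 5, 4, 3, 2, 1, 0, 8, 0, 1, 2, 3, 4, 5, 2, 1, 0, 3, 2, 1, 5, 2, 3, 4, 3] i = i := by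
  intro i hi
  by_cases h0 : i < 1170
  · exact fixRangeK_sound fxs_93_0 i (Nat.zero_le _) h0
  by_cases h1 : i < 2340
  · exact fixRangeK_sound fxs_93_1 i (Nat.le_of_not_gt h0) h1
  exact fixRangeK_sound fxs_93_2 i (Nat.le_of_not_gt h1) hi

theorem fixws_94 : ∀ i < 3510, Fn.applyW X35 [4, 3, 2, 5, 1, 2, 3, 0, 1, 2, 5, 4, 3, 2, 1, 0, 8, 0, 1, 2, 3, 4, 5, 2, 1, 0, 3, 2, 1, 5, 2, 3, 4, 5, 4, 3, 2, 5, 1, 2, 3, 0, 1, 2, 5, 4, 3, 2, 1, 0, 8, 0, 1, 2, 3, 4, 5, 2, 1, 0, 3, 2, 1, 5, 2, 3, 4, 5] i = i := by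
  intro i hi
  by_cases h0 : i < 1170
  · exact fixRangeK_sound fxs_94_0 i (Nat.zero_le _) h0
  by_cases h1 : i < 2340
  · exact fixRangeK_sound fxs_94_1 i (Nat.le_of_not_gt h0) h1
  exact fixRangeK_sound fxs_94_2 i (Nat.le_of_not_gt h1) hi

theorem fixws_95 : ∀ i < 3510, Fn.applyW X35 [4, 3, 2, 5, 1, 2, 3, 0, 1, 2, 5, 4, 3, 2, 1, 0, 8, 0, 1, 2, 3, 4, 5, 2, 1, 0, 3, 2, 1, 5, 2, 3, 4, 2, 5, 3, 2, 1, 2, 3, 5, 2, 4, 3, 2, 5, 1, 2, 3, 0, 1, 2, 5, 4, 3, 2, 1, 0, 8, 0, 1, 2, 3, 4, 5, 2, 1, 0, 3, 2, 1, 5, 2, 3, 4, 2, 5, 3, 2, 1, 2, 3, 5, 2] i = i := by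
  intro i hi
  by_cases h0 : i < 1170
  · exact fixRangeK_sound fxs_95_0 i (Nat.zero_le _) h0
  by_cases h1 : i < 2340
  · exact fixRangeK_sound fxs_95_1 i (Nat.le_of_not_gt h0) h1
  exact fixRangeK_sound fxs_95_2 i (Nat.le_of_not_gt h1) hi

theorem fixws_96 : ∀ i < 3510, Fn.applyW X35 [4, 3, 2, 5, 1, 2, 3, 0, 1, 2, 5, 4, 3, 2, 1, 0, 8, 0, 1, 2, 3, 4, 5, 2, 1, 0, 3, 2, 1, 5, 2, 3, 4, 0, 1, 2, 5, 3, 2, 1, 0, 8, 0, 1, 2, 3, 5, 2, 1, 0, 4, 3, 2, 5, 1, 2, 3, 0, 1, 2, 5, 4, 3, 2, 1, 0, 8, 0, 1, 2, 3, 4, 5, 2, 1, 0, 3, 2, 1, 5, 2, 3, 4, 0, 1, 2, 5, 3, 2, 1, 0, 8, 0, 1, 2, 3, 5, 2, 1, 0] i = i := by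
  intro i hi
  by_cases h0 : i < 878
  · exact fixRangeK_sound fxs_96_0 i (Nat.zero_le _) h0
  by_cases h1 : i < 1756
  · exact fixRangeK_sound fxs_96_1 i (Nat.le_of_not_gt h0) h1
  by_cases h2 : i < 2634
  · exact fixRangeK_sound fxs_96_2 i (Nat.le_of_not_gt h1) h2
  exact fixRangeK_sound fxs_96_3 i (Nat.le_of_not_gt h2) hi

theorem fixws_97 : ∀ i < 3510, Fn.applyW X35 [4, 3, 2, 5, 1, 2, 3, 0, 1, 2, 5, 4, 3, 2, 1, 0, 8, 0, 1, 2, 3, 4, 5, 2, 1, 0, 3, 2, 1, 5, 2, 3, 4, 4, 3, 2, 5, 1, 2, 3, 0, 1, 2, 5, 4, 3, 2, 1, 0, 8, 0, 1, 2, 3, 4, 5, 2, 1, 0, 3, 2, 1, 5, 2, 3, 4, 4, 3, 2, 5, 1, 2, 3, 0, 1, 2, 5, 4, 3, 2, 1, 0, 8, 0, 1, 2, 3, 4, 5, 2, 1, 0, 3, 2, 1, 5, 2, 3, 4, 4, 3, 2, 5, 1, 2, 3, 0, 1, 2, 5, 4, 3, 2, 1, 0, 8, 0, 1, 2, 3, 4, 5, 2, 1, 0, 3, 2, 1, 5, 2, 3, 4] i = i := by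
  intro i hi
  by_cases h0 : i < 702
  · exact fixRangeK_sound fxs_97_0 i (Nat.zero_le _) h0
  by_cases h1 : i < 1404
  · exact fixRangeK_sound fxs_97_1 i (Nat.le_of_not_gt h0) h1
  by_cases h2 : i < 2106
  · exact fixRangeK_sound fxs_97_2 i (Nat.le_of_not_gt h1) h2
  by_cases h3 : i < 2808
  · exact fixRangeK_sound fxs_97_3 i (Nat.le_of_not_gt h2) h3
  exact fixRangeK_sound fxs_97_4 i (Nat.le_of_not_gt h3) hi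

theorem sides35_split : CertsI.sides9 =
    ([[1, 1, 1, 1], [1, 3, 1, 3], [1, 7, 1, 7], [1, 5, 1, 5], [1, 2, 5, 3, 2, 1, 2, 3, 5, 2, 1, 2, 5, 3, 2, 1, 2, 3, 5, 2], [1, 4, 3, 2, 5, 7, 4, 3, 2, 1, 2, 3, 4, 7, 5, 2, 3, 4, 1, 4, 3, 2, 5, 7, 4, 3, 2, 1, 2, 3, 4, 7, 5, 2, 3, 4], [1, 0, 1, 2, 5, 3, 4, 2, 3, 1, 2, 5, 7, 4, 3, 2, 1, 0, 1, 2, 3, 4, 7, 5, 2, 1, 3, 2, 4, 3, 5, 2, 1, 0, 1, 0, 1, 2, 5, 3, 4, 2, 3, 1, 2, 5, 7, 4, 3, 2, 1, 0, 1, 2, 3, 4, 7, 5, 2, 1, 3, 2, 4, 3, 5, 2, 1, 0], [3, 1, 3, 1], [3, 3, 3, 3], [3, 7, 3, 7], [3, 5, 3, 5], [3, 2, 5, 3, 2, 1, 2, 3, 5, 2, 3, 2, 5, 3, 2, 1, 2, 3, 5, 2], [3, 4, 3, 2, 5, 7, 4, 3, 2, 1, 2, 3, 4, 7, 5, 2, 3, 4, 3, 4, 3, 2, 5, 7, 4, 3, 2, 1, 2, 3, 4, 7, 5, 2, 3, 4], [3, 0, 1, 2, 5, 3, 4, 2, 3, 1, 2, 5, 7, 4, 3, 2, 1, 0, 1, 2, 3, 4, 7, 5,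 2, 1, 3, 2, 4, 3, 5, 2, 1, 0, 3, 0, 1, 2, 5, 3, 4, 2, 3, 1, 2, 5, 7, 4, 3, 2, 1, 0, 1, 2, 3, 4, 7, 5, 2, 1, 3, 2, 4, 3, 5, 2, 1, 0], [7, 1, 7, 1], [7, 3, 7, 3], [7, 7, 7, 7], [7, 5, 7, 5], [7, 2, 5, 3, 2, 1, 2, 3, 5, 2, 7, 2, 5, 3, 2, 1, 2, 3, 5, 2], [7, 4, 3, 2, 5, 7, 4, 3, 2, 1, 2, 3, 4, 7, 5, 2, 3, 4, 7, 4, 3, 2, 5, 7, 4, 3, 2, 1, 2, 3, 4, 7, 5, 2, 3, 4], [7, 0, 1, 2, 5, 3, 4, 2, 3, 1, 2, 5, 7, 4, 3, 2, 1, 0, 1, 2, 3, 4, 7, 5, 2, 1, 3, 2, 4, 3, 5, 2, 1, 0, 7, 0, 1, 2, 5, 3, 4, 2, 3, 1, 2, 5, 7, 4, 3, 2, 1, 0, 1, 2, 3, 4, 7, 5, 2, 1, 3, 2, 4, 3, 5, 2, 1, 0], [5, 1, 5, 1], [5, 3, 5, 3], [5, 7, 5, 7], [5, 5, 5, 5], [5, 2, 5, 3, 2, 1, 2, 3, 5, 2, 5, 2, 5, 3, 2, 1, 2, 3, 5, 2], [5, 4, 3, 2, 5, 7, 4, 3, 2, 1, 2, 3, 4, 7, 5, 2, 3, 4, 5, 4, 3, 2, 5, 7, 4, 3, 2, 1, 2, 3, 4, 7,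 5, 2, 3, 4], [5, 0, 1, 2, 5, 3, 4, 2, 3, 1, 2, 5, 7, 4, 3, 2, 1, 0, 1, 2, 3, 4, 7, 5, 2, 1, 3, 2, 4, 3, 5, 2, 1, 0, 5, 0, 1, 2, 5, 3, 4, 2, 3, 1, 2, 5, 7, 4, 3, 2, 1, 0, 1, 2, 3, 4, 7, 5, 2, 1, 3, 2, 4, 3, 5, 2, 1, 0], [2, 5, 3, 2, 1, 2, 3, 5, 2, 1, 2, 5, 3, 2, 1, 2, 3, 5, 2, 1], [2, 5, 3, 2, 1, 2, 3, 5, 2, 3, 2, 5, 3, 2, 1, 2, 3, 5, 2, 3], [2, 5, 3, 2, 1, 2, 3, 5, 2, 7, 2, 5, 3, 2, 1, 2, 3, 5, 2, 7], [2, 5, 3, 2, 1, 2, 3, 5, 2, 5, 2, 5, 3, 2, 1, 2, 3, 5, 2, 5], [2, 5, 3, 2, 1, 2, 3, 5, 2, 2, 5, 3, 2, 1, 2, 3, 5, 2, 2, 5, 3, 2, 1, 2, 3, 5, 2, 2, 5, 3, 2, 1, 2, 3, 5, 2], [2, 5, 3, 2, 1, 2, 3, 5, 2, 4, 3, 2, 5, 7, 4, 3, 2, 1, 2, 3, 4, 7, 5, 2, 3, 4, 2, 5, 3, 2, 1, 2, 3, 5, 2, 4, 3, 2, 5, 7, 4, 3, 2, 1, 2, 3, 4, 7, 5, 2, 3, 4], [2, 5, 3, 2, 1, 2, 3, 5, 2, 0, 1, 2, 5, 3, 4,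 2, 3, 1, 2, 5, 7, 4, 3, 2, 1, 0, 1, 2, 3, 4, 7, 5, 2, 1, 3, 2, 4, 3, 5, 2, 1, 0, 2, 5, 3, 2, 1, 2, 3, 5, 2, 0, 1, 2, 5, 3, 4, 2, 3, 1, 2, 5, 7, 4, 3, 2, 1, 0, 1, 2, 3, 4, 7, 5, 2, 1, 3, 2, 4, 3, 5, 2, 1, 0], [4, 3, 2, 5, 7, 4, 3, 2, 1, 2, 3, 4, 7, 5, 2, 3, 4, 1, 4, 3, 2, 5, 7, 4, 3, 2, 1, 2, 3, 4, 7, 5, 2, 3, 4, 1], [4, 3, 2, 5, 7, 4, 3, 2, 1, 2, 3, 4, 7, 5, 2, 3, 4, 3, 4, 3, 2, 5, 7, 4, 3, 2, 1, 2, 3, 4, 7, 5, 2, 3, 4, 3], [4, 3, 2, 5, 7, 4, 3, 2, 1, 2, 3, 4, 7, 5, 2, 3, 4, 7, 4, 3, 2, 5, 7, 4, 3, 2, 1, 2, 3, 4, 7, 5, 2, 3, 4, 7], [4, 3, 2, 5, 7, 4, 3, 2, 1, 2, 3, 4, 7, 5, 2, 3, 4, 5, 4, 3, 2, 5, 7, 4, 3, 2, 1, 2, 3, 4, 7, 5, 2, 3, 4, 5], [4, 3, 2, 5, 7, 4, 3, 2, 1, 2, 3, 4, 7, 5, 2, 3, 4, 2, 5, 3, 2, 1, 2, 3, 5, 2, 4, 3, 2, 5, 7, 4, 3, 2, 1, 2, 3, 4, 7, 5, 2, 3, 4, 2,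 5, 3, 2, 1, 2, 3, 5, 2], [4, 3, 2, 5, 7, 4, 3, 2, 1, 2, 3, 4, 7, 5, 2, 3, 4, 4, 3, 2, 5, 7, 4, 3, 2, 1, 2, 3, 4, 7, 5, 2, 3, 4, 4, 3, 2, 5, 7, 4, 3, 2, 1, 2, 3, 4, 7, 5, 2, 3, 4, 4, 3, 2, 5, 7, 4, 3, 2, 1, 2, 3, 4, 7, 5, 2, 3, 4], [4, 3, 2, 5, 7, 4, 3, 2, 1, 2, 3, 4, 7, 5, 2, 3, 4, 0, 1, 2, 5, 3, 4, 2, 3, 1, 2, 5, 7, 4, 3, 2, 1, 0, 1, 2, 3, 4, 7, 5, 2, 1, 3, 2, 4, 3, 5, 2, 1, 0, 4, 3, 2, 5, 7, 4, 3, 2, 1, 2, 3, 4, 7, 5, 2, 3, 4, 0, 1, 2, 5, 3, 4, 2, 3, 1, 2, 5, 7, 4, 3, 2, 1, 0, 1, 2, 3, 4, 7, 5, 2, 1, 3, 2, 4, 3, 5, 2, 1, 0], [0, 1, 2, 5, 3, 4, 2, 3, 1, 2, 5, 7, 4, 3, 2, 1, 0, 1, 2, 3, 4, 7, 5, 2, 1, 3, 2, 4, 3, 5, 2, 1, 0, 1, 0, 1, 2, 5, 3, 4, 2, 3, 1, 2, 5, 7, 4, 3, 2, 1, 0, 1, 2, 3, 4, 7, 5, 2, 1, 3, 2, 4, 3, 5, 2, 1, 0, 1], [0, 1, 2, 5, 3, 4, 2, 3, 1, 2, 5, 7, 4, 3,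 2, 1, 0, 1, 2, 3, 4, 7, 5, 2, 1, 3, 2, 4, 3, 5, 2, 1, 0, 3, 0, 1, 2, 5, 3, 4, 2, 3, 1, 2, 5, 7, 4, 3, 2, 1, 0, 1, 2, 3, 4, 7, 5, 2, 1, 3, 2, 4, 3, 5, 2, 1, 0, 3], [0, 1, 2, 5, 3, 4, 2, 3, 1, 2, 5, 7, 4, 3, 2, 1, 0, 1, 2, 3, 4, 7, 5, 2, 1, 3, 2, 4, 3, 5, 2, 1, 0, 7, 0, 1, 2, 5, 3, 4, 2, 3, 1, 2, 5, 7, 4, 3, 2, 1, 0, 1, 2, 3, 4, 7, 5, 2, 1, 3, 2, 4, 3, 5, 2, 1, 0, 7], [0, 1, 2, 5, 3, 4, 2, 3, 1, 2, 5, 7, 4, 3, 2, 1, 0, 1, 2, 3, 4, 7, 5, 2, 1, 3, 2, 4, 3, 5, 2, 1, 0, 5, 0, 1, 2, 5, 3, 4, 2, 3, 1, 2, 5, 7, 4, 3, 2, 1, 0, 1, 2, 3, 4, 7, 5, 2, 1, 3, 2, 4, 3, 5, 2, 1, 0, 5], [0, 1, 2, 5, 3, 4, 2, 3, 1, 2, 5, 7, 4, 3, 2, 1, 0, 1, 2, 3, 4, 7, 5, 2, 1, 3, 2, 4, 3, 5, 2, 1, 0, 2, 5, 3, 2, 1, 2, 3, 5, 2, 0, 1, 2, 5, 3, 4, 2, 3, 1, 2, 5, 7, 4, 3, 2, 1, 0, 1, 2, 3, 4, 7, 5, 2, 1, 3,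 2, 4, 3, 5, 2, 1, 0, 2, 5, 3, 2, 1, 2, 3, 5, 2], [0, 1, 2, 5, 3, 4, 2, 3, 1, 2, 5, 7, 4, 3, 2, 1, 0, 1, 2, 3, 4, 7, 5, 2, 1, 3, 2, 4, 3, 5, 2, 1, 0, 4, 3, 2, 5, 7, 4, 3, 2, 1, 2, 3, 4, 7, 5, 2, 3, 4, 0, 1, 2, 5, 3, 4, 2, 3, 1, 2, 5, 7, 4, 3, 2, 1, 0, 1, 2, 3, 4, 7, 5, 2, 1, 3, 2, 4, 3, 5, 2, 1, 0, 4, 3, 2, 5, 7, 4, 3, 2, 1, 2, 3, 4, 7, 5, 2, 3, 4], [0, 1, 2, 5, 3, 4, 2, 3, 1, 2, 5, 7, 4, 3, 2, 1, 0, 1, 2, 3, 4, 7, 5, 2, 1, 3, 2, 4, 3, 5, 2, 1, 0, 0, 1, 2, 5, 3, 4, 2, 3, 1, 2, 5, 7, 4, 3, 2, 1, 0, 1, 2, 3, 4, 7, 5, 2, 1, 3, 2, 4, 3, 5, 2, 1, 0, 0, 1, 2, 5, 3, 4, 2, 3, 1, 2, 5, 7, 4, 3, 2, 1, 0, 1, 2, 3, 4, 7, 5, 2, 1, 3, 2, 4, 3, 5, 2, 1, 0, 0, 1, 2, 5, 3, 4, 2, 3, 1, 2, 5, 7, 4, 3, 2, 1, 0, 1, 2, 3, 4, 7, 5, 2, 1, 3, 2, 4, 3, 5, 2, 1, 0], [8, 8, 8, 8], [8, 1, 8, 1], [8,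 3, 8, 3], [8, 5, 8, 5], [8, 2, 5, 3, 2, 1, 2, 3, 5, 2, 8, 2, 5, 3, 2, 1, 2, 3, 5, 2], [8, 0, 1, 2, 5, 3, 2, 1, 0, 8, 0, 1, 2, 3, 5, 2, 1, 0, 8, 0, 1, 2, 5, 3, 2, 1, 0, 8, 0, 1, 2, 3, 5, 2, 1, 0], [8, 4, 3, 2, 5, 1, 2, 3, 0, 1, 2, 5, 4, 3, 2, 1, 0, 8, 0, 1, 2, 3, 4, 5, 2, 1, 0, 3, 2, 1, 5, 2, 3, 4, 8, 4, 3, 2, 5, 1, 2, 3, 0, 1, 2, 5, 4, 3, 2, 1, 0, 8, 0, 1, 2, 3, 4, 5, 2, 1, 0, 3, 2, 1, 5, 2, 3, 4], [1, 8, 1, 8], [1, 1, 1, 1], [1, 3, 1, 3], [1, 5, 1, 5], [1, 2, 5, 3, 2, 1, 2, 3, 5, 2, 1, 2, 5, 3, 2, 1, 2, 3, 5, 2], [1, 0, 1, 2, 5, 3, 2, 1, 0, 8, 0, 1, 2, 3, 5, 2, 1, 0, 1, 0, 1, 2, 5, 3, 2, 1, 0, 8, 0, 1, 2, 3, 5, 2, 1, 0], [1, 4, 3, 2, 5, 1, 2, 3, 0, 1, 2, 5, 4, 3, 2, 1, 0, 8, 0, 1, 2, 3, 4, 5, 2, 1, 0, 3, 2, 1, 5, 2, 3, 4, 1, 4, 3, 2, 5, 1, 2, 3, 0, 1, 2, 5, 4, 3, 2, 1,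 0, 8, 0, 1, 2, 3, 4, 5, 2, 1, 0, 3, 2, 1, 5, 2, 3, 4], [3, 8, 3, 8], [3, 1, 3, 1], [3, 3, 3, 3], [3, 5, 3, 5], [3, 2, 5, 3, 2, 1, 2, 3, 5, 2, 3, 2, 5, 3, 2, 1, 2, 3, 5, 2], [3, 0, 1, 2, 5, 3, 2, 1, 0, 8, 0, 1, 2, 3, 5, 2, 1, 0, 3, 0, 1, 2, 5, 3, 2, 1, 0, 8, 0, 1, 2, 3, 5, 2, 1, 0], [3, 4, 3, 2, 5, 1, 2, 3, 0, 1, 2, 5, 4, 3, 2, 1, 0, 8, 0, 1, 2, 3, 4, 5, 2, 1, 0, 3, 2, 1, 5, 2, 3, 4, 3, 4, 3, 2, 5, 1, 2, 3, 0, 1, 2, 5, 4, 3, 2, 1, 0, 8, 0, 1, 2, 3, 4, 5, 2, 1, 0, 3, 2, 1, 5, 2, 3, 4], [5, 8, 5, 8], [5, 1, 5, 1], [5, 3, 5, 3], [5, 5, 5, 5], [5, 2, 5, 3, 2, 1, 2, 3, 5, 2, 5, 2, 5, 3, 2, 1, 2, 3, 5, 2], [5, 0, 1, 2, 5, 3, 2, 1, 0, 8, 0, 1, 2, 3, 5, 2, 1, 0, 5, 0, 1, 2, 5, 3, 2, 1, 0, 8, 0, 1, 2, 3, 5, 2, 1, 0], [5, 4, 3, 2, 5, 1, 2, 3, 0, 1, 2, 5, 4, 3, 2, 1, 0, 8, 0, 1, 2,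 3, 4, 5, 2, 1, 0, 3, 2, 1, 5, 2, 3, 4, 5, 4, 3, 2, 5, 1, 2, 3, 0, 1, 2, 5, 4, 3, 2, 1, 0, 8, 0, 1, 2, 3, 4, 5, 2, 1, 0, 3, 2, 1, 5, 2, 3, 4], [2, 5, 3, 2, 1, 2, 3, 5, 2, 8, 2, 5, 3, 2, 1, 2, 3, 5, 2, 8], [2, 5, 3, 2, 1, 2, 3, 5, 2, 1, 2, 5, 3, 2, 1, 2, 3, 5, 2, 1], [2, 5, 3, 2, 1, 2, 3, 5, 2, 3, 2, 5, 3, 2, 1, 2, 3, 5, 2, 3], [2, 5, 3, 2, 1, 2, 3, 5, 2, 5, 2, 5, 3, 2, 1, 2, 3, 5, 2, 5], [2, 5, 3, 2, 1, 2, 3, 5, 2, 2, 5, 3, 2, 1, 2, 3, 5, 2, 2, 5, 3, 2, 1, 2, 3, 5, 2, 2, 5, 3, 2, 1, 2, 3, 5, 2], [2, 5, 3, 2, 1, 2, 3, 5, 2, 0, 1, 2, 5, 3, 2, 1, 0, 8, 0, 1, 2, 3, 5, 2, 1, 0, 2, 5, 3, 2, 1, 2, 3, 5, 2, 0, 1, 2, 5, 3, 2, 1, 0, 8, 0, 1, 2, 3, 5, 2, 1, 0], [2, 5, 3, 2, 1, 2, 3, 5, 2, 4, 3, 2, 5, 1, 2, 3, 0, 1, 2, 5, 4, 3, 2, 1, 0, 8, 0, 1, 2, 3, 4, 5, 2, 1, 0, 3, 2, 1, 5, 2, 3,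 4, 2, 5, 3, 2, 1, 2, 3, 5, 2, 4, 3, 2, 5, 1, 2, 3, 0, 1, 2, 5, 4, 3, 2, 1, 0, 8, 0, 1, 2, 3, 4, 5, 2, 1, 0, 3, 2, 1, 5, 2, 3, 4], [0, 1, 2, 5, 3, 2, 1, 0, 8, 0, 1, 2, 3, 5, 2, 1, 0, 8, 0, 1, 2, 5, 3, 2, 1, 0, 8, 0, 1, 2, 3, 5, 2, 1, 0, 8], [0, 1, 2, 5, 3, 2, 1, 0, 8, 0, 1, 2, 3, 5, 2, 1, 0, 1, 0, 1, 2, 5, 3, 2, 1, 0, 8, 0, 1, 2, 3, 5, 2, 1, 0, 1], [0, 1, 2, 5, 3, 2, 1, 0, 8, 0, 1, 2, 3, 5, 2, 1, 0, 3, 0, 1, 2, 5, 3, 2, 1, 0, 8, 0, 1, 2, 3, 5, 2, 1, 0, 3], [0, 1, 2, 5, 3, 2, 1, 0, 8, 0, 1, 2, 3, 5, 2, 1, 0, 5, 0, 1, 2, 5, 3, 2, 1, 0, 8, 0, 1, 2, 3, 5, 2, 1, 0, 5], [0, 1, 2, 5, 3, 2, 1, 0, 8, 0, 1, 2, 3, 5, 2, 1, 0, 2, 5, 3, 2, 1, 2, 3, 5, 2, 0, 1, 2, 5, 3, 2, 1, 0, 8, 0, 1, 2, 3, 5, 2, 1, 0, 2, 5, 3, 2, 1, 2, 3, 5, 2], [0, 1, 2, 5, 3, 2, 1, 0, 8, 0, 1, 2, 3, 5, 2, 1, 0,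 0, 1, 2, 5, 3, 2, 1, 0, 8, 0, 1, 2, 3, 5, 2, 1, 0, 0, 1, 2, 5, 3, 2, 1, 0, 8, 0, 1, 2, 3, 5, 2, 1, 0, 0, 1, 2, 5, 3, 2, 1, 0, 8, 0, 1, 2, 3, 5, 2, 1, 0], [0, 1, 2, 5, 3, 2, 1, 0, 8, 0, 1, 2, 3, 5, 2, 1, 0, 4, 3, 2, 5, 1, 2, 3, 0, 1, 2, 5, 4, 3, 2, 1, 0, 8, 0, 1, 2, 3, 4, 5, 2, 1, 0, 3, 2, 1, 5, 2, 3, 4, 0, 1, 2, 5, 3, 2, 1, 0, 8, 0, 1, 2, 3, 5, 2, 1, 0, 4, 3, 2, 5, 1, 2, 3, 0, 1, 2, 5, 4, 3, 2, 1, 0, 8, 0, 1, 2, 3, 4, 5, 2, 1, 0, 3, 2, 1, 5, 2, 3, 4], [4, 3, 2, 5, 1, 2, 3, 0, 1, 2, 5, 4, 3, 2, 1, 0, 8, 0, 1, 2, 3, 4, 5, 2, 1, 0, 3, 2, 1, 5, 2, 3, 4, 8, 4, 3, 2, 5, 1, 2, 3, 0, 1, 2, 5, 4, 3, 2, 1, 0, 8, 0, 1, 2, 3, 4, 5, 2, 1, 0, 3, 2, 1, 5, 2, 3, 4, 8], [4, 3, 2, 5, 1, 2, 3, 0, 1, 2, 5, 4, 3, 2, 1, 0, 8, 0, 1, 2, 3, 4, 5, 2, 1, 0, 3, 2, 1, 5, 2, 3, 4, 1, 4, 3, 2, 5, 1,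 2, 3, 0, 1, 2, 5, 4, 3, 2, 1, 0, 8, 0, 1, 2, 3, 4, 5, 2, 1, 0, 3, 2, 1, 5, 2, 3, 4, 1], [4, 3, 2, 5, 1, 2, 3, 0, 1, 2, 5, 4, 3, 2, 1, 0, 8, 0, 1, 2, 3, 4, 5, 2, 1, 0, 3, 2, 1, 5, 2, 3, 4, 3, 4, 3, 2, 5, 1, 2, 3, 0, 1, 2, 5, 4, 3, 2, 1, 0, 8, 0, 1, 2, 3, 4, 5, 2, 1, 0, 3, 2, 1, 5, 2, 3, 4, 3], [4, 3, 2, 5, 1, 2, 3, 0, 1, 2, 5, 4, 3, 2, 1, 0, 8, 0, 1, 2, 3, 4, 5, 2, 1, 0, 3, 2, 1, 5, 2, 3, 4, 5, 4, 3, 2, 5, 1, 2, 3, 0, 1, 2, 5, 4, 3, 2, 1, 0, 8, 0, 1, 2, 3, 4, 5, 2, 1, 0, 3, 2, 1, 5, 2, 3, 4, 5], [4, 3, 2, 5, 1, 2, 3, 0, 1, 2, 5, 4, 3, 2, 1, 0, 8, 0, 1, 2, 3, 4, 5, 2, 1, 0, 3, 2, 1, 5, 2, 3, 4, 2, 5, 3, 2, 1, 2, 3, 5, 2, 4, 3, 2, 5, 1, 2, 3, 0, 1, 2, 5, 4, 3, 2, 1, 0, 8, 0, 1, 2, 3, 4, 5, 2, 1, 0, 3, 2, 1, 5, 2, 3, 4, 2, 5, 3, 2, 1, 2, 3, 5, 2], [4, 3, 2, 5, 1, 2, 3, 0, 1,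 2, 5, 4, 3, 2, 1, 0, 8, 0, 1, 2, 3, 4, 5, 2, 1, 0, 3, 2, 1, 5, 2, 3, 4, 0, 1, 2, 5, 3, 2, 1, 0, 8, 0, 1, 2, 3, 5, 2, 1, 0, 4, 3, 2, 5, 1, 2, 3, 0, 1, 2, 5, 4, 3, 2, 1, 0, 8, 0, 1, 2, 3, 4, 5, 2, 1, 0, 3, 2, 1, 5, 2, 3, 4, 0, 1, 2, 5, 3, 2, 1, 0, 8, 0, 1, 2, 3, 5, 2, 1, 0], [4, 3, 2, 5, 1, 2, 3, 0, 1, 2, 5, 4, 3, 2, 1, 0, 8, 0, 1, 2, 3, 4, 5, 2, 1, 0, 3, 2, 1, 5, 2, 3, 4, 4, 3, 2, 5, 1, 2, 3, 0, 1, 2, 5, 4, 3, 2, 1, 0, 8, 0, 1, 2, 3, 4, 5, 2, 1, 0, 3, 2, 1, 5, 2, 3, 4, 4, 3, 2, 5, 1, 2, 3, 0, 1, 2, 5, 4, 3, 2, 1, 0, 8, 0, 1, 2, 3, 4, 5, 2, 1, 0, 3, 2, 1, 5, 2, 3, 4, 4, 3, 2, 5, 1, 2, 3, 0, 1, 2, 5, 4, 3, 2, 1, 0, 8, 0, 1, 2, 3, 4, 5, 2, 1, 0, 3, 2, 1, 5, 2, 3, 4]] : List (List ℕ)) := by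
  decide +kernel

theorem sides35 : ∀ b ∈ CertsI.sides9, ∀ i < 3510, Fn.applyW X35 b i = i := by
  intro b hb
  rw [sides35_split] at hb
  simp only [List.mem_cons, List.not_mem_nil, or_false] at hb
  rcases hb with rfl | rfl | rfl | rfl | rfl | rfl | rfl | rfl | rfl | rfl | rfl | rfl | rfl | rfl | rfl | rfl | rfl | rfl | rfl | rfl | rfl | rfl | rfl | rfl | rfl | rfl | rfl | rfl | rfl | rfl | rfl | rfl | rfl | rfl | rfl | rfl | rfl | rfl | rfl | rfl | rfl | rfl | rfl | rfl | rfl | rfl | rfl | rfl | rfl | rfl | rfl | rfl | rfl | rfl | rfl | rfl | rfl | rfl | rfl | rfl | rfl | rfl | rfl | rfl | rfl | rfl | rfl | rfl | rfl | rfl | rfl | rfl | rfl | rfl | rfl | rfl | rfl | rfl | rfl | rfl | rfl | rfl | rfl | rfl | rfl | rfl | rfl | rfl | rfl | rfl | rfl | rfl | rfl | rfl |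 rfl | rfl | rfl | rfl
  · exact fixws_0
  · exact fixws_1
  · exact fixws_2
  · exact fixws_3
  · exact fixws_4
  · exact fixws_5
  · exact fixws_6
  · exact fixws_7
  · exact fixws_8
  · exact fixws_9
  · exact fixws_10
  · exact fixws_11
  · exact fixws_12
  · exact fixws_13
  · exact fixws_14
  · exact fixws_15
  · exact fixws_16
  · exact fixws_17
  · exact fixws_18
  · exact fixws_19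
  · exact fixws_20
  · exact fixws_21
  · exact fixws_22
  · exact fixws_23
  · exact fixws_24
  · exact fixws_25
  · exact fixws_26
  · exact fixws_27
  · exact fixws_28
  · exact fixws_29
  · exact fixws_30
  · exact fixws_31
  · exact fixws_32
  · exact fixws_33
  · exact fixws_34
  · exact fixws_35
  · exact fixws_36
  · exact fixws_37
  · exact fixws_38
  · exact fixws_39
  · exact fixws_40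
  · exact fixws_41
  · exact fixws_42
  · exact fixws_43
  · exact fixws_44
  · exact fixws_45
  · exact fixws_46
  · exact fixws_47
  · exact fixws_48
  · exact fixws_49
  · exact fixws_50
  · exact fixws_51
  · exact fixws_52
  · exact fixws_53
  · exact fixws_54
  · exact fixws_55
  · exact fixws_56
  · exact fixws_57
  · exact fixws_58
  · exact fixws_59
  · exact fixws_60
  · exact fixws_61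
  · exact fixws_62
  · exact fixws_63
  · exact fixws_64
  · exact fixws_65
  · exact fixws_66
  · exact fixws_67
  · exact fixws_68
  · exact fixws_69
  · exact fixws_70
  · exact fixws_71
  · exact fixws_72
  · exact fixws_73
  · exact fixws_74
  · exact fixws_75
  · exact fixws_76
  · exact fixws_77
  · exact fixws_78
  · exact fixws_79
  · exact fixws_80
  · exact fixws_81
  · exact fixws_82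
  · exact fixws_83
  · exact fixws_84
  · exact fixws_85
  · exact fixws_86
  · exact fixws_87
  · exact fixws_88
  · exact fixws_89
  · exact fixws_90
  · exact fixws_91
  · exact fixws_92
  · exact fixws_93
  · exact fixws_94
  · exact fixws_95
  · exact fixws_96
  · exact fixws_97

/-- a word in the letters is trivial in the group if it fixes all the 3510 points -/
theorem wprod_xM_eq_one (w : List ℕ) (hw : ∀ s ∈ w, s < 9)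
    (h : ∀ i < 3510, Fn.applyW X35 w i = i) : wprod xM w = 1 := by
  apply Ord.Fi22Order.rho_injective
  rw [map_one]
  apply Equiv.ext
  intro i
  apply Fin.ext
  have h1 := TabPerm.hom_word xM Fi22o3510.rho rho35_xM w hw i
  rw [h1, Equiv.Perm.one_apply]
  exact h i.val i.isLt

theorem rels_hold : ∀ b ∈ PresI9.baseL, wprod xM b = 1 := by
  intro b hb
  have hl : ∀ s ∈ b, s < 9 := fun s hs => lettersK_lt PresI9.hlet hb hs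
  exact wprod_xM_eq_one b hl (rels35 b hb)

theorem sides_hold : ∀ c ∈ CertsI.certs9, ∀ s ∈ c.side, wprod xM s = 1 := by
  intro c hc s hs
  have hm := CertsI.mem_sides9 c hc s hs
  exact wprod_xM_eq_one s (CertsI.sides9_lt s hm) (sides35 s hm)

/-- the homomorphism of the presented cover to the group -/
noncomputable def phi : PresI9.Grp →* Cfsg.Spor.Fi22 := (PresI9.hliftG xM rels_hold).choose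

theorem phi_v : ∀ s < 9, phi (PresI9.v s) = xM s := (PresI9.hliftG xM rels_hold).choose_spec

theorem phi_wprod (w : List ℕ) (hw : ∀ s ∈ w, s < 9) : phi (wprod PresI9.v w) = wprod xM w := by
  induction w with
  | nil => rw [wprod_nil, wprod_nil, map_one]
  | cons s w ih =>
    rw [wprod_cons, wprod_cons, map_mul, ih (fun t ht => hw t (List.mem_cons_of_mem _ ht)),
      phi_v s (hw s List.mem_cons_self)]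

/-- the letters generate the group -/
theorem xM_gen : Subgroup.closure {y : Cfsg.Spor.Fi22 | ∃ s < 9, y = xM s} = ⊤ := by
  rw [eq_top_iff, ← PresentedGroup.closure_range_of
    (Cfsg.Spor.coxRelators Cfsg.Spor.Fi22.edges ∪ {r | r ∈ Cfsg.Spor.Fi22.extra})]
  apply Subgroup.closure_mono
  rintro _ ⟨y, rfl⟩
  refine ⟨n2 (Fi22Pres.idx y), n2_lt _ (Fi22Pres.hidx y).1, ?_⟩
  rw [xM, o2_n2 _ (Fi22Pres.hidx y).1, gP, (Fi22Pres.hidx y).2]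
  rfl

theorem phi_surjective : Function.Surjective phi := by
  rw [← MonoidHom.range_eq_top, eq_top_iff, ← xM_gen, Subgroup.closure_le]
  rintro y ⟨s, hs, rfl⟩
  exact ⟨PresI9.v s, phi_v s hs⟩

end Cfsg.Agent.Lib.Helper12.Fi22M.ModelI
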