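import Cfsg.Agent.Lib.Helper12.Fi22M.OrderI
import Cfsg.Agent.Lib.Helper12.Fi22M.ModelI
import Cfsg.Agent.Lib.Helper12.Fi22M.FixRange
import Cfsg.Agent.Lib.Helper12.TCG.Fi22Ie185328.Rho
import Cfsg.Agent.Lib.Helper12.M23Ext.TabPerm
import Cfsg.Prelude.Def_KGroupFacts

/-!
The group presented on the nine involutions is a stem extension of the group of Fischer with a cyclic kernel of order
three (helper12).
-/

set_option autoImplicit false
set_option maxRecDepth 100000

namespace Cfsg.Agent.Lib.Helper12.Fi22M.ExistI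

open Cfsg.Agent.Lib.Helper12.TC Cfsg.Agent.Lib.Helper12.TCG
  Cfsg.Agent.Lib.Helper12.Fi22M Cfsg.Agent.Lib.Helper12.M23Ext

/-- the word of the central element -/
def zw : List ℕ := [2, 1, 0, 2, 3, 4, 2, 5, 6, 2, 1, 0, 2, 3, 4, 2, 5, 6, 2, 1, 0, 2, 3, 4, 2, 5, 6, 2, 1, 0, 2, 3, 4, 2, 5, 6, 2, 1, 0, 2, 3, 4, 2, 5, 6, 2, 1, 0, 2, 3, 4, 2, 5, 6, 2, 1, 0, 2, 3, 4, 2, 5, 6, 2, 1, 0, 2, 3, 4, 2, 5, 6, 2, 1, 0, 2, 3, 4, 2, 5, 6, 2, 1, 0, 2, 3, 4, 2, 5, 6]

theorem zw_lt : ∀ s ∈ zw, s < 9 := by decide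

theorem zw_fix_chk0 : fixRangeK ModelI.X35 zw 0 900 = true := by
  decide +kernel

theorem zw_fix_chk1 : fixRangeK ModelI.X35 zw 900 1800 = true := by
  decide +kernel

theorem zw_fix_chk2 : fixRangeK ModelI.X35 zw 1800 2700 = true := by
  decide +kernel

theorem zw_fix_chk3 : fixRangeK ModelI.X35 zw 2700 3510 = true := by
  decide +kernel

theorem zw_fix : ∀ i < 3510, Fn.applyW ModelI.X35 zw i = i := by
  intro i hi
  by_cases h0 : i < 900
  · exact fixRangeK_sound zw_fix_chk0 i (Nat.zero_le _) h0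
  by_cases h1 : i < 1800
  · exact fixRangeK_sound zw_fix_chk1 i (Nat.le_of_not_gt h0) h1
  by_cases h2 : i < 2700
  · exact fixRangeK_sound zw_fix_chk2 i (Nat.le_of_not_gt h1) h2
  exact fixRangeK_sound zw_fix_chk3 i (Nat.le_of_not_gt h2) hi

/-- the central element -/
noncomputable def z : PresI9.Grp := wprod PresI9.v zw

instance finite9 : Finite PresI9.Grp := OrderI.finite9

theorem phi_z : ModelI.phi z = 1 := by
  rw [z, ModelI.phi_wprod zw zw_lt]
  exact ModelI.wprod_xM_eq_one zw zw_lt zw_fix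

theorem rho_e (l : List ℕ) (hl : ∀ s ∈ l, s < 9) (i : Fin Fi22Ie185328.cN) :
    ((Fi22Ie185328.rho (wprod PresI9.v l) i : Fin Fi22Ie185328.cN) : ℕ) = Fn.applyW Fi22Ie185328.TT l i.val :=
  TabPerm.hom_word PresI9.v Fi22Ie185328.rho Fi22Ie185328.rho_gen l hl i

/-- two words which map the first of the 185328 points to different points are different -/
theorem ne_of_apply_e {l₁ l₂ : List ℕ} (h₁ : ∀ s ∈ l₁, s < 9) (h₂ : ∀ s ∈ l₂, s < 9)
    (h : Nat.beq (Fn.applyW Fi22Ie185328.TT l₁ 0) (Fn.applyW Fi22Ie185328.TT l₂ 0) = false) :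
    wprod PresI9.v l₁ ≠ wprod PresI9.v l₂ := by
  intro heq
  have e1 := rho_e l₁ h₁ ⟨0, Fi22Ie185328.hN0⟩
  have e2 := rho_e l₂ h₂ ⟨0, Fi22Ie185328.hN0⟩
  rw [heq, e2] at e1
  have h3 : Nat.beq (Fn.applyW Fi22Ie185328.TT l₁ 0) (Fn.applyW Fi22Ie185328.TT l₂ 0) = true := by
    rw [Nat.beq_eq]
    exact e1.symm
  rw [h] at h3
  exact Bool.false_ne_true h3

/-- the power of the word -/
def zwp : ℕ → List ℕ
  | 0 => []
  | k + 1 => zw ++ zwp k

theorem zwp_lt : ∀ k, ∀ s ∈ zwp k, s < 9 := by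
  intro k
  induction k with
  | zero => intro s hs; exact absurd hs List.not_mem_nil
  | succ k ih =>
    intro s hs
    rw [zwp, List.mem_append] at hs
    rcases hs with hs | hs
    · exact zw_lt s hs
    · exact ih s hs

theorem wprod_zwp (k : ℕ) : wprod PresI9.v (zwp k) = z ^ k := by
  induction k with
  | zero => rw [zwp, wprod_nil, pow_zero]
  | succ k ih => rw [zwp, wprod_append, ih, pow_succ', z]

theorem z_pow_ne_one : ∀ k, 0 < k → k < 3 → z ^ k ≠ 1 := by
  intro k h0 h3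
  rw [← wprod_zwp k, ← wprod_nil PresI9.v]
  interval_cases k
  · exact ne_of_apply_e (zwp_lt 1) (by decide) (by decide +kernel)
  · exact ne_of_apply_e (zwp_lt 2) (by decide) (by decide +kernel)

theorem card_eq_mul {Γ : Type*} [Group Γ] (σ : Γ →* Cfsg.Spor.Fi22) (hs : Function.Surjective σ) :
    Nat.card Γ = 64561751654400 * Nat.card σ.ker := by
  have h1 := Subgroup.card_eq_card_quotient_mul_card_subgroup σ.ker
  have e := QuotientGroup.quotientKerEquivOfSurjective σ hs
  rw [Nat.card_congr e.toEquiv, Ord.Fi22Order.card_eq] at h1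
  exact h1

/-- the central element as an element of the kernel -/
noncomputable def zK : ModelI.phi.ker := ⟨z, phi_z⟩

theorem zK_pow (k : ℕ) : ((zK ^ k : ModelI.phi.ker) : PresI9.Grp) = z ^ k := by
  rw [Subgroup.coe_pow]; rfl

theorem card_ker_le : Nat.card ModelI.phi.ker ≤ 3 := by
  have h1 := OrderI.finite_card_le.2
  rw [card_eq_mul ModelI.phi ModelI.phi_surjective] at h1
  omega

theorem orderOf_zK : orderOf zK = 3 := by
  have hd : orderOf zK ∣ Nat.card ModelI.phi.ker := orderOf_dvd_natCard zK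
  have hpos : 0 < Nat.card ModelI.phi.ker := Nat.card_pos
  have hle2 := Nat.le_of_dvd hpos hd
  have hle := card_ker_le
  have ho0 : 0 < orderOf zK := orderOf_pos zK
  by_contra hne
  have hlt : orderOf zK < 3 := by omega
  apply z_pow_ne_one (orderOf zK) ho0 hlt
  rw [← zK_pow, pow_orderOf_eq_one]
  rfl

theorem card_ker : Nat.card ModelI.phi.ker = 3 := by
  have hd : orderOf zK ∣ Nat.card ModelI.phi.ker := orderOf_dvd_natCard zK
  have hpos : 0 < Nat.card ModelI.phi.ker := Nat.card_pos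
  have hle2 := Nat.le_of_dvd hpos hd
  have hle := card_ker_le
  rw [orderOf_zK] at hle2
  omega

theorem z_pow_three : z ^ 3 = 1 := by
  rw [← zK_pow, ← orderOf_zK, pow_orderOf_eq_one]
  rfl

theorem zpowers_zK : Subgroup.zpowers zK = ⊤ := by
  apply Subgroup.eq_top_of_card_eq
  rw [Nat.card_zpowers, orderOf_zK, card_ker]

theorem ker_cases (x : PresI9.Grp) (hx : x ∈ ModelI.phi.ker) : ∃ j, j < 3 ∧ x = z ^ j := by
  have hmem : (⟨x, hx⟩ : ModelI.phi.ker) ∈ Subgroup.zpowers zK := by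
    rw [zpowers_zK]; exact Subgroup.mem_top _
  obtain ⟨j, hj⟩ := Subgroup.mem_zpowers_iff.mp hmem
  have hj' : z ^ j = x := by
    have := congrArg Subtype.val hj
    rwa [Subgroup.coe_zpow] at this
  have h3 : z ^ (3 : ℤ) = 1 := by exact_mod_cast z_pow_three
  have hred : z ^ j = z ^ (j % 3) := by
    conv_lhs => rw [← Int.emod_add_mul_ediv j 3]
    rw [zpow_add, zpow_mul, h3, one_zpow, mul_one]
  have hnn : 0 ≤ j % 3 := Int.emod_nonneg j (by norm_num)
  have hlt : j % 3 < 3 := Int.emod_lt_of_pos j (by norm_num)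
  refine ⟨(j % 3).toNat, by omega, ?_⟩
  rw [← hj', hred, ← zpow_natCast, Int.toNat_of_nonneg hnn]

/-- the letters are involutions -/
theorem v_inv (s : ℕ) (hs : s < 9) : (PresI9.v s)⁻¹ = PresI9.v s := by
  have h2 := PresI9.hbase _ (CertsI.sq9 s hs)
  rw [wprod_cons, wprod_cons, wprod_nil, mul_one] at h2
  exact inv_eq_of_mul_eq_one_right h2

theorem conj_ne (s : ℕ) (hs : s < 9) (j : ℕ) (hj : j < 3) (hj1 : j ≠ 1) :
    PresI9.v s * z * (PresI9.v s)⁻¹ ≠ z ^ j := by
  by_cases hj0 : j = 0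
  · rw [hj0, pow_zero]
    intro h
    have h1 := z_pow_ne_one 1 (by norm_num) (by norm_num)
    rw [pow_one] at h1
    exact h1 (conj_eq_one_iff.mp h)
  have key : wprod PresI9.v (s :: (zw ++ [s])) ≠ wprod PresI9.v (zwp j) := by
    interval_cases s <;> interval_cases j <;>
      first
      | exact absurd rfl hj0
      | exact absurd rfl hj1
      | exact ne_of_apply_e (by decide) (by decide) (by decide +kernel)
  rw [wprod_cons, wprod_append, wprod_cons, wprod_nil, mul_one, wprod_zwp, ← mul_assoc] at key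
  rw [v_inv s hs]
  exact key

theorem v_comm_z (s : ℕ) (hs : s < 9) : PresI9.v s * z = z * PresI9.v s := by
  have hx : PresI9.v s * z * (PresI9.v s)⁻¹ ∈ ModelI.phi.ker :=
    (MonoidHom.normal_ker ModelI.phi).conj_mem z phi_z (PresI9.v s)
  obtain ⟨j, hj, h⟩ := ker_cases _ hx
  by_cases hj1 : j = 1
  · rw [hj1, pow_one] at h
    exact mul_inv_eq_iff_eq_mul.mp h
  · exact absurd h (conj_ne s hs j hj hj1)

theorem z_central : z ∈ Subgroup.center PresI9.Grp := by
  have hle : Subgroup.closure {y | ∃ x < 9, y = PresI9.v x} ≤ Subgroup.centralizer {z} := by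
    rw [Subgroup.closure_le]
    rintro y ⟨s, hs, rfl⟩
    rw [SetLike.mem_coe, Subgroup.mem_centralizer_iff]
    intro h hh
    rw [Set.mem_singleton_iff] at hh
    rw [hh]
    exact (v_comm_z s hs).symm
  rw [Subgroup.mem_center_iff]
  intro γ
  have := hle (PresI9.hgen γ)
  rw [Subgroup.mem_centralizer_iff] at this
  exact (this z rfl).symm

theorem v_sq (s : ℕ) (hs : s < 9) : PresI9.v s ^ 2 = 1 := by
  have h2 := PresI9.hbase _ (CertsI.sq9 s hs)
  rw [wprod_cons, wprod_cons, wprod_nil, mul_one] at h2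
  rw [pow_two]
  exact h2

theorem sq_mem_commutator (γ : PresI9.Grp) : γ ^ 2 ∈ commutator PresI9.Grp := by
  have h : ∀ γ : PresI9.Grp, (Abelianization.of γ) ^ 2 = 1 := by
    intro γ
    have hγ := PresI9.hgen γ
    induction hγ using Subgroup.closure_induction with
    | mem y hy =>
      obtain ⟨s, hs, rfl⟩ := hy
      rw [← map_pow, v_sq s hs, map_one]
    | one => rw [map_one, one_pow]
    | mul a b _ _ iha ihb => rw [map_mul, mul_pow, iha, ihb, one_mul]
    | inv a _ iha => rw [map_inv, inv_pow, iha, inv_one]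
  have h2 := h γ
  rw [← map_pow] at h2
  rw [← Abelianization.ker_of, MonoidHom.mem_ker]
  exact h2

theorem z_mem_commutator : z ∈ commutator PresI9.Grp := by
  have h : z = (z ^ 2) ^ 2 := by
    rw [← pow_mul, show (2 * 2 : ℕ) = 3 + 1 from rfl, pow_succ, z_pow_three, one_mul]
  rw [h]
  exact sq_mem_commutator (z ^ 2)

theorem phi_stem : Cfsg.IsStemExtension ModelI.phi := by
  refine ⟨ModelI.phi_surjective, ?_, ?_⟩
  · intro x hx
    obtain ⟨j, -, rfl⟩ := ker_cases x hx
    exact pow_mem z_central j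
  · intro x hx
    obtain ⟨j, -, rfl⟩ := ker_cases x hx
    exact pow_mem z_mem_commutator j

end Cfsg.Agent.Lib.Helper12.Fi22M.ExistI
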