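import Cfsg.Agent.Lib.Helper12.Fi22M.ModelIDefs
import Cfsg.Agent.Lib.Helper12.Fi22M.PresP9
import Cfsg.Agent.Lib.Helper12.Fi22M.FixRange

/-!
The nine generators of the presented group of Fischer satisfy the relators of the presentation of the double cover
on nine involutions: the homomorphism of the presented cover onto the group (generated, helper12).
-/

set_option autoImplicit false
set_option maxRecDepth 100000
set_option Elab.async false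

namespace Cfsg.Agent.Lib.Helper12.Fi22M.ModelP

open Cfsg.Agent.Lib.Helper12.TC Cfsg.Agent.Lib.Helper12.TCG
  Cfsg.Agent.Lib.Helper12.M23Ext Cfsg.Agent.Lib.Helper12.Fi22M Cfsg.Agent.Lib.Helper12.Fi22M.ModelI

theorem fxr_0_0 : fixRangeK X35 [0, 1, 0, 1, 0, 1] 0 3510 = true := by
  decide +kernel

theorem fxr_1_0 : fixRangeK X35 [0, 2, 0, 2] 0 3510 = true := by
  decide +kernel

theorem fxr_2_0 : fixRangeK X35 [0, 3, 0, 3] 0 3510 = true := by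
  decide +kernel

theorem fxr_3_0 : fixRangeK X35 [0, 4, 0, 4] 0 3510 = true := by
  decide +kernel

theorem fxr_4_0 : fixRangeK X35 [0, 5, 0, 5] 0 3510 = true := by
  decide +kernel

theorem fxr_5_0 : fixRangeK X35 [0, 6, 0, 6] 0 3510 = true := by
  decide +kernel

theorem fxr_6_0 : fixRangeK X35 [0, 7, 0, 7] 0 3510 = true := by
  decide +kernel

theorem fxr_7_0 : fixRangeK X35 [0, 8, 0, 8, 0, 8] 0 3510 = true := by
  decide +kernel

theorem fxr_8_0 : fixRangeK X35 [1, 2, 1, 2, 1, 2] 0 3510 = true := by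
  decide +kernel

theorem fxr_9_0 : fixRangeK X35 [1, 3, 1, 3] 0 3510 = true := by
  decide +kernel

theorem fxr_10_0 : fixRangeK X35 [1, 4, 1, 4] 0 3510 = true := by
  decide +kernel

theorem fxr_11_0 : fixRangeK X35 [1, 5, 1, 5] 0 3510 = true := by
  decide +kernel

theorem fxr_12_0 : fixRangeK X35 [1, 6, 1, 6] 0 3510 = true := by
  decide +kernel

theorem fxr_13_0 : fixRangeK X35 [1, 7, 1, 7] 0 3510 = true := by
  decide +kernel

theorem fxr_14_0 : fixRangeK X35 [1, 8, 1, 8] 0 3510 = true := by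
  decide +kernel

theorem fxr_15_0 : fixRangeK X35 [2, 3, 2, 3, 2, 3] 0 3510 = true := by
  decide +kernel

theorem fxr_16_0 : fixRangeK X35 [2, 4, 2, 4] 0 3510 = true := by
  decide +kernel

theorem fxr_17_0 : fixRangeK X35 [2, 5, 2, 5, 2, 5] 0 3510 = true := by
  decide +kernel

theorem fxr_18_0 : fixRangeK X35 [2, 6, 2, 6] 0 3510 = true := by
  decide +kernel

theorem fxr_19_0 : fixRangeK X35 [2, 7, 2, 7] 0 3510 = true := by
  decide +kernel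

theorem fxr_20_0 : fixRangeK X35 [2, 8, 2, 8] 0 3510 = true := by
  decide +kernel

theorem fxr_21_0 : fixRangeK X35 [3, 4, 3, 4, 3, 4] 0 3510 = true := by
  decide +kernel

theorem fxr_22_0 : fixRangeK X35 [3, 5, 3, 5] 0 3510 = true := by
  decide +kernel

theorem fxr_23_0 : fixRangeK X35 [3, 6, 3, 6] 0 3510 = true := by
  decide +kernel

theorem fxr_24_0 : fixRangeK X35 [3, 7, 3, 7] 0 3510 = true := by
  decide +kernel

theorem fxr_25_0 : fixRangeK X35 [3, 8, 3, 8] 0 3510 = true := by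
  decide +kernel

theorem fxr_26_0 : fixRangeK X35 [4, 5, 4, 5] 0 3510 = true := by
  decide +kernel

theorem fxr_27_0 : fixRangeK X35 [4, 6, 4, 6] 0 3510 = true := by
  decide +kernel

theorem fxr_28_0 : fixRangeK X35 [4, 7, 4, 7, 4, 7] 0 3510 = true := by
  decide +kernel

theorem fxr_29_0 : fixRangeK X35 [4, 8, 4, 8] 0 3510 = true := by
  decide +kernel

theorem fxr_30_0 : fixRangeK X35 [5, 6, 5, 6, 5, 6] 0 3510 = true := by
  decide +kernel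

theorem fxr_31_0 : fixRangeK X35 [5, 7, 5, 7] 0 3510 = true := by
  decide +kernel

theorem fxr_32_0 : fixRangeK X35 [5, 8, 5, 8] 0 3510 = true := by
  decide +kernel

theorem fxr_33_0 : fixRangeK X35 [6, 7, 6, 7] 0 3510 = true := by
  decide +kernel

theorem fxr_34_0 : fixRangeK X35 [6, 8, 6, 8] 0 3510 = true := by
  decide +kernel

theorem fxr_35_0 : fixRangeK X35 [7, 8, 7, 8] 0 3510 = true := by
  decide +kernel

theorem fxr_36_0 : fixRangeK X35 [2, 1, 0, 2, 3, 4, 2, 5, 6, 2, 1, 0, 2, 3, 4, 2, 5, 6, 2, 1, 0, 2, 3, 4, 2, 5, 6, 2, 1, 0, 2, 3, 4, 2, 5, 6, 2, 1, 0, 2, 3, 4, 2, 5, 6, 2, 1, 0, 2, 3, 4, 2, 5, 6, 2, 1, 0, 2, 3, 4, 2, 5, 6, 2, 1, 0, 2, 3, 4, 2, 5, 6, 2, 1, 0, 2, 3, 4, 2, 5, 6, 2, 1, 0, 2, 3, 4, 2, 5, 6] 0 878 = true := by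
  decide +kernel

theorem fxr_36_1 : fixRangeK X35 [2, 1, 0, 2, 3, 4, 2, 5, 6, 2, 1, 0, 2, 3, 4, 2, 5, 6, 2, 1, 0, 2, 3, 4, 2, 5, 6, 2, 1, 0, 2, 3, 4, 2, 5, 6, 2, 1, 0, 2, 3, 4, 2, 5, 6, 2, 1, 0, 2, 3, 4, 2, 5, 6, 2, 1, 0, 2, 3, 4, 2, 5, 6, 2, 1, 0, 2, 3, 4, 2, 5, 6, 2, 1, 0, 2, 3, 4, 2, 5, 6, 2, 1, 0, 2, 3, 4, 2, 5, 6] 878 1756 = true := by
  decide +kernel

theorem fxr_36_2 : fixRangeK X35 [2, 1, 0, 2, 3, 4, 2, 5, 6, 2, 1, 0, 2, 3, 4, 2, 5, 6, 2, 1, 0, 2, 3, 4, 2, 5, 6, 2, 1, 0, 2, 3, 4, 2, 5, 6, 2, 1, 0, 2, 3, 4, 2, 5, 6, 2, 1, 0, 2, 3, 4, 2, 5, 6, 2, 1, 0, 2, 3, 4, 2, 5, 6, 2, 1, 0, 2, 3, 4, 2, 5, 6, 2, 1, 0, 2, 3, 4, 2, 5, 6, 2, 1, 0, 2, 3, 4, 2, 5, 6] 1756 2634 = true := by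
  decide +kernel

theorem fxr_36_3 : fixRangeK X35 [2, 1, 0, 2, 3, 4, 2, 5, 6, 2, 1, 0, 2, 3, 4, 2, 5, 6, 2, 1, 0, 2, 3, 4, 2, 5, 6, 2, 1, 0, 2, 3, 4, 2, 5, 6, 2, 1, 0, 2, 3, 4, 2, 5, 6, 2, 1, 0, 2, 3, 4, 2, 5, 6, 2, 1, 0, 2, 3, 4, 2, 5, 6, 2, 1, 0, 2, 3, 4, 2, 5, 6, 2, 1, 0, 2, 3, 4, 2, 5, 6, 2, 1, 0, 2, 3, 4, 2, 5, 6] 2634 3510 = true := by
  decide +kernel

theorem fxr_37_0 : fixRangeK X35 [8, 0, 1, 2, 3, 4, 5, 8, 0, 1, 2, 3, 4, 5, 8, 0, 1, 2, 3, 4, 5, 8, 0, 1, 2, 3, 4, 5, 8, 0, 1, 2, 3, 4, 5, 8, 0, 1, 2, 3, 4, 5, 8, 0, 1, 2, 3, 4, 5, 8, 0, 1, 2, 3, 4, 5, 8, 0, 1, 2, 3, 4, 5] 0 1170 = true := by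
  decide +kernel

theorem fxr_37_1 : fixRangeK X35 [8, 0, 1, 2, 3, 4, 5, 8, 0, 1, 2, 3, 4, 5, 8, 0, 1, 2, 3, 4, 5, 8, 0, 1, 2, 3, 4, 5, 8, 0, 1, 2, 3, 4, 5, 8, 0, 1, 2, 3, 4, 5, 8, 0, 1, 2, 3, 4, 5, 8, 0, 1, 2, 3, 4, 5, 8, 0, 1, 2, 3, 4, 5] 1170 2340 = true := by
  decide +kernel

theorem fxr_37_2 : fixRangeK X35 [8, 0, 1, 2, 3, 4, 5, 8, 0, 1, 2, 3, 4, 5, 8, 0, 1, 2, 3, 4, 5, 8, 0, 1, 2, 3, 4, 5, 8, 0, 1, 2, 3, 4, 5, 8, 0, 1, 2, 3, 4, 5, 8, 0, 1, 2, 3, 4, 5, 8, 0, 1, 2, 3, 4, 5, 8, 0, 1, 2, 3, 4, 5] 2340 3510 = true := by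
  decide +kernel

theorem fxr_38_0 : fixRangeK X35 [0, 0] 0 3510 = true := by
  decide +kernel

theorem fxr_39_0 : fixRangeK X35 [1, 1] 0 3510 = true := by
  decide +kernel

theorem fxr_40_0 : fixRangeK X35 [2, 2] 0 3510 = true := by
  decide +kernel

theorem fxr_41_0 : fixRangeK X35 [3, 3] 0 3510 = true := by
  decide +kernel

theorem fxr_42_0 : fixRangeK X35 [4, 4] 0 3510 = true := by
  decide +kernel

theorem fxr_43_0 : fixRangeK X35 [5, 5] 0 3510 = true := by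
  decide +kernel

theorem fxr_44_0 : fixRangeK X35 [6, 6] 0 3510 = true := by
  decide +kernel

theorem fxr_45_0 : fixRangeK X35 [7, 7] 0 3510 = true := by
  decide +kernel

theorem fxr_46_0 : fixRangeK X35 [8, 8] 0 3510 = true := by
  decide +kernel

theorem fxr_47_0 : fixRangeK X35 [] 0 3510 = true := by
  decide +kernel

theorem fixwr_0 : ∀ i < 3510, Fn.applyW X35 [0, 1, 0, 1, 0, 1] i = i := by
  intro i hi
  exact fixRangeK_sound fxr_0_0 i (Nat.zero_le _) hi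

theorem fixwr_1 : ∀ i < 3510, Fn.applyW X35 [0, 2, 0, 2] i = i := by
  intro i hi
  exact fixRangeK_sound fxr_1_0 i (Nat.zero_le _) hi

theorem fixwr_2 : ∀ i < 3510, Fn.applyW X35 [0, 3, 0, 3] i = i := by
  intro i hi
  exact fixRangeK_sound fxr_2_0 i (Nat.zero_le _) hi

theorem fixwr_3 : ∀ i < 3510, Fn.applyW X35 [0, 4, 0, 4] i = i := by
  intro i hi
  exact fixRangeK_sound fxr_3_0 i (Nat.zero_le _) hi

theorem fixwr_4 : ∀ i < 3510, Fn.applyW X35 [0, 5, 0, 5] i = i := by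
  intro i hi
  exact fixRangeK_sound fxr_4_0 i (Nat.zero_le _) hi

theorem fixwr_5 : ∀ i < 3510, Fn.applyW X35 [0, 6, 0, 6] i = i := by
  intro i hi
  exact fixRangeK_sound fxr_5_0 i (Nat.zero_le _) hi

theorem fixwr_6 : ∀ i < 3510, Fn.applyW X35 [0, 7, 0, 7] i = i := by
  intro i hi
  exact fixRangeK_sound fxr_6_0 i (Nat.zero_le _) hi

theorem fixwr_7 : ∀ i < 3510, Fn.applyW X35 [0, 8, 0, 8, 0, 8] i = i := by
  intro i hi
  exact fixRangeK_sound fxr_7_0 i (Nat.zero_le _) hi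

theorem fixwr_8 : ∀ i < 3510, Fn.applyW X35 [1, 2, 1, 2, 1, 2] i = i := by
  intro i hi
  exact fixRangeK_sound fxr_8_0 i (Nat.zero_le _) hi

theorem fixwr_9 : ∀ i < 3510, Fn.applyW X35 [1, 3, 1, 3] i = i := by
  intro i hi
  exact fixRangeK_sound fxr_9_0 i (Nat.zero_le _) hi

theorem fixwr_10 : ∀ i < 3510, Fn.applyW X35 [1, 4, 1, 4] i = i := by
  intro i hi
  exact fixRangeK_sound fxr_10_0 i (Nat.zero_le _) hi

theorem fixwr_11 : ∀ i < 3510, Fn.applyW X35 [1, 5, 1, 5] i = i := by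
  intro i hi
  exact fixRangeK_sound fxr_11_0 i (Nat.zero_le _) hi

theorem fixwr_12 : ∀ i < 3510, Fn.applyW X35 [1, 6, 1, 6] i = i := by
  intro i hi
  exact fixRangeK_sound fxr_12_0 i (Nat.zero_le _) hi

theorem fixwr_13 : ∀ i < 3510, Fn.applyW X35 [1, 7, 1, 7] i = i := by
  intro i hi
  exact fixRangeK_sound fxr_13_0 i (Nat.zero_le _) hi

theorem fixwr_14 : ∀ i < 3510, Fn.applyW X35 [1, 8, 1, 8] i = i := by
  intro i hi
  exact fixRangeK_sound fxr_14_0 i (Nat.zero_le _) hi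

theorem fixwr_15 : ∀ i < 3510, Fn.applyW X35 [2, 3, 2, 3, 2, 3] i = i := by
  intro i hi
  exact fixRangeK_sound fxr_15_0 i (Nat.zero_le _) hi

theorem fixwr_16 : ∀ i < 3510, Fn.applyW X35 [2, 4, 2, 4] i = i := by
  intro i hi
  exact fixRangeK_sound fxr_16_0 i (Nat.zero_le _) hi

theorem fixwr_17 : ∀ i < 3510, Fn.applyW X35 [2, 5, 2, 5, 2, 5] i = i := by
  intro i hi
  exact fixRangeK_sound fxr_17_0 i (Nat.zero_le _) hi

theorem fixwr_18 : ∀ i < 3510, Fn.applyW X35 [2, 6, 2, 6] i = i := by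
  intro i hi
  exact fixRangeK_sound fxr_18_0 i (Nat.zero_le _) hi

theorem fixwr_19 : ∀ i < 3510, Fn.applyW X35 [2, 7, 2, 7] i = i := by
  intro i hi
  exact fixRangeK_sound fxr_19_0 i (Nat.zero_le _) hi

theorem fixwr_20 : ∀ i < 3510, Fn.applyW X35 [2, 8, 2, 8] i = i := by
  intro i hi
  exact fixRangeK_sound fxr_20_0 i (Nat.zero_le _) hi

theorem fixwr_21 : ∀ i < 3510, Fn.applyW X35 [3, 4, 3, 4, 3, 4] i = i := by
  intro i hi
  exact fixRangeK_sound fxr_21_0 i (Nat.zero_le _) hi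

theorem fixwr_22 : ∀ i < 3510, Fn.applyW X35 [3, 5, 3, 5] i = i := by
  intro i hi
  exact fixRangeK_sound fxr_22_0 i (Nat.zero_le _) hi

theorem fixwr_23 : ∀ i < 3510, Fn.applyW X35 [3, 6, 3, 6] i = i := by
  intro i hi
  exact fixRangeK_sound fxr_23_0 i (Nat.zero_le _) hi

theorem fixwr_24 : ∀ i < 3510, Fn.applyW X35 [3, 7, 3, 7] i = i := by
  intro i hi
  exact fixRangeK_sound fxr_24_0 i (Nat.zero_le _) hi

theorem fixwr_25 : ∀ i < 3510, Fn.applyW X35 [3, 8, 3, 8] i = i := by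
  intro i hi
  exact fixRangeK_sound fxr_25_0 i (Nat.zero_le _) hi

theorem fixwr_26 : ∀ i < 3510, Fn.applyW X35 [4, 5, 4, 5] i = i := by
  intro i hi
  exact fixRangeK_sound fxr_26_0 i (Nat.zero_le _) hi

theorem fixwr_27 : ∀ i < 3510, Fn.applyW X35 [4, 6, 4, 6] i = i := by
  intro i hi
  exact fixRangeK_sound fxr_27_0 i (Nat.zero_le _) hi

theorem fixwr_28 : ∀ i < 3510, Fn.applyW X35 [4, 7, 4, 7, 4, 7] i = i := by
  intro i hi
  exact fixRangeK_sound fxr_28_0 i (Nat.zero_le _) hi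

theorem fixwr_29 : ∀ i < 3510, Fn.applyW X35 [4, 8, 4, 8] i = i := by
  intro i hi
  exact fixRangeK_sound fxr_29_0 i (Nat.zero_le _) hi

theorem fixwr_30 : ∀ i < 3510, Fn.applyW X35 [5, 6, 5, 6, 5, 6] i = i := by
  intro i hi
  exact fixRangeK_sound fxr_30_0 i (Nat.zero_le _) hi

theorem fixwr_31 : ∀ i < 3510, Fn.applyW X35 [5, 7, 5, 7] i = i := by
  intro i hi
  exact fixRangeK_sound fxr_31_0 i (Nat.zero_le _) hi

theorem fixwr_32 : ∀ i < 3510, Fn.applyW X35 [5, 8, 5, 8] i = i := by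
  intro i hi
  exact fixRangeK_sound fxr_32_0 i (Nat.zero_le _) hi

theorem fixwr_33 : ∀ i < 3510, Fn.applyW X35 [6, 7, 6, 7] i = i := by
  intro i hi
  exact fixRangeK_sound fxr_33_0 i (Nat.zero_le _) hi

theorem fixwr_34 : ∀ i < 3510, Fn.applyW X35 [6, 8, 6, 8] i = i := by
  intro i hi
  exact fixRangeK_sound fxr_34_0 i (Nat.zero_le _) hi

theorem fixwr_35 : ∀ i < 3510, Fn.applyW X35 [7, 8, 7, 8] i = i := by
  intro i hi
  exact fixRangeK_sound fxr_35_0 i (Nat.zero_le _) hi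

theorem fixwr_36 : ∀ i < 3510, Fn.applyW X35 [2, 1, 0, 2, 3, 4, 2, 5, 6, 2, 1, 0, 2, 3, 4, 2, 5, 6, 2, 1, 0, 2, 3, 4, 2, 5, 6, 2, 1, 0, 2, 3, 4, 2, 5, 6, 2, 1, 0, 2, 3, 4, 2, 5, 6, 2, 1, 0, 2, 3, 4, 2, 5, 6, 2, 1, 0, 2, 3, 4, 2, 5, 6, 2, 1, 0, 2, 3, 4, 2, 5, 6, 2, 1, 0, 2, 3, 4, 2, 5, 6, 2, 1, 0, 2, 3, 4, 2, 5, 6] i = i := by
  intro i hi
  by_cases h0 : i < 878
  · exact fixRangeK_sound fxr_36_0 i (Nat.zero_le _) h0
  by_cases h1 : i < 1756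
  · exact fixRangeK_sound fxr_36_1 i (Nat.le_of_not_gt h0) h1
  by_cases h2 : i < 2634
  · exact fixRangeK_sound fxr_36_2 i (Nat.le_of_not_gt h1) h2
  exact fixRangeK_sound fxr_36_3 i (Nat.le_of_not_gt h2) hi

theorem fixwr_37 : ∀ i < 3510, Fn.applyW X35 [8, 0, 1, 2, 3, 4, 5, 8, 0, 1, 2, 3, 4, 5, 8, 0, 1, 2, 3, 4, 5, 8, 0, 1, 2, 3, 4, 5, 8, 0, 1, 2, 3, 4, 5, 8, 0, 1, 2, 3, 4, 5, 8, 0, 1, 2, 3, 4, 5, 8, 0, 1, 2, 3, 4, 5, 8, 0, 1, 2, 3, 4, 5] i = i := by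
  intro i hi
  by_cases h0 : i < 1170
  · exact fixRangeK_sound fxr_37_0 i (Nat.zero_le _) h0
  by_cases h1 : i < 2340
  · exact fixRangeK_sound fxr_37_1 i (Nat.le_of_not_gt h0) h1
  exact fixRangeK_sound fxr_37_2 i (Nat.le_of_not_gt h1) hi

theorem fixwr_38 : ∀ i < 3510, Fn.applyW X35 [0, 0] i = i := by
  intro i hi
  exact fixRangeK_sound fxr_38_0 i (Nat.zero_le _) hi

theorem fixwr_39 : ∀ i < 3510, Fn.applyW X35 [1, 1] i = i := by
  intro i hi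
  exact fixRangeK_sound fxr_39_0 i (Nat.zero_le _) hi

theorem fixwr_40 : ∀ i < 3510, Fn.applyW X35 [2, 2] i = i := by
  intro i hi
  exact fixRangeK_sound fxr_40_0 i (Nat.zero_le _) hi

theorem fixwr_41 : ∀ i < 3510, Fn.applyW X35 [3, 3] i = i := by
  intro i hi
  exact fixRangeK_sound fxr_41_0 i (Nat.zero_le _) hi

theorem fixwr_42 : ∀ i < 3510, Fn.applyW X35 [4, 4] i = i := by
  intro i hi
  exact fixRangeK_sound fxr_42_0 i (Nat.zero_le _) hi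

theorem fixwr_43 : ∀ i < 3510, Fn.applyW X35 [5, 5] i = i := by
  intro i hi
  exact fixRangeK_sound fxr_43_0 i (Nat.zero_le _) hi

theorem fixwr_44 : ∀ i < 3510, Fn.applyW X35 [6, 6] i = i := by
  intro i hi
  exact fixRangeK_sound fxr_44_0 i (Nat.zero_le _) hi

theorem fixwr_45 : ∀ i < 3510, Fn.applyW X35 [7, 7] i = i := by
  intro i hi
  exact fixRangeK_sound fxr_45_0 i (Nat.zero_le _) hi

theorem fixwr_46 : ∀ i < 3510, Fn.applyW X35 [8, 8] i = i := by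
  intro i hi
  exact fixRangeK_sound fxr_46_0 i (Nat.zero_le _) hi

theorem fixwr_47 : ∀ i < 3510, Fn.applyW X35 [] i = i := by
  intro i hi
  exact fixRangeK_sound fxr_47_0 i (Nat.zero_le _) hi

theorem rels35 : ∀ b ∈ PresP9.baseL, ∀ i < 3510, Fn.applyW X35 b i = i := by
  intro b hb
  simp only [PresP9.baseL, List.mem_cons, List.not_mem_nil, or_false] at hb
  rcases hb with rfl | rfl | rfl | rfl | rfl | rfl | rfl | rfl | rfl | rfl | rfl | rfl | rfl | rfl | rfl | rfl | rfl | rfl | rfl | rfl | rfl | rfl | rfl | rfl | rfl | rfl | rfl | rfl | rfl | rfl | rfl | rfl | rfl | rfl | rfl | rfl | rfl | rfl | rfl | rfl | rfl | rfl | rfl | rfl | rfl | rfl | rfl | rfl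
  · exact fixwr_0
  · exact fixwr_1
  · exact fixwr_2
  · exact fixwr_3
  · exact fixwr_4
  · exact fixwr_5
  · exact fixwr_6
  · exact fixwr_7
  · exact fixwr_8
  · exact fixwr_9
  · exact fixwr_10
  · exact fixwr_11
  · exact fixwr_12
  · exact fixwr_13
  · exact fixwr_14
  · exact fixwr_15
  · exact fixwr_16
  · exact fixwr_17
  · exact fixwr_18
  · exact fixwr_19
  · exact fixwr_20
  · exact fixwr_21
  · exact fixwr_22
  · exact fixwr_23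
  · exact fixwr_24
  · exact fixwr_25
  · exact fixwr_26
  · exact fixwr_27
  · exact fixwr_28
  · exact fixwr_29
  · exact fixwr_30
  · exact fixwr_31
  · exact fixwr_32
  · exact fixwr_33
  · exact fixwr_34
  · exact fixwr_35
  · exact fixwr_36
  · exact fixwr_37
  · exact fixwr_38
  · exact fixwr_39
  · exact fixwr_40
  · exact fixwr_41
  · exact fixwr_42
  · exact fixwr_43
  · exact fixwr_44
  · exact fixwr_45
  · exact fixwr_46
  · exact fixwr_47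

/-- a word in the letters is trivial in the group if it fixes all the 3510 points -/
theorem wprod_xM_eq_one (w : List ℕ) (hw : ∀ s ∈ w, s < 9)
    (h : ∀ i < 3510, Fn.applyW X35 w i = i) : wprod xM w = 1 := by
  apply Ord.Fi22Order.rho_injective
  rw [map_one]
  apply Equiv.ext
  intro i
  apply Fin.ext
  have h1 := TabPerm.hom_word xM Fi22o3510.rho rho35_xM w hw i
  rw [h1, Equiv.Perm.one_apply]
  exact h i.val i.isLt

theorem rels_hold : ∀ b ∈ PresP9.baseL, wprod xM b = 1 := by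
  intro b hb
  have hl : ∀ s ∈ b, s < 9 := fun s hs => lettersK_lt PresP9.hlet hb hs
  exact wprod_xM_eq_one b hl (rels35 b hb)

/-- the homomorphism of the presented cover to the group -/
noncomputable def phi : PresP9.Grp →* Cfsg.Spor.Fi22 := (PresP9.hliftG xM rels_hold).choose

theorem phi_v : ∀ s < 9, phi (PresP9.v s) = xM s := (PresP9.hliftG xM rels_hold).choose_spec

theorem phi_wprod (w : List ℕ) (hw : ∀ s ∈ w, s < 9) : phi (wprod PresP9.v w) = wprod xM w := by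
  induction w with
  | nil => rw [wprod_nil, wprod_nil, map_one]
  | cons s w ih =>
    rw [wprod_cons, wprod_cons, map_mul, ih (fun t ht => hw t (List.mem_cons_of_mem _ ht)),
      phi_v s (hw s List.mem_cons_self)]

/-- the letters generate the group -/
theorem xM_gen : Subgroup.closure {y : Cfsg.Spor.Fi22 | ∃ s < 9, y = xM s} = ⊤ := by
  rw [eq_top_iff, ← PresentedGroup.closure_range_of
    (Cfsg.Spor.coxRelators Cfsg.Spor.Fi22.edges ∪ {r | r ∈ Cfsg.Spor.Fi22.extra})]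
  apply Subgroup.closure_mono
  rintro _ ⟨y, rfl⟩
  refine ⟨n2 (Fi22Pres.idx y), n2_lt _ (Fi22Pres.hidx y).1, ?_⟩
  rw [xM, o2_n2 _ (Fi22Pres.hidx y).1, gP, (Fi22Pres.hidx y).2]
  rfl

theorem phi_surjective : Function.Surjective phi := by
  rw [← MonoidHom.range_eq_top, eq_top_iff, ← xM_gen, Subgroup.closure_le]
  rintro y ⟨s, hs, rfl⟩
  exact ⟨PresP9.v s, phi_v s hs⟩

end Cfsg.Agent.Lib.Helper12.Fi22M.ModelP
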