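import Cfsg.Agent.Lib.Helper12.Fi22M.OrderP
import Cfsg.Agent.Lib.Helper12.Fi22M.ModelP
import Cfsg.Agent.Lib.Helper12.Fi22M.FixRange
import Cfsg.Agent.Lib.Helper12.Fi22M.ExistI
import Cfsg.Agent.Lib.Helper12.TCG.Fi22Pe28160.Rho
import Cfsg.Agent.Lib.Helper12.Ord.Perfect

/-!
The group presented on the nine involutions by the relators of Coxeter, the spider relator and one relator of type
E7 is a stem extension of the group of Fischer with a kernel of order two (helper12).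
-/

set_option autoImplicit false
set_option maxRecDepth 100000

namespace Cfsg.Agent.Lib.Helper12.Fi22M.ExistP

open Cfsg.Agent.Lib.Helper12.TC Cfsg.Agent.Lib.Helper12.TCG
  Cfsg.Agent.Lib.Helper12.Fi22M Cfsg.Agent.Lib.Helper12.M23Ext

/-- the word of the central element -/
def zw : List ℕ := [0, 1, 2, 3, 4, 7, 5, 0, 1, 2, 3, 4, 7, 5, 0, 1, 2, 3, 4, 7, 5, 0, 1, 2, 3, 4, 7, 5, 0, 1, 2, 3, 4, 7, 5, 0, 1, 2, 3, 4, 7, 5, 0, 1, 2, 3, 4, 7, 5, 0, 1, 2, 3, 4, 7, 5, 0, 1, 2, 3, 4, 7, 5]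

/-- the word of the relator of odd length -/
def fw : List ℕ := [8, 0, 1, 2, 3, 4, 5, 8, 0, 1, 2, 3, 4, 5, 8, 0, 1, 2, 3, 4, 5, 8, 0, 1, 2, 3, 4, 5, 8, 0, 1, 2, 3, 4, 5, 8, 0, 1, 2, 3, 4, 5, 8, 0, 1, 2, 3, 4, 5, 8, 0, 1, 2, 3, 4, 5, 8, 0, 1, 2, 3, 4, 5]

theorem zw_lt : ∀ s ∈ zw, s < 9 := by decide

theorem zw_fix_chk0 : fixRangeK ModelI.X35 zw 0 1200 = true := by
  decide +kernel

theorem zw_fix_chk1 : fixRangeK ModelI.X35 zw 1200 2400 = true := by
  decide +kernel

theorem zw_fix_chk2 : fixRangeK ModelI.X35 zw 2400 3510 = true := by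
  decide +kernel

theorem zw_fix : ∀ i < 3510, Fn.applyW ModelI.X35 zw i = i := by
  intro i hi
  by_cases h0 : i < 1200
  · exact fixRangeK_sound zw_fix_chk0 i (Nat.zero_le _) h0
  by_cases h1 : i < 2400
  · exact fixRangeK_sound zw_fix_chk1 i (Nat.le_of_not_gt h0) h1
  exact fixRangeK_sound zw_fix_chk2 i (Nat.le_of_not_gt h1) hi

/-- the central element -/
noncomputable def z : PresP9.Grp := wprod PresP9.v zw

instance finite9 : Finite PresP9.Grp := OrderP.finite9

theorem phi_z : ModelP.phi z = 1 := by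
  rw [z, ModelP.phi_wprod zw zw_lt]
  exact ModelP.wprod_xM_eq_one zw zw_lt zw_fix

theorem rho_e (l : List ℕ) (hl : ∀ s ∈ l, s < 9) (i : Fin Fi22Pe28160.cN) :
    ((Fi22Pe28160.rho (wprod PresP9.v l) i : Fin Fi22Pe28160.cN) : ℕ) = Fn.applyW Fi22Pe28160.TT l i.val :=
  TabPerm.hom_word PresP9.v Fi22Pe28160.rho Fi22Pe28160.rho_gen l hl i

theorem z_ne_one : z ≠ 1 := by
  intro heq
  have e1 := rho_e zw zw_lt ⟨0, Fi22Pe28160.hN0⟩
  rw [← z, heq, map_one, Equiv.Perm.one_apply] at e1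
  have h3 : Nat.beq (Fn.applyW Fi22Pe28160.TT zw 0) 0 = false := by decide +kernel
  have h4 : Nat.beq (Fn.applyW Fi22Pe28160.TT zw 0) 0 = true := by
    rw [Nat.beq_eq]
    exact e1.symm
  rw [h3] at h4
  exact Bool.false_ne_true h4

/-- the central element as an element of the kernel -/
noncomputable def zK : ModelP.phi.ker := ⟨z, phi_z⟩

theorem card_ker_le : Nat.card ModelP.phi.ker ≤ 2 := by
  have h1 := OrderP.finite_card_le.2
  rw [ExistI.card_eq_mul ModelP.phi ModelP.phi_surjective] at h1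
  omega

theorem card_ker : Nat.card ModelP.phi.ker = 2 := by
  have hle := card_ker_le
  have h1 : 1 < Nat.card ModelP.phi.ker := by
    rw [Finite.one_lt_card_iff_nontrivial]
    exact ⟨⟨zK, 1, fun h => z_ne_one (congrArg Subtype.val h)⟩⟩
  omega

theorem zK_pow (k : ℕ) : ((zK ^ k : ModelP.phi.ker) : PresP9.Grp) = z ^ k := by
  rw [Subgroup.coe_pow]; rfl

theorem orderOf_zK : orderOf zK = 2 := by
  have hd : orderOf zK ∣ Nat.card ModelP.phi.ker := orderOf_dvd_natCard zK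
  rw [card_ker] at hd
  have h1 : orderOf zK ≠ 1 := by
    intro h
    rw [orderOf_eq_one_iff] at h
    exact z_ne_one (congrArg Subtype.val h)
  rcases (Nat.dvd_prime Nat.prime_two).mp hd with h | h
  · exact absurd h h1
  · exact h

theorem z_sq : z ^ 2 = 1 := by
  rw [← zK_pow, ← orderOf_zK, pow_orderOf_eq_one]
  rfl

theorem zpowers_zK : Subgroup.zpowers zK = ⊤ := by
  apply Subgroup.eq_top_of_card_eq
  rw [Nat.card_zpowers, orderOf_zK, card_ker]

theorem ker_cases (x : PresP9.Grp) (hx : x ∈ ModelP.phi.ker) : x = 1 ∨ x = z := by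
  have hmem : (⟨x, hx⟩ : ModelP.phi.ker) ∈ Subgroup.zpowers zK := by
    rw [zpowers_zK]; exact Subgroup.mem_top _
  obtain ⟨j, hj⟩ := Subgroup.mem_zpowers_iff.mp hmem
  have hj' : z ^ j = x := by
    have := congrArg Subtype.val hj
    rwa [Subgroup.coe_zpow] at this
  have h2 : z ^ (2 : ℤ) = 1 := by exact_mod_cast z_sq
  have hred : z ^ j = z ^ (j % 2) := by
    conv_lhs => rw [← Int.emod_add_mul_ediv j 2]
    rw [zpow_add, zpow_mul, h2, one_zpow, mul_one]
  rcases Int.emod_two_eq_zero_or_one j with h | h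
  · left
    rw [← hj', hred, h, zpow_zero]
  · right
    rw [← hj', hred, h, zpow_one]

theorem z_central : z ∈ Subgroup.center PresP9.Grp := by
  rw [Subgroup.mem_center_iff]
  intro γ
  have hx : γ * z * γ⁻¹ ∈ ModelP.phi.ker :=
    (MonoidHom.normal_ker ModelP.phi).conj_mem z phi_z γ
  rcases ker_cases _ hx with h | h
  · exact absurd (conj_eq_one_iff.mp h) z_ne_one
  · exact mul_inv_eq_iff_eq_mul.mp h

theorem v_sq (s : ℕ) (hs : s < 9) : PresP9.v s * PresP9.v s = 1 := by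
  have h : [s, s] ∈ PresP9.baseL := by
    interval_cases s <;> decide
  have h2 := PresP9.hbase _ h
  rwa [wprod_cons, wprod_cons, wprod_nil, mul_one] at h2

/-- the edges of the graph -/
def edge (x y : Fin 9) : Prop :=
  (x.val, y.val) ∈ [(0, 1), (1, 2), (2, 3), (3, 4), (2, 5), (5, 6), (4, 7), (0, 8)]

instance (x y : Fin 9) : Decidable (edge x y) := by
  unfold edge
  infer_instance

theorem braid (x y : Fin 9) (h : edge x y) : (PresP9.v x.val * PresP9.v y.val) ^ 3 = 1 := by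
  have hb : [x.val, y.val, x.val, y.val, x.val, y.val] ∈ PresP9.baseL := by
    unfold edge at h
    simp only [List.mem_cons, Prod.mk.injEq, List.not_mem_nil, or_false] at h
    rcases h with ⟨h1, h2⟩ | ⟨h1, h2⟩ | ⟨h1, h2⟩ | ⟨h1, h2⟩ | ⟨h1, h2⟩ | ⟨h1, h2⟩ | ⟨h1, h2⟩ | ⟨h1, h2⟩ <;>
      rw [h1, h2] <;> decide
  have h2 := PresP9.hbase _ hb
  simp only [wprod_cons, wprod_nil, mul_one] at h2
  rw [pow_succ, pow_succ, pow_one]
  simp only [mul_assoc]
  exact h2

theorem conn (P : Fin 9 → Prop) (h0 : P 0) (hstep : ∀ x y, edge x y → P x → P y) : ∀ y, P y := by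
  have h1 : P 1 := hstep 0 1 (by decide) h0
  have h2 : P 2 := hstep 1 2 (by decide) h1
  have h3 : P 3 := hstep 2 3 (by decide) h2
  have h4 : P 4 := hstep 3 4 (by decide) h3
  have h5 : P 5 := hstep 2 5 (by decide) h2
  have h6 : P 6 := hstep 5 6 (by decide) h5
  have h7 : P 7 := hstep 4 7 (by decide) h4
  have h8 : P 8 := hstep 0 8 (by decide) h0
  intro y
  fin_cases y
  · exact h0
  · exact h1
  · exact h2
  · exact h3
  · exact h4
  · exact h5
  · exact h6
  · exact h7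
  · exact h8

/-- the relator of odd length as a list of letters -/
def fl : List (Fin 9) := [8, 0, 1, 2, 3, 4, 5, 8, 0, 1, 2, 3, 4, 5, 8, 0, 1, 2, 3, 4, 5, 8, 0, 1, 2, 3, 4, 5, 8, 0, 1, 2, 3, 4, 5, 8, 0, 1, 2, 3, 4, 5, 8, 0, 1, 2, 3, 4, 5, 8, 0, 1, 2, 3, 4, 5, 8, 0, 1, 2, 3, 4, 5]

theorem fl_val : fl.map (fun x => x.val) = fw := by decide

theorem fw_mem : fw ∈ PresP9.baseL := by decide

theorem commutator_eq_top : commutator PresP9.Grp = ⊤ := by
  have hgen : Subgroup.closure (Set.range fun x : Fin 9 => PresP9.v x.val) = ⊤ := by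
    rw [eq_top_iff]
    intro γ _
    have h := PresP9.hgen γ
    refine Subgroup.closure_mono ?_ h
    rintro _ ⟨s, hs, rfl⟩
    exact ⟨⟨s, hs⟩, rfl⟩
  have hl : (fl.map fun x : Fin 9 => PresP9.v x.val).prod ^ 1 = 1 := by
    rw [pow_one]
    have h2 := PresP9.hbase _ fw_mem
    rw [← fl_val] at h2
    rw [← h2]
    unfold wprod
    rw [List.map_map]
    rfl
  exact Cfsg.Agent.Lib.Helper12.Ord.commutator_eq_top_of_braid (fun x : Fin 9 => PresP9.v x.val) hgen
    (fun x => v_sq x.val x.isLt) edge braid 0 conn fl 1 hl (by decide)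

theorem phi_stem : Cfsg.IsStemExtension ModelP.phi := by
  refine ⟨ModelP.phi_surjective, ?_, ?_⟩
  · intro x hx
    rcases ker_cases x hx with rfl | rfl
    · exact one_mem _
    · exact z_central
  · intro x _
    rw [commutator_eq_top]
    exact Subgroup.mem_top x

end Cfsg.Agent.Lib.Helper12.Fi22M.ExistP
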