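import Cfsg.Agent.Lib.Helper12.Fi22M.XTabU

/-!
The further columns of the table on 3510 points are products of earlier columns, part 0 (generated, helper12).
-/

set_option autoImplicit false
set_option maxRecDepth 100000
set_option Elab.async false

namespace Cfsg.Agent.Lib.Helper12.Fi22M.GenU

open Cfsg.Agent.Lib.Helper12.TC Cfsg.Agent.Lib.Helper12.TC.Fn Cfsg.Agent.Lib.Helper12.Fi22M.XTabU

theorem step_0 : slpStepK XU 3510 10 [0, 1, 1, 5, 2, 4, 4, 9, 3, 9, 0, 9, 2, 6, 6, 8, 5, 8, 7, 8, 4, 0, 0, 5] = true := by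
  decide +kernel

theorem step_1 : slpStepK XU 3510 11 [7, 5, 6, 6, 8, 2, 8, 2, 3, 3, 0, 2, 5, 2, 2, 8, 8, 5, 8, 8, 2, 7, 6, 8] = true := by
  decide +kernel

theorem step_6 : slpStepK XU 3510 16 [15, 15, 14, 15, 14, 15, 14, 14, 14, 14, 12, 13, 12, 15, 13, 12, 14, 11, 11, 13, 11, 15, 12, 0, 4, 7, 8, 9, 0, 4, 6, 9, 2, 7, 3, 1, 5, 1, 0, 7, 2, 8, 9, 6, 7, 8, 5] = true := by
  decide +kernel

theorem step_7 : slpStepK XU 3510 17 [15, 16, 15, 14, 13, 15, 16, 16, 14, 14, 11, 10, 15, 10, 16, 2, 5, 4, 4, 9, 6, 0, 8, 2, 0, 4, 0, 2, 2, 2, 1, 7, 3, 8, 0, 3, 3, 7, 1] = true := by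
  decide +kernel

theorem step_8 : slpStepK XU 3510 18 [16, 17, 16, 17, 16, 14, 16, 15, 14, 16, 12, 13, 16, 11, 11, 10, 16, 4, 1, 9, 3, 9, 9, 5, 4, 6, 4, 8, 0, 2, 0, 6, 6, 2, 1, 8, 1, 3, 1, 1, 0] = true := by
  decide +kernel

end Cfsg.Agent.Lib.Helper12.Fi22M.GenU
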