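import Cfsg.Agent.Lib.Helper12.Fi22M.XTabU

/-!
The further columns of the table on 3510 points are products of earlier columns, part 1 (generated, helper12).
-/

set_option autoImplicit false
set_option maxRecDepth 100000
set_option Elab.async false

namespace Cfsg.Agent.Lib.Helper12.Fi22M.GenU

open Cfsg.Agent.Lib.Helper12.TC Cfsg.Agent.Lib.Helper12.TC.Fn Cfsg.Agent.Lib.Helper12.Fi22M.XTabU

theorem step_2 : slpStepK XU 3510 12 [10, 10, 11, 10, 11, 10, 10, 11, 10, 11, 11, 11, 5, 9, 5, 5, 7, 2, 6, 7, 8, 3, 7, 4, 7, 8, 8, 5, 7, 7, 5, 9, 8, 7, 7, 3] = true := by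
  decide +kernel

theorem step_4 : slpStepK XU 3510 14 [12, 12, 12, 12, 13, 13, 13, 13, 12, 12, 13, 10, 10, 11, 13, 12, 12, 1, 0, 9, 0, 4, 9, 3, 1, 8, 2, 4, 3, 3, 0, 6, 0, 0, 5, 5, 2, 3, 0, 1, 1] = true := by
  decide +kernel

theorem step_5 : slpStepK XU 3510 15 [12, 12, 14, 14, 13, 14, 12, 13, 11, 12, 13, 14, 13, 14, 12, 1, 0, 0, 0, 5, 4, 2, 2, 2, 8, 0, 6, 9, 0, 3, 2, 0, 0, 5, 9, 1, 4, 5, 7] = true := by
  decide +kernel

theorem step_12 : slpStepK XU 3510 22 [20, 20, 19, 18, 17, 20, 16, 15, 19, 17, 16, 12, 15, 21, 13, 10, 12, 10, 12, 21, 3, 2, 7, 9, 4, 8, 6, 1, 9, 9, 1, 1, 5, 2, 8, 2, 6, 1, 1, 0, 2, 4, 6, 3] = true := by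
  decide +kernel

end Cfsg.Agent.Lib.Helper12.Fi22M.GenU
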