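import Cfsg.Agent.Lib.Helper12.Fi22M.XTabU

/-!
The further columns of the table on 3510 points are products of earlier columns, part 2 (generated, helper12).
-/

set_option autoImplicit false
set_option maxRecDepth 100000
set_option Elab.async false

namespace Cfsg.Agent.Lib.Helper12.Fi22M.GenU

open Cfsg.Agent.Lib.Helper12.TC Cfsg.Agent.Lib.Helper12.TC.Fn Cfsg.Agent.Lib.Helper12.Fi22M.XTabU

theorem step_3 : slpStepK XU 3510 13 [11, 12, 11, 10, 10, 5, 2, 9, 4, 7, 4, 4, 8, 8, 8, 8, 9, 9, 6, 4, 3, 7, 8, 5, 9, 1, 5, 0, 3] = true := by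
  decide +kernel

theorem step_9 : slpStepK XU 3510 19 [16, 16, 18, 18, 14, 14, 15, 18, 15, 12, 15, 18, 13, 17, 17, 11, 17, 2, 3, 1, 3, 0, 8, 7, 7, 4, 8, 6, 3, 3, 6, 6, 8, 0, 9, 9, 0, 6, 8, 9, 2] = true := by
  decide +kernel

theorem step_10 : slpStepK XU 3510 20 [18, 19, 17, 18, 17, 16, 15, 18, 17, 14, 13, 14, 17, 16, 11, 13, 13, 13, 1, 7, 5, 0, 8, 1, 9, 5, 4, 5, 4, 0, 6, 1, 1, 4, 3, 0, 7, 0, 6, 7, 7, 3] = true := by
  decide +kernel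

theorem step_11 : slpStepK XU 3510 21 [16, 16, 17, 19, 18, 14, 18, 20, 12, 15, 17, 13, 16, 10, 10, 18, 19, 10, 9, 9, 1, 0, 4, 0, 5, 4, 1, 3, 7, 3, 1, 9, 5, 6, 7, 2, 5, 6, 1, 4, 1, 1] = true := by
  decide +kernel

end Cfsg.Agent.Lib.Helper12.Fi22M.GenU
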