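import Mathlib
import Cfsg.Prelude.Def_KGroupFacts

/-!
Stem extensions: the quotient of a stem extension by a subgroup of its kernel is a stem extension; the quotient by a
Sylow subgroup of the kernel has a kernel of order prime to the prime; a fibre product of two stem extensions whose
kernels have coprime prime orders contains the product of the kernels in its commutator subgroup (helper12).
-/

set_option autoImplicit false

namespace Cfsg.Agent.Lib.Helper12.Fi22M.Glue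

open Cfsg

universe u v

section Quot

variable {Γ : Type u} {G : Type v} [Group Γ] [Group G] (σ : Γ →* G)

theorem normal_of_le_ker (hσ : IsStemExtension σ) (N : Subgroup Γ) (hN : N ≤ σ.ker) : N.Normal := by
  refine ⟨fun n hn g => ?_⟩
  have hc := Subgroup.mem_center_iff.mp (hσ.2.1 (hN hn)) g
  have : g * n * g⁻¹ = n := by rw [hc, mul_inv_cancel_right]
  rw [this]
  exact hn

theorem card_eq_mul_ker [Finite Γ] (hs : Function.Surjective σ) :
    Nat.card Γ = Nat.card G * Nat.card σ.ker := by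
  have h1 := Subgroup.card_eq_card_quotient_mul_card_subgroup σ.ker
  have e := QuotientGroup.quotientKerEquivOfSurjective σ hs
  rw [Nat.card_congr e.toEquiv] at h1
  exact h1

/-- the quotient of a finite stem extension by a subgroup of its kernel -/
theorem exists_stem_quot [Finite Γ] (hσ : IsStemExtension σ) (N : Subgroup Γ) (hN : N ≤ σ.ker) :
    ∃ (Δ : Type u) (_ : Group Δ) (_ : Finite Δ) (τ : Δ →* G),
      IsStemExtension τ ∧ Nat.card τ.ker * Nat.card N = Nat.card σ.ker := by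
  have : N.Normal := normal_of_le_ker σ hσ N hN
  have : Finite G := Finite.of_surjective σ hσ.1
  let τ : Γ ⧸ N →* G := QuotientGroup.lift N σ hN
  have hτ : ∀ g : Γ, τ (QuotientGroup.mk g) = σ g := fun g => rfl
  have hsurj : Function.Surjective τ := by
    intro y
    obtain ⟨g, rfl⟩ := hσ.1 y
    exact ⟨QuotientGroup.mk g, hτ g⟩
  have hker : ∀ x : Γ ⧸ N, x ∈ τ.ker → ∃ k ∈ σ.ker, (QuotientGroup.mk k : Γ ⧸ N) = x := by
    intro x hx
    obtain ⟨g, rfl⟩ := QuotientGroup.mk_surjective x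
    refine ⟨g, ?_, rfl⟩
    rw [MonoidHom.mem_ker] at hx ⊢
    rw [← hτ g]
    exact hx
  refine ⟨Γ ⧸ N, inferInstance, inferInstance, τ, ⟨hsurj, ?_, ?_⟩, ?_⟩
  · intro x hx
    obtain ⟨k, hk, rfl⟩ := hker x hx
    rw [Subgroup.mem_center_iff]
    intro y
    obtain ⟨g, rfl⟩ := QuotientGroup.mk_surjective y
    have hc := Subgroup.mem_center_iff.mp (hσ.2.1 hk) g
    rw [← QuotientGroup.mk_mul, ← QuotientGroup.mk_mul, hc]
  · intro x hx
    obtain ⟨k, hk, rfl⟩ := hker x hx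
    have hkc : k ∈ commutator Γ := hσ.2.2 hk
    have hmap : (commutator Γ).map (QuotientGroup.mk' N) ≤ commutator (Γ ⧸ N) := by
      rw [commutator_def, Subgroup.map_commutator, commutator_def]
      exact Subgroup.commutator_mono le_top le_top
    exact hmap ⟨k, hkc, rfl⟩
  · have h1 := card_eq_mul_ker σ hσ.1
    have h2 := card_eq_mul_ker τ hsurj
    have h3 := Subgroup.card_eq_card_quotient_mul_card_subgroup N
    have hG : 0 < Nat.card G := Nat.card_pos
    rw [h1, h2, mul_assoc] at h3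
    exact (Nat.eq_of_mul_eq_mul_left hG h3).symm

/-- the quotient of a finite stem extension by a Sylow subgroup of its kernel -/
theorem exists_stem_quot_sylow [Finite Γ] (hσ : IsStemExtension σ) (p : ℕ) [Fact p.Prime] :
    ∃ (Δ : Type u) (_ : Group Δ) (_ : Finite Δ) (τ : Δ →* G),
      IsStemExtension τ ∧
        Nat.card τ.ker * p ^ (Nat.card σ.ker).factorization p = Nat.card σ.ker := by
  obtain ⟨P⟩ : Nonempty (Sylow p σ.ker) := inferInstance
  have hP : Nat.card P = p ^ (Nat.card σ.ker).factorization p := Sylow.card_eq_multiplicity P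
  let N : Subgroup Γ := (P : Subgroup σ.ker).map σ.ker.subtype
  have hN : N ≤ σ.ker := by
    rintro _ ⟨y, _, rfl⟩
    exact y.2
  have hcN : Nat.card N = Nat.card P :=
    Subgroup.card_map_of_injective (Subgroup.subtype_injective _)
  obtain ⟨Δ, i1, i2, τ, hτ, hc⟩ := exists_stem_quot σ hσ N hN
  refine ⟨Δ, i1, i2, τ, hτ, ?_⟩
  rw [← hP, ← hcN]
  exact hc

end Quot


section Fibre

variable {E₁ E₂ G : Type u} [Group E₁] [Group E₂] [Group G] (φ₁ : E₁ →* G) (φ₂ : E₂ →* G)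

/-- the fibre product of two groups over a third one -/
def fibre : Subgroup (E₁ × E₂) :=
  MonoidHom.eqLocus (φ₁.comp (MonoidHom.fst E₁ E₂)) (φ₂.comp (MonoidHom.snd E₁ E₂))

theorem mem_fibre (p : E₁ × E₂) : p ∈ fibre φ₁ φ₂ ↔ φ₁ p.1 = φ₂ p.2 := Iff.rfl

/-- the homomorphism of the fibre product to the third group -/
def fibreHom : fibre φ₁ φ₂ →* G := (φ₁.comp (MonoidHom.fst E₁ E₂)).comp (fibre φ₁ φ₂).subtype

theorem fibreHom_apply (p : fibre φ₁ φ₂) : fibreHom φ₁ φ₂ p = φ₁ p.1.1 := rfl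

theorem mem_ker_fibreHom (p : fibre φ₁ φ₂) :
    p ∈ (fibreHom φ₁ φ₂).ker ↔ p.1.1 ∈ φ₁.ker ∧ p.1.2 ∈ φ₂.ker := by
  rw [MonoidHom.mem_ker, fibreHom_apply, MonoidHom.mem_ker, MonoidHom.mem_ker]
  constructor
  · intro h
    refine ⟨h, ?_⟩
    rw [← (mem_fibre φ₁ φ₂ p.1).mp p.2]
    exact h
  · exact fun h => h.1

theorem fst_surjective (h₂ : Function.Surjective φ₂) :
    Function.Surjective ((MonoidHom.fst E₁ E₂).comp (fibre φ₁ φ₂).subtype) := by
  intro x
  obtain ⟨y, hy⟩ := h₂ (φ₁ x)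
  exact ⟨⟨(x, y), hy.symm⟩, rfl⟩

theorem snd_surjective (h₁ : Function.Surjective φ₁) :
    Function.Surjective ((MonoidHom.snd E₁ E₂).comp (fibre φ₁ φ₂).subtype) := by
  intro y
  obtain ⟨x, hx⟩ := h₁ (φ₂ y)
  exact ⟨⟨(x, y), hx⟩, rfl⟩

theorem exists_mem_commutator_of_surjective {A B : Type u} [Group A] [Group B] (f : A →* B)
    (hf : Function.Surjective f) (b : B) (hb : b ∈ commutator B) : ∃ a ∈ commutator A, f a = b := by
  have h : (commutator A).map f = commutator B := by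
    rw [commutator_def, Subgroup.map_commutator, commutator_def,
      Subgroup.map_top_of_surjective f hf]
  rw [← h] at hb
  exact hb

/-- the fibre product of two stem extensions whose kernels are killed by coprime exponents is a stem extension -/
theorem fibre_stem (h₁ : IsStemExtension φ₁) (h₂ : IsStemExtension φ₂) (e₁ e₂ : ℕ)
    (h11 : ∀ k ∈ φ₁.ker, k ^ e₁ = k) (h12 : ∀ w ∈ φ₂.ker, w ^ e₁ = 1)
    (h21 : ∀ w ∈ φ₁.ker, w ^ e₂ = 1) (h22 : ∀ k ∈ φ₂.ker, k ^ e₂ = k) :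
    IsStemExtension (fibreHom φ₁ φ₂) := by
  refine ⟨?_, ?_, ?_⟩
  · intro g
    obtain ⟨x, hx⟩ := h₁.1 g
    obtain ⟨y, hy⟩ := h₂.1 g
    exact ⟨⟨(x, y), by rw [mem_fibre, hx, hy]⟩, hx⟩
  · intro p hp
    rw [mem_ker_fibreHom] at hp
    rw [Subgroup.mem_center_iff]
    intro q
    apply Subtype.ext
    apply Prod.ext
    · exact Subgroup.mem_center_iff.mp (h₁.2.1 hp.1) q.1.1
    · exact Subgroup.mem_center_iff.mp (h₂.2.1 hp.2) q.1.2
  · intro p hp
    rw [mem_ker_fibreHom] at hp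
    obtain ⟨a, ha, hfa⟩ := exists_mem_commutator_of_surjective _ (fst_surjective φ₁ φ₂ h₂.1) p.1.1
      (h₁.2.2 hp.1)
    obtain ⟨b, hb, hfb⟩ := exists_mem_commutator_of_surjective _ (snd_surjective φ₁ φ₂ h₁.1) p.1.2
      (h₂.2.2 hp.2)
    have ha1 : a.1.1 = p.1.1 := hfa
    have hb2 : b.1.2 = p.1.2 := hfb
    have ha2 : a.1.2 ∈ φ₂.ker := by
      rw [MonoidHom.mem_ker, ← (mem_fibre φ₁ φ₂ a.1).mp a.2, ha1]
      exact hp.1
    have hb1 : b.1.1 ∈ φ₁.ker := by
      rw [MonoidHom.mem_ker, (mem_fibre φ₁ φ₂ b.1).mp b.2, hb2]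
      exact hp.2
    have e : p = a ^ e₁ * b ^ e₂ := by
      apply Subtype.ext
      apply Prod.ext
      · show p.1.1 = a.1.1 ^ e₁ * b.1.1 ^ e₂
        rw [ha1, h11 _ hp.1, h21 _ hb1, mul_one]
      · show p.1.2 = a.1.2 ^ e₁ * b.1.2 ^ e₂
        rw [hb2, h12 _ ha2, h22 _ hp.2, one_mul]
    rw [e]
    exact mul_mem (pow_mem ha e₁) (pow_mem hb e₂)

/-- the fibre product of a stem extension with a kernel of order three and a stem extension with a kernel of order
two is a stem extension with a cyclic kernel of order six -/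
theorem exists_stem_six [Finite E₁] [Finite E₂] (h₁ : IsStemExtension φ₁) (h₂ : IsStemExtension φ₂)
    (hc₁ : Nat.card φ₁.ker = 3) (hc₂ : Nat.card φ₂.ker = 2) :
    ∃ (Γ : Type u) (_ : Group Γ) (_ : Finite Γ) (σ : Γ →* G),
      IsStemExtension σ ∧ Nonempty (σ.ker ≃* Multiplicative (ZMod 6)) := by
  have hp1 : ∀ k ∈ φ₁.ker, k ^ 3 = 1 := by
    intro k hk
    have h := pow_card_eq_one' (G := φ₁.ker) (x := ⟨k, hk⟩)
    rw [hc₁] at h
    have := congrArg Subtype.val h
    rwa [Subgroup.coe_pow] at this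
  have hp2 : ∀ k ∈ φ₂.ker, k ^ 2 = 1 := by
    intro k hk
    have h := pow_card_eq_one' (G := φ₂.ker) (x := ⟨k, hk⟩)
    rw [hc₂] at h
    have := congrArg Subtype.val h
    rwa [Subgroup.coe_pow] at this
  have hstem : IsStemExtension (fibreHom φ₁ φ₂) := by
    refine fibre_stem φ₁ φ₂ h₁ h₂ 4 3 ?_ ?_ hp1 ?_
    · intro k hk
      rw [show (4 : ℕ) = 3 + 1 from rfl, pow_succ, hp1 k hk, one_mul]
    · intro w hw
      rw [show (4 : ℕ) = 2 * 2 from rfl, pow_mul, hp2 w hw, one_pow]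
    · intro k hk
      rw [show (3 : ℕ) = 2 + 1 from rfl, pow_succ, hp2 k hk, one_mul]
  refine ⟨fibre φ₁ φ₂, inferInstance, inferInstance, fibreHom φ₁ φ₂, hstem, ?_⟩
  -- elements of order three and two in the kernels
  have : Fact (Nat.Prime 3) := ⟨by norm_num⟩
  have : Fact (Nat.Prime 2) := ⟨by norm_num⟩
  obtain ⟨z₁, hz₁⟩ := exists_prime_orderOf_dvd_card' (G := φ₁.ker) 3 (by rw [hc₁])
  obtain ⟨z₂, hz₂⟩ := exists_prime_orderOf_dvd_card' (G := φ₂.ker) 2 (by rw [hc₂])
  have ho1 : orderOf (z₁ : E₁) = 3 := by rw [Subgroup.orderOf_coe]; exact hz₁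
  have ho2 : orderOf (z₂ : E₂) = 2 := by rw [Subgroup.orderOf_coe]; exact hz₂
  have hmemP : ((z₁ : E₁), (z₂ : E₂)) ∈ fibre φ₁ φ₂ := by
    rw [mem_fibre]
    show φ₁ z₁ = φ₂ z₂
    rw [MonoidHom.mem_ker.mp z₁.2, MonoidHom.mem_ker.mp z₂.2]
  let gP : fibre φ₁ φ₂ := ⟨((z₁ : E₁), (z₂ : E₂)), hmemP⟩
  have hgK : gP ∈ (fibreHom φ₁ φ₂).ker := by
    rw [mem_ker_fibreHom]
    exact ⟨z₁.2, z₂.2⟩
  let g : (fibreHom φ₁ φ₂).ker := ⟨gP, hgK⟩
  have hog : orderOf g = 6 := by
    rw [← Subgroup.orderOf_coe, ← Subgroup.orderOf_coe]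
    show orderOf ((z₁ : E₁), (z₂ : E₂)) = 6
    rw [Prod.orderOf, ho1, ho2]
    rfl
  -- the kernel has at most six elements
  let ι : (fibreHom φ₁ φ₂).ker → φ₁.ker × φ₂.ker := fun p =>
    (⟨p.1.1.1, ((mem_ker_fibreHom φ₁ φ₂ p.1).mp p.2).1⟩, ⟨p.1.1.2, ((mem_ker_fibreHom φ₁ φ₂ p.1).mp p.2).2⟩)
  have hι : Function.Injective ι := by
    intro p q hpq
    apply Subtype.ext
    apply Subtype.ext
    apply Prod.ext
    · exact congrArg (fun t => (t.1 : E₁)) hpq
    · exact congrArg (fun t => (t.2 : E₂)) hpq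
  have hle : Nat.card (fibreHom φ₁ φ₂).ker ≤ 6 := by
    have := Nat.card_le_card_of_injective ι hι
    rw [Nat.card_prod, hc₁, hc₂] at this
    exact this
  have hge : 6 ≤ Nat.card (fibreHom φ₁ φ₂).ker := by
    rw [← hog]
    exact orderOf_le_card
  have hcard : Nat.card (fibreHom φ₁ φ₂).ker = 6 := le_antisymm hle hge
  have hcyc : IsCyclic (fibreHom φ₁ φ₂).ker :=
    isCyclic_of_orderOf_eq_card g (by rw [hog, hcard])
  have e2 := zmodCyclicMulEquiv hcyc
  rw [hcard] at e2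
  exact ⟨e2.symm⟩

end Fibre


section Upper

variable {Γ G : Type u} [Group Γ] [Group G] (σ : Γ →* G)

theorem isCyclic_ker_of_squarefree [Finite Γ] (hσ : IsStemExtension σ)
    (hsq : Squarefree (Nat.card σ.ker)) : IsCyclic σ.ker := by
  have hnil : Group.IsNilpotent σ.ker := by
    refine ⟨⟨1, ?_⟩⟩
    rw [Subgroup.upperCentralSeries_one, eq_top_iff]
    intro x _
    rw [Subgroup.mem_center_iff]
    intro y
    apply Subtype.ext
    exact Subgroup.mem_center_iff.mp (hσ.2.1 x.2) y.1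
  have hz : IsZGroup σ.ker := IsZGroup.of_squarefree hsq
  infer_instance

/-- if the kernels of odd order have at most three elements and the kernels of order prime to fifteen have at most two
elements then every kernel is an image of the cyclic group of order six -/
theorem exists_surj_six [Finite Γ] (hσ : IsStemExtension σ)
    (hodd : ∀ (Δ : Type u) [Group Δ] [Finite Δ] (τ : Δ →* G), IsStemExtension τ →
      Odd (Nat.card τ.ker) → Nat.card τ.ker ≤ 3)
    (hcop : ∀ (Δ : Type u) [Group Δ] [Finite Δ] (τ : Δ →* G), IsStemExtension τ →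
      Nat.Coprime 15 (Nat.card τ.ker) → Nat.card τ.ker ≤ 2) :
    ∃ π : Multiplicative (ZMod 6) →* σ.ker, Function.Surjective π := by
  have : Fact (Nat.Prime 2) := ⟨by norm_num⟩
  have : Fact (Nat.Prime 3) := ⟨by norm_num⟩
  set n := Nat.card σ.ker with hn
  have hn0 : n ≠ 0 := Nat.card_pos.ne'
  -- the odd part
  obtain ⟨Δ₁, i1, i2, τ₁, hτ₁, hc₁⟩ := exists_stem_quot_sylow σ hσ 2
  rw [← hn] at hc₁
  set a := n.factorization 2 with ha
  set m := Nat.card τ₁.ker with hm
  have hm0 : 0 < m := Nat.card_pos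
  have hmdiv : m = n / 2 ^ a := by
    rw [← hc₁, Nat.mul_div_cancel _ (pow_pos (by norm_num) a)]
  have hmodd : Odd m := by
    have h := Nat.coprime_ordCompl (n := n) (p := 2) (by norm_num) hn0
    rw [← hmdiv] at h
    exact Nat.coprime_two_left.mp h
  have hm3 : m ≤ 3 := hodd Δ₁ τ₁ hτ₁ hmodd
  have hmd : m ∣ 3 := by
    obtain ⟨j, hj⟩ := hmodd
    interval_cases m
    · exact one_dvd 3
    · omega
    · exact dvd_rfl
  -- the part prime to three
  obtain ⟨Δ₂, j1, j2, τ₂, hτ₂, hc₂⟩ := exists_stem_quot_sylow σ hσ 3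
  rw [← hn] at hc₂
  set b := n.factorization 3 with hb
  set k := Nat.card τ₂.ker with hk
  have hk0 : 0 < k := Nat.card_pos
  have hkdiv : k = n / 3 ^ b := by
    rw [← hc₂, Nat.mul_div_cancel _ (pow_pos (by norm_num) b)]
  have hk3 : Nat.Coprime 3 k := by
    have h := Nat.coprime_ordCompl (n := n) (p := 3) (by norm_num) hn0
    rw [← hkdiv] at h
    exact h
  have hk5 : Nat.Coprime 5 k := by
    rw [Nat.Prime.coprime_iff_not_dvd (by norm_num)]
    intro h5
    have h5n : 5 ∣ m * 2 ^ a := by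
      rw [hc₁, ← hc₂]
      exact dvd_mul_of_dvd_left h5 _
    rcases (Nat.Prime.dvd_mul (by norm_num)).mp h5n with h | h
    · have := Nat.le_of_dvd hm0 h
      omega
    · have := Nat.Prime.dvd_of_dvd_pow (by norm_num) h
      omega
  have hk15 : Nat.Coprime 15 k := by
    rw [show (15 : ℕ) = 3 * 5 from rfl]
    exact Nat.Coprime.mul_left hk3 hk5
  have hk2 : k ≤ 2 := hcop Δ₂ τ₂ hτ₂ hk15
  have hkd : k ∣ 2 := by
    interval_cases k
    · exact one_dvd 2
    · exact dvd_rfl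
  -- the order divides six
  have h2a : 2 ^ a ∣ 2 := by
    have h1 : 2 ^ a ∣ k * 3 ^ b := by
      rw [hc₂, ← hc₁]
      exact dvd_mul_left _ _
    have hcp : Nat.Coprime (2 ^ a) (3 ^ b) := Nat.Coprime.pow a b (by norm_num)
    exact (hcp.dvd_of_dvd_mul_right h1).trans hkd
  have hn6 : n ∣ 6 := by
    rw [← hc₁, show (6 : ℕ) = 3 * 2 from rfl]
    exact mul_dvd_mul hmd h2a
  have hsq6 : Squarefree 6 := by
    rw [show (6 : ℕ) = 2 * 3 from rfl, Nat.squarefree_mul_iff]
    exact ⟨by norm_num, Nat.prime_two.squarefree, Nat.prime_three.squarefree⟩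
  have hsq : Squarefree n := Squarefree.squarefree_of_dvd hn6 hsq6
  have hcyc : IsCyclic σ.ker := isCyclic_ker_of_squarefree σ hσ hsq
  obtain ⟨g, hg⟩ := hcyc.exists_generator
  have hg6 : g ^ 6 = 1 := by
    obtain ⟨d, hd⟩ := hn6
    have h := pow_card_eq_one' (G := σ.ker) (x := g)
    rw [← hn] at h
    rw [hd, pow_mul, h, one_pow]
  -- the homomorphism from the cyclic group of order six
  let f0 : ℤ →+ Additive σ.ker := zmultiplesHom (Additive σ.ker) (Additive.ofMul g)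
  have hf0 : f0 ((6 : ℕ) : ℤ) = 0 := by
    simp only [f0, zmultiplesHom_apply, natCast_zsmul]
    rw [← ofMul_pow, hg6, ofMul_one]
  let f : ZMod 6 →+ Additive σ.ker := ZMod.lift 6 ⟨f0, hf0⟩
  refine ⟨AddMonoidHom.toMultiplicativeLeft f, ?_⟩
  intro x
  obtain ⟨j, hj⟩ := Subgroup.mem_zpowers_iff.mp (hg x)
  refine ⟨Multiplicative.ofAdd ((j : ℤ) : ZMod 6), ?_⟩
  show Additive.toMul (f ((j : ℤ) : ZMod 6)) = x
  rw [ZMod.lift_coe]
  simp only [f0, zmultiplesHom_apply]
  rw [← hj]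
  rfl

end Upper

end Cfsg.Agent.Lib.Helper12.Fi22M.Glue
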