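import Cfsg.Agent.Lib.Helper12.Ord.Fi22Order
import Cfsg.Agent.Lib.Helper12.M23Ext.TabPerm
import Cfsg.Agent.Lib.Helper12.Fi22M.CertsI

/-!
The nine generators of the presented group of Fischer in the order of the letters of the presentation of the triple
cover, with their table on 3510 points (generated, helper12).
-/

set_option autoImplicit false
set_option maxRecDepth 100000
set_option Elab.async false

namespace Cfsg.Agent.Lib.Helper12.Fi22M.ModelI

open Cfsg.Agent.Lib.Helper12.TC Cfsg.Agent.Lib.Helper12.TCG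
  Cfsg.Agent.Lib.Helper12.M23Ext Cfsg.Agent.Lib.Helper12.Fi22M

/-- the generators of the presented group -/
noncomputable def gP (x : ℕ) : Cfsg.Spor.Fi22 :=
  PresentedGroup.mk (Cfsg.Spor.coxRelators Cfsg.Spor.Fi22.edges ∪ {r | r ∈ Cfsg.Spor.Fi22.extra})
    (FreeGroup.of (Fi22Pres.gen x))

/-- the generator of a letter -/
def o2 : ℕ → ℕ
  | 0 => 1
  | 1 => 2
  | 2 => 3
  | 3 => 4
  | 4 => 5
  | 5 => 7
  | 6 => 8
  | 7 => 6
  | 8 => 0
  | _ => 0

/-- the letter of a generator -/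
def n2 : ℕ → ℕ
  | 0 => 8
  | 1 => 0
  | 2 => 1
  | 3 => 2
  | 4 => 3
  | 5 => 4
  | 6 => 7
  | 7 => 5
  | 8 => 6
  | _ => 0

theorem o2_lt : ∀ s < 9, o2 s < 9 := by decide

theorem n2_lt : ∀ s < 9, n2 s < 9 := by decide

theorem o2_n2 : ∀ s < 9, o2 (n2 s) = s := by decide

/-- the letters as elements of the group -/
noncomputable def xM (s : ℕ) : Cfsg.Spor.Fi22 := gP (o2 s)

/-- the table of the letters on 3510 points -/
noncomputable def X35 : ℕ → ℕ → ℕ := fun s i => Fi22o3510.TT (o2 s) i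

theorem rho35_xM : ∀ s < 9, ∀ i : Fin Fi22o3510.cN,
    ((Fi22o3510.rho (xM s) i : Fin Fi22o3510.cN) : ℕ) = X35 s i.val :=
  fun s hs i => Fi22o3510.rho_gen (o2 s) (o2_lt s hs) i

end Cfsg.Agent.Lib.Helper12.Fi22M.ModelI
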