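import Cfsg.Agent.Lib.Helper12.Fi22M.ModelIDefs
import Cfsg.Agent.Lib.Helper12.Fi22M.FixRange

/-!
The relators and the side conditions on 3510 points, part 0 (generated, helper12).
-/

set_option autoImplicit false
set_option maxRecDepth 100000
set_option Elab.async false

namespace Cfsg.Agent.Lib.Helper12.Fi22M.ModelI

open Cfsg.Agent.Lib.Helper12.TC Cfsg.Agent.Lib.Helper12.TCG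
  Cfsg.Agent.Lib.Helper12.M23Ext Cfsg.Agent.Lib.Helper12.Fi22M

theorem fxr_6_0 : fixRangeK X35 [0, 7, 0, 7] 0 3510 = true := by
  decide +kernel

theorem fxr_15_0 : fixRangeK X35 [2, 3, 2, 3, 2, 3] 0 3510 = true := by
  decide +kernel

theorem fxr_19_0 : fixRangeK X35 [2, 7, 2, 7] 0 3510 = true := by
  decide +kernel

theorem fxr_31_0 : fixRangeK X35 [5, 7, 5, 7] 0 3510 = true := by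
  decide +kernel

theorem fxr_36_2 : fixRangeK X35 [5, 2, 3, 1, 2, 5, 4, 3, 2, 1, 0, 1, 2, 3, 4, 5, 2, 1, 3, 2, 5, 6, 5, 2, 3, 1, 2, 5, 4, 3, 2, 1, 0, 1, 2, 3, 4, 5, 2, 1, 3, 2, 5, 6, 5, 2, 3, 1, 2, 5, 4, 3, 2, 1, 0, 1, 2, 3, 4, 5, 2, 1, 3, 2, 5, 6] 2340 3510 = true := by
  decide +kernel

theorem fxr_42_0 : fixRangeK X35 [3, 3] 0 3510 = true := by
  decide +kernel

theorem fxs_6_2 : fixRangeK X35 [1, 0, 1, 2, 5, 3, 4, 2, 3, 1, 2, 5, 7, 4, 3, 2, 1, 0, 1, 2, 3, 4, 7, 5, 2, 1, 3, 2, 4, 3, 5, 2, 1, 0, 1, 0, 1, 2, 5, 3, 4, 2, 3, 1, 2, 5, 7, 4, 3, 2, 1, 0, 1, 2, 3, 4, 7, 5, 2, 1, 3, 2, 4, 3, 5, 2, 1, 0] 2340 3510 = true := by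
  decide +kernel

theorem fxs_8_0 : fixRangeK X35 [3, 3, 3, 3] 0 3510 = true := by
  decide +kernel

theorem fxs_19_0 : fixRangeK X35 [7, 4, 3, 2, 5, 7, 4, 3, 2, 1, 2, 3, 4, 7, 5, 2, 3, 4, 7, 4, 3, 2, 5, 7, 4, 3, 2, 1, 2, 3, 4, 7, 5, 2, 3, 4] 0 1755 = true := by
  decide +kernel

theorem fxs_20_0 : fixRangeK X35 [7, 0, 1, 2, 5, 3, 4, 2, 3, 1, 2, 5, 7, 4, 3, 2, 1, 0, 1, 2, 3, 4, 7, 5, 2, 1, 3, 2, 4, 3, 5, 2, 1, 0, 7, 0, 1, 2, 5, 3, 4, 2, 3, 1, 2, 5, 7, 4, 3, 2, 1, 0, 1, 2, 3, 4, 7, 5, 2, 1, 3, 2, 4, 3, 5, 2, 1, 0] 0 1170 = true := by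
  decide +kernel

theorem fxs_24_0 : fixRangeK X35 [5, 5, 5, 5] 0 3510 = true := by
  decide +kernel

theorem fxs_32_1 : fixRangeK X35 [2, 5, 3, 2, 1, 2, 3, 5, 2, 2, 5, 3, 2, 1, 2, 3, 5, 2, 2, 5, 3, 2, 1, 2, 3, 5, 2, 2, 5, 3, 2, 1, 2, 3, 5, 2] 1755 3510 = true := by
  decide +kernel

theorem fxs_34_0 : fixRangeK X35 [2, 5, 3, 2, 1, 2, 3, 5, 2, 0, 1, 2, 5, 3, 4, 2, 3, 1, 2, 5, 7, 4, 3, 2, 1, 0, 1, 2, 3, 4, 7, 5, 2, 1, 3, 2, 4, 3, 5, 2, 1, 0, 2, 5, 3, 2, 1, 2, 3, 5, 2, 0, 1, 2, 5, 3, 4, 2, 3, 1, 2, 5, 7, 4, 3, 2, 1, 0, 1, 2, 3, 4, 7, 5, 2, 1, 3, 2, 4, 3, 5, 2, 1, 0] 0 1170 = true := by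
  decide +kernel

theorem fxs_42_1 : fixRangeK X35 [0, 1, 2, 5, 3, 4, 2, 3, 1, 2, 5, 7, 4, 3, 2, 1, 0, 1, 2, 3, 4, 7, 5, 2, 1, 3, 2, 4, 3, 5, 2, 1, 0, 1, 0, 1, 2, 5, 3, 4, 2, 3, 1, 2, 5, 7, 4, 3, 2, 1, 0, 1, 2, 3, 4, 7, 5, 2, 1, 3, 2, 4, 3, 5, 2, 1, 0, 1] 1170 2340 = true := by
  decide +kernel

theorem fxs_45_2 : fixRangeK X35 [0, 1, 2, 5, 3, 4, 2, 3, 1, 2, 5, 7, 4, 3, 2, 1, 0, 1, 2, 3, 4, 7, 5, 2, 1, 3, 2, 4, 3, 5, 2, 1, 0, 5, 0, 1, 2, 5, 3, 4, 2, 3, 1, 2, 5, 7, 4, 3, 2, 1, 0, 1, 2, 3, 4, 7, 5, 2, 1, 3, 2, 4, 3, 5, 2, 1, 0, 5] 2340 3510 = true := by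
  decide +kernel

theorem fxs_54_1 : fixRangeK X35 [8, 0, 1, 2, 5, 3, 2, 1, 0, 8, 0, 1, 2, 3, 5, 2, 1, 0, 8, 0, 1, 2, 5, 3, 2, 1, 0, 8, 0, 1, 2, 3, 5, 2, 1, 0] 1755 3510 = true := by
  decide +kernel

theorem fxs_64_0 : fixRangeK X35 [3, 1, 3, 1] 0 3510 = true := by
  decide +kernel

theorem fxs_67_0 : fixRangeK X35 [3, 2, 5, 3, 2, 1, 2, 3, 5, 2, 3, 2, 5, 3, 2, 1, 2, 3, 5, 2] 0 3510 = true := by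
  decide +kernel

theorem fxs_76_0 : fixRangeK X35 [5, 4, 3, 2, 5, 1, 2, 3, 0, 1, 2, 5, 4, 3, 2, 1, 0, 8, 0, 1, 2, 3, 4, 5, 2, 1, 0, 3, 2, 1, 5, 2, 3, 4, 5, 4, 3, 2, 5, 1, 2, 3, 0, 1, 2, 5, 4, 3, 2, 1, 0, 8, 0, 1, 2, 3, 4, 5, 2, 1, 0, 3, 2, 1, 5, 2, 3, 4] 0 1170 = true := by
  decide +kernel

theorem fxs_84_1 : fixRangeK X35 [0, 1, 2, 5, 3, 2, 1, 0, 8, 0, 1, 2, 3, 5, 2, 1, 0, 8, 0, 1, 2, 5, 3, 2, 1, 0, 8, 0, 1, 2, 3, 5, 2, 1, 0, 8] 1755 3510 = true := by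
  decide +kernel

theorem fxs_88_0 : fixRangeK X35 [0, 1, 2, 5, 3, 2, 1, 0, 8, 0, 1, 2, 3, 5, 2, 1, 0, 2, 5, 3, 2, 1, 2, 3, 5, 2, 0, 1, 2, 5, 3, 2, 1, 0, 8, 0, 1, 2, 3, 5, 2, 1, 0, 2, 5, 3, 2, 1, 2, 3, 5, 2] 0 1755 = true := by
  decide +kernel

theorem fxs_90_2 : fixRangeK X35 [0, 1, 2, 5, 3, 2, 1, 0, 8, 0, 1, 2, 3, 5, 2, 1, 0, 4, 3, 2, 5, 1, 2, 3, 0, 1, 2, 5, 4, 3, 2, 1, 0, 8, 0, 1, 2, 3, 4, 5, 2, 1, 0, 3, 2, 1, 5, 2, 3, 4, 0, 1, 2, 5, 3, 2, 1, 0, 8, 0, 1, 2, 3, 5, 2, 1, 0, 4, 3, 2, 5, 1, 2, 3, 0, 1, 2, 5, 4, 3, 2, 1, 0, 8, 0, 1, 2, 3, 4, 5, 2, 1, 0, 3, 2, 1, 5, 2, 3, 4] 1756 2634 = true := by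
  decide +kernel

theorem fxs_92_1 : fixRangeK X35 [4, 3, 2, 5, 1, 2, 3, 0, 1, 2, 5, 4, 3, 2, 1, 0, 8, 0, 1, 2, 3, 4, 5, 2, 1, 0, 3, 2, 1, 5, 2, 3, 4, 1, 4, 3, 2, 5, 1, 2, 3, 0, 1, 2, 5, 4, 3, 2, 1, 0, 8, 0, 1, 2, 3, 4, 5, 2, 1, 0, 3, 2, 1, 5, 2, 3, 4, 1] 1170 2340 = true := by
  decide +kernel

theorem fxs_95_1 : fixRangeK X35 [4, 3, 2, 5, 1, 2, 3, 0, 1, 2, 5, 4, 3, 2, 1, 0, 8, 0, 1, 2, 3, 4, 5, 2, 1, 0, 3, 2, 1, 5, 2, 3, 4, 2, 5, 3, 2, 1, 2, 3, 5, 2, 4, 3, 2, 5, 1, 2, 3, 0, 1, 2, 5, 4, 3, 2, 1, 0, 8, 0, 1, 2, 3, 4, 5, 2, 1, 0, 3, 2, 1, 5, 2, 3, 4, 2, 5, 3, 2, 1, 2, 3, 5, 2] 1170 2340 = true := by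
  decide +kernel

end Cfsg.Agent.Lib.Helper12.Fi22M.ModelI
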