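import Cfsg.Agent.Lib.Helper12.Fi22M.ModelUDefs
import Cfsg.Agent.Lib.Helper12.Fi22M.FixRange

/-!
The relators and the side conditions on 3510 points, part 1 (generated, helper12).
-/

set_option autoImplicit false
set_option maxRecDepth 100000
set_option Elab.async false

namespace Cfsg.Agent.Lib.Helper12.Fi22M.ModelU

open Cfsg.Agent.Lib.Helper12.TC Cfsg.Agent.Lib.Helper12.TCG
  Cfsg.Agent.Lib.Helper12.M23Ext Cfsg.Agent.Lib.Helper12.Fi22M Cfsg.Agent.Lib.Helper12.Fi22M.XTabU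

theorem fxr_4_0 : fixRangeK XU [8, 8, 8] 0 3510 = true := by
  decide +kernel

theorem fxr_7_0 : fixRangeK XU [2, 1, 3, 0, 2, 0, 3, 1] 0 3510 = true := by
  decide +kernel

theorem fxr_9_0 : fixRangeK XU [3, 5, 2, 5, 3, 5, 2, 5, 3, 4, 2, 4, 3, 4, 2, 4, 3, 4, 2, 5] 0 3510 = true := by
  decide +kernel

theorem fxr_15_0 : fixRangeK XU [2, 5, 3, 0, 2, 4, 0, 3, 0, 2, 1, 5, 3, 1, 2, 4, 3, 1] 0 3510 = true := by
  decide +kernel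

theorem fxr_19_0 : fixRangeK XU [2, 5, 2, 4, 2, 6, 5, 2, 6, 3, 4, 7, 3, 5, 3, 4, 3, 6] 0 3510 = true := by
  decide +kernel

theorem fxr_26_0 : fixRangeK XU [2, 6, 1, 2, 6, 1, 2, 2, 4, 3, 3, 0, 7, 3, 0, 7, 3, 5] 0 3510 = true := by
  decide +kernel

theorem fxr_29_0 : fixRangeK XU [3, 7, 3, 7, 3, 7, 3, 4, 2, 6, 2, 6, 2, 6, 2, 5] 0 3510 = true := by
  decide +kernel

theorem fxr_31_0 : fixRangeK XU [2, 4, 4, 4, 3, 7, 4, 6, 2, 5, 5, 5, 3, 5] 0 3510 = true := by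
  decide +kernel

theorem fxr_34_0 : fixRangeK XU [3, 3, 4, 3, 5, 7, 2, 2, 8, 3, 3, 6, 4, 2, 5, 2, 2, 9] 0 3510 = true := by
  decide +kernel

theorem fxr_37_0 : fixRangeK XU [3, 9, 9, 2, 4, 3, 8, 8, 2, 5] 0 3510 = true := by
  decide +kernel

theorem fxr_40_0 : fixRangeK XU [0, 8, 7, 9, 6, 1, 2, 0, 7, 8, 6, 9, 1, 3] 0 3510 = true := by
  decide +kernel

theorem fxr_43_0 : fixRangeK XU [2, 3] 0 3510 = true := by
  decide +kernel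

theorem fxr_46_0 : fixRangeK XU [5, 4] 0 3510 = true := by
  decide +kernel

theorem fxr_49_0 : fixRangeK XU [8, 9] 0 3510 = true := by
  decide +kernel

theorem fxs_0_0 : fixRangeK XU [1, 0, 0, 1] 0 3510 = true := by
  decide +kernel

theorem fxs_1_0 : fixRangeK XU [1, 3, 0, 2, 0, 3, 1, 2] 0 3510 = true := by
  decide +kernel

theorem fxs_2_0 : fixRangeK XU [1, 3, 3, 0, 2, 2, 0, 3, 3, 1, 2, 2] 0 3510 = true := by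
  decide +kernel

theorem fxs_4_0 : fixRangeK XU [1, 3, 3, 3, 3, 0, 2, 2, 2, 2, 0, 3, 3, 3, 3, 1, 2, 2, 2, 2] 0 3510 = true := by
  decide +kernel

theorem fxs_7_0 : fixRangeK XU [3, 1, 2, 3, 3, 0, 2, 2, 3, 0, 2, 3, 3, 1, 2, 2] 0 3510 = true := by
  decide +kernel

theorem fxs_9_0 : fixRangeK XU [3, 1, 2, 3, 3, 3, 3, 0, 2, 2, 2, 2, 3, 0, 2, 3, 3, 3, 3, 1, 2, 2, 2, 2] 0 3510 = true := by
  decide +kernel

theorem fxs_16_0 : fixRangeK XU [3, 3, 3, 1, 2, 2, 2, 3, 0, 2, 3, 3, 3, 0, 2, 2, 2, 3, 1, 2] 0 3510 = true := by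
  decide +kernel

theorem fxs_17_0 : fixRangeK XU [3, 3, 3, 1, 2, 2, 2, 3, 3, 0, 2, 2, 3, 3, 3, 0, 2, 2, 2, 3, 3, 1, 2, 2] 0 3510 = true := by
  decide +kernel

theorem fxs_18_0 : fixRangeK XU [3, 3, 3, 1, 2, 2, 2, 3, 3, 3, 0, 2, 2, 2, 3, 3, 3, 0, 2, 2, 2, 3, 3, 3, 1, 2, 2, 2] 0 3510 = true := by
  decide +kernel

theorem fxs_19_0 : fixRangeK XU [3, 3, 3, 1, 2, 2, 2, 3, 3, 3, 3, 0, 2, 2, 2, 2, 3, 3, 3, 0, 2, 2, 2, 3, 3, 3, 3, 1, 2, 2, 2, 2] 0 1755 = true := by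
  decide +kernel

theorem fxs_23_1 : fixRangeK XU [3, 3, 3, 3, 1, 2, 2, 2, 2, 3, 3, 3, 0, 2, 2, 2, 3, 3, 3, 3, 0, 2, 2, 2, 2, 3, 3, 3, 1, 2, 2, 2] 1755 3510 = true := by
  decide +kernel

theorem fxs_24_1 : fixRangeK XU [3, 3, 3, 3, 1, 2, 2, 2, 2, 3, 3, 3, 3, 0, 2, 2, 2, 2, 3, 3, 3, 3, 0, 2, 2, 2, 2, 3, 3, 3, 3, 1, 2, 2, 2, 2] 1755 3510 = true := by
  decide +kernel

end Cfsg.Agent.Lib.Helper12.Fi22M.ModelU
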