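import Cfsg.Agent.Lib.Helper12.Fi22M.ModelUDefs
import Cfsg.Agent.Lib.Helper12.Fi22M.FixRange

/-!
The relators and the side conditions on 3510 points, part 2 (generated, helper12).
-/

set_option autoImplicit false
set_option maxRecDepth 100000
set_option Elab.async false

namespace Cfsg.Agent.Lib.Helper12.Fi22M.ModelU

open Cfsg.Agent.Lib.Helper12.TC Cfsg.Agent.Lib.Helper12.TCG
  Cfsg.Agent.Lib.Helper12.M23Ext Cfsg.Agent.Lib.Helper12.Fi22M Cfsg.Agent.Lib.Helper12.Fi22M.XTabU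

theorem fxr_0_0 : fixRangeK XU [0, 0, 0] 0 3510 = true := by
  decide +kernel

theorem fxr_2_0 : fixRangeK XU [4, 4, 4] 0 3510 = true := by
  decide +kernel

theorem fxr_6_0 : fixRangeK XU [2, 2, 1, 3, 1, 3, 0, 2, 0, 2, 0, 3, 3, 1] 0 3510 = true := by
  decide +kernel

theorem fxr_10_0 : fixRangeK XU [2, 2, 1, 3, 3, 1, 4, 0, 5, 0, 2, 2, 0, 3, 3, 1] 0 3510 = true := by
  decide +kernel

theorem fxr_11_0 : fixRangeK XU [2, 4, 3, 4, 1, 1, 2, 0, 3, 0, 0, 5, 2, 5, 3, 1] 0 3510 = true := by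
  decide +kernel

theorem fxr_14_0 : fixRangeK XU [2, 2, 4, 3, 5, 2, 4, 4, 2, 4, 3, 5, 5, 3, 4, 2, 5, 3, 3, 4] 0 3510 = true := by
  decide +kernel

theorem fxr_17_0 : fixRangeK XU [2, 6, 2, 7, 7, 2, 6, 2, 6, 3, 7, 3, 6, 6, 3, 7, 3, 7] 0 3510 = true := by
  decide +kernel

theorem fxr_20_0 : fixRangeK XU [6, 6, 1, 7, 1, 2, 0, 6, 0, 7, 7, 3] 0 3510 = true := by
  decide +kernel

theorem fxr_21_0 : fixRangeK XU [6, 6, 1, 4, 0, 7, 7, 5] 0 3510 = true := by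
  decide +kernel

theorem fxr_22_0 : fixRangeK XU [1, 2, 7, 0, 6, 3, 6, 2, 0, 3, 7, 2, 7, 1, 6, 3, 0, 6] 0 3510 = true := by
  decide +kernel

theorem fxr_27_0 : fixRangeK XU [3, 4, 3, 4, 4, 3, 6, 2, 6, 3, 7, 2, 5, 5, 2, 5, 2, 6] 0 3510 = true := by
  decide +kernel

theorem fxr_32_0 : fixRangeK XU [3, 3, 3, 3, 3, 5, 6, 4, 2, 2, 2, 2, 2, 7] 0 3510 = true := by
  decide +kernel

theorem fxr_33_0 : fixRangeK XU [2, 6, 2, 6, 2, 6, 2, 8, 3, 7, 3, 7, 3, 7, 3, 9] 0 3510 = true := by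
  decide +kernel

theorem fxr_36_0 : fixRangeK XU [2, 8, 3, 7, 2, 8, 2, 2, 8, 3, 3, 9, 3, 6, 2, 9, 3, 7] 0 3510 = true := by
  decide +kernel

theorem fxr_41_0 : fixRangeK XU [0, 1] 0 3510 = true := by
  decide +kernel

theorem fxr_44_0 : fixRangeK XU [3, 2] 0 3510 = true := by
  decide +kernel

theorem fxr_47_0 : fixRangeK XU [6, 7] 0 3510 = true := by
  decide +kernel

theorem fxr_50_0 : fixRangeK XU [9, 8] 0 3510 = true := by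
  decide +kernel

theorem fxs_5_0 : fixRangeK XU [3, 1, 2, 0, 3, 0, 2, 1] 0 3510 = true := by
  decide +kernel

theorem fxs_6_0 : fixRangeK XU [3, 1, 2, 3, 0, 2, 3, 0, 2, 3, 1, 2] 0 3510 = true := by
  decide +kernel

theorem fxs_8_0 : fixRangeK XU [3, 1, 2, 3, 3, 3, 0, 2, 2, 2, 3, 0, 2, 3, 3, 3, 1, 2, 2, 2] 0 3510 = true := by
  decide +kernel

theorem fxs_11_0 : fixRangeK XU [3, 3, 1, 2, 2, 3, 0, 2, 3, 3, 0, 2, 2, 3, 1, 2] 0 3510 = true := by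
  decide +kernel

theorem fxs_13_0 : fixRangeK XU [3, 3, 1, 2, 2, 3, 3, 3, 0, 2, 2, 2, 3, 3, 0, 2, 2, 3, 3, 3, 1, 2, 2, 2] 0 3510 = true := by
  decide +kernel

theorem fxs_19_1 : fixRangeK XU [3, 3, 3, 1, 2, 2, 2, 3, 3, 3, 3, 0, 2, 2, 2, 2, 3, 3, 3, 0, 2, 2, 2, 3, 3, 3, 3, 1, 2, 2, 2, 2] 1755 3510 = true := by
  decide +kernel

theorem fxs_20_0 : fixRangeK XU [3, 3, 3, 3, 1, 2, 2, 2, 2, 0, 3, 3, 3, 3, 0, 2, 2, 2, 2, 1] 0 3510 = true := by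
  decide +kernel

theorem fxs_21_0 : fixRangeK XU [3, 3, 3, 3, 1, 2, 2, 2, 2, 3, 0, 2, 3, 3, 3, 3, 0, 2, 2, 2, 2, 3, 1, 2] 0 3510 = true := by
  decide +kernel

theorem fxs_22_0 : fixRangeK XU [3, 3, 3, 3, 1, 2, 2, 2, 2, 3, 3, 0, 2, 2, 3, 3, 3, 3, 0, 2, 2, 2, 2, 3, 3, 1, 2, 2] 0 3510 = true := by
  decide +kernel

end Cfsg.Agent.Lib.Helper12.Fi22M.ModelU
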