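import Cfsg.Agent.Lib.Helper12.Fi22M.ModelURel0
import Cfsg.Agent.Lib.Helper12.Fi22M.ModelURel1
import Cfsg.Agent.Lib.Helper12.Fi22M.ModelURel2

/-!
Five elements of odd order of the presented group of Fischer which satisfy the relators of the presentation on ten
letters and the side conditions of their shapes: the homomorphism of the presented cover to the group (generated,
helper12).
-/

set_option autoImplicit false
set_option maxRecDepth 100000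

namespace Cfsg.Agent.Lib.Helper12.Fi22M.ModelU

open Cfsg.Agent.Lib.Helper12.TC Cfsg.Agent.Lib.Helper12.TCG
  Cfsg.Agent.Lib.Helper12.M23Ext Cfsg.Agent.Lib.Helper12.Fi22M Cfsg.Agent.Lib.Helper12.Fi22M.XTabU

theorem fixwr_0 : ∀ i < 3510, Fn.applyW XU [0, 0, 0] i = i := by
  intro i hi
  exact fixRangeK_sound fxr_0_0 i (Nat.zero_le _) hi

theorem fixwr_1 : ∀ i < 3510, Fn.applyW XU [2, 2, 2, 2, 2] i = i := by
  intro i hi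
  exact fixRangeK_sound fxr_1_0 i (Nat.zero_le _) hi

theorem fixwr_2 : ∀ i < 3510, Fn.applyW XU [4, 4, 4] i = i := by
  intro i hi
  exact fixRangeK_sound fxr_2_0 i (Nat.zero_le _) hi

theorem fixwr_3 : ∀ i < 3510, Fn.applyW XU [6, 6, 6] i = i := by
  intro i hi
  exact fixRangeK_sound fxr_3_0 i (Nat.zero_le _) hi

theorem fixwr_4 : ∀ i < 3510, Fn.applyW XU [8, 8, 8] i = i := by
  intro i hi
  exact fixRangeK_sound fxr_4_0 i (Nat.zero_le _) hi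

theorem fixwr_5 : ∀ i < 3510, Fn.applyW XU [0, 3, 0, 2, 3, 3, 0, 2, 2, 3, 3, 3, 0, 2, 2, 2, 3, 3, 3, 3, 0, 2, 2, 2, 2] i = i := by
  intro i hi
  exact fixRangeK_sound fxr_5_0 i (Nat.zero_le _) hi

theorem fixwr_6 : ∀ i < 3510, Fn.applyW XU [2, 2, 1, 3, 1, 3, 0, 2, 0, 2, 0, 3, 3, 1] i = i := by
  intro i hi
  exact fixRangeK_sound fxr_6_0 i (Nat.zero_le _) hi

theorem fixwr_7 : ∀ i < 3510, Fn.applyW XU [2, 1, 3, 0, 2, 0, 3, 1] i = i := by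
  intro i hi
  exact fixRangeK_sound fxr_7_0 i (Nat.zero_le _) hi

theorem fixwr_8 : ∀ i < 3510, Fn.applyW XU [4, 3, 5, 2, 5, 5, 3, 5, 2, 4, 2, 5, 3, 4, 2, 4, 4, 3, 4, 2, 5, 2] i = i := by
  intro i hi
  exact fixRangeK_sound fxr_8_0 i (Nat.zero_le _) hi

theorem fixwr_9 : ∀ i < 3510, Fn.applyW XU [3, 5, 2, 5, 3, 5, 2, 5, 3, 4, 2, 4, 3, 4, 2, 4, 3, 4, 2, 5] i = i := by
  intro i hi
  exact fixRangeK_sound fxr_9_0 i (Nat.zero_le _) hi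

theorem fixwr_10 : ∀ i < 3510, Fn.applyW XU [2, 2, 1, 3, 3, 1, 4, 0, 5, 0, 2, 2, 0, 3, 3, 1] i = i := by
  intro i hi
  exact fixRangeK_sound fxr_10_0 i (Nat.zero_le _) hi

theorem fixwr_11 : ∀ i < 3510, Fn.applyW XU [2, 4, 3, 4, 1, 1, 2, 0, 3, 0, 0, 5, 2, 5, 3, 1] i = i := by
  intro i hi
  exact fixRangeK_sound fxr_11_0 i (Nat.zero_le _) hi

theorem fixwr_12 : ∀ i < 3510, Fn.applyW XU [3, 5, 3, 5, 2, 5, 5, 2, 4, 3, 4, 4, 3, 4, 2, 4, 2, 5] i = i := by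
  intro i hi
  exact fixRangeK_sound fxr_12_0 i (Nat.zero_le _) hi

theorem fixwr_13 : ∀ i < 3510, Fn.applyW XU [5, 3, 3, 5, 2, 2, 2, 5, 2, 4, 3, 3, 3, 4, 2, 2, 4, 3] i = i := by
  intro i hi
  exact fixRangeK_sound fxr_13_0 i (Nat.zero_le _) hi

theorem fixwr_14 : ∀ i < 3510, Fn.applyW XU [2, 2, 4, 3, 5, 2, 4, 4, 2, 4, 3, 5, 5, 3, 4, 2, 5, 3, 3, 4] i = i := by
  intro i hi
  exact fixRangeK_sound fxr_14_0 i (Nat.zero_le _) hi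

theorem fixwr_15 : ∀ i < 3510, Fn.applyW XU [2, 5, 3, 0, 2, 4, 0, 3, 0, 2, 1, 5, 3, 1, 2, 4, 3, 1] i = i := by
  intro i hi
  exact fixRangeK_sound fxr_15_0 i (Nat.zero_le _) hi

theorem fixwr_16 : ∀ i < 3510, Fn.applyW XU [2, 5, 2, 0, 2, 2, 1, 2, 5, 2, 4, 3, 4, 3, 0, 3, 3, 1, 3, 4, 3, 5] i = i := by
  intro i hi
  exact fixRangeK_sound fxr_16_0 i (Nat.zero_le _) hi

theorem fixwr_17 : ∀ i < 3510, Fn.applyW XU [2, 6, 2, 7, 7, 2, 6, 2, 6, 3, 7, 3, 6, 6, 3, 7, 3, 7] i = i := by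
  intro i hi
  exact fixRangeK_sound fxr_17_0 i (Nat.zero_le _) hi

theorem fixwr_18 : ∀ i < 3510, Fn.applyW XU [0, 2, 7, 0, 0, 3, 6, 2, 6, 3, 7, 2, 1, 1, 6, 3, 1, 6] i = i := by
  intro i hi
  exact fixRangeK_sound fxr_18_0 i (Nat.zero_le _) hi

theorem fixwr_19 : ∀ i < 3510, Fn.applyW XU [2, 5, 2, 4, 2, 6, 5, 2, 6, 3, 4, 7, 3, 5, 3, 4, 3, 6] i = i := by
  intro i hi
  exact fixRangeK_sound fxr_19_0 i (Nat.zero_le _) hi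

theorem fixwr_20 : ∀ i < 3510, Fn.applyW XU [6, 6, 1, 7, 1, 2, 0, 6, 0, 7, 7, 3] i = i := by
  intro i hi
  exact fixRangeK_sound fxr_20_0 i (Nat.zero_le _) hi

theorem fixwr_21 : ∀ i < 3510, Fn.applyW XU [6, 6, 1, 4, 0, 7, 7, 5] i = i := by
  intro i hi
  exact fixRangeK_sound fxr_21_0 i (Nat.zero_le _) hi

theorem fixwr_22 : ∀ i < 3510, Fn.applyW XU [1, 2, 7, 0, 6, 3, 6, 2, 0, 3, 7, 2, 7, 1, 6, 3, 0, 6] i = i := by
  intro i hi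
  exact fixRangeK_sound fxr_22_0 i (Nat.zero_le _) hi

theorem fixwr_23 : ∀ i < 3510, Fn.applyW XU [1, 2, 0, 7, 3, 6, 2, 2, 0, 3, 3, 7, 2, 6, 1, 3, 0, 6] i = i := by
  intro i hi
  exact fixRangeK_sound fxr_23_0 i (Nat.zero_le _) hi

theorem fixwr_24 : ∀ i < 3510, Fn.applyW XU [2, 7, 7, 3, 4, 2, 6, 3, 5, 2, 6, 6, 3, 5] i = i := by
  intro i hi
  exact fixRangeK_sound fxr_24_0 i (Nat.zero_le _) hi

theorem fixwr_25 : ∀ i < 3510, Fn.applyW XU [7, 0, 4, 6, 5, 1, 6, 0] i = i := by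
  intro i hi
  exact fixRangeK_sound fxr_25_0 i (Nat.zero_le _) hi

theorem fixwr_26 : ∀ i < 3510, Fn.applyW XU [2, 6, 1, 2, 6, 1, 2, 2, 4, 3, 3, 0, 7, 3, 0, 7, 3, 5] i = i := by
  intro i hi
  exact fixRangeK_sound fxr_26_0 i (Nat.zero_le _) hi

theorem fixwr_27 : ∀ i < 3510, Fn.applyW XU [3, 4, 3, 4, 4, 3, 6, 2, 6, 3, 7, 2, 5, 5, 2, 5, 2, 6] i = i := by
  intro i hi
  exact fixRangeK_sound fxr_27_0 i (Nat.zero_le _) hi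

theorem fixwr_28 : ∀ i < 3510, Fn.applyW XU [3, 0, 7, 2, 1, 6, 3, 0, 2, 7, 0, 3, 6, 1, 2, 6] i = i := by
  intro i hi
  exact fixRangeK_sound fxr_28_0 i (Nat.zero_le _) hi

theorem fixwr_29 : ∀ i < 3510, Fn.applyW XU [3, 7, 3, 7, 3, 7, 3, 4, 2, 6, 2, 6, 2, 6, 2, 5] i = i := by
  intro i hi
  exact fixRangeK_sound fxr_29_0 i (Nat.zero_le _) hi

theorem fixwr_30 : ∀ i < 3510, Fn.applyW XU [2, 5, 2, 7, 2, 2, 4, 3, 6, 2, 5, 3, 3, 6, 3, 4, 3, 6] i = i := by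
  intro i hi
  exact fixRangeK_sound fxr_30_0 i (Nat.zero_le _) hi

theorem fixwr_31 : ∀ i < 3510, Fn.applyW XU [2, 4, 4, 4, 3, 7, 4, 6, 2, 5, 5, 5, 3, 5] i = i := by
  intro i hi
  exact fixRangeK_sound fxr_31_0 i (Nat.zero_le _) hi

theorem fixwr_32 : ∀ i < 3510, Fn.applyW XU [3, 3, 3, 3, 3, 5, 6, 4, 2, 2, 2, 2, 2, 7] i = i := by
  intro i hi
  exact fixRangeK_sound fxr_32_0 i (Nat.zero_le _) hi

theorem fixwr_33 : ∀ i < 3510, Fn.applyW XU [2, 6, 2, 6, 2, 6, 2, 8, 3, 7, 3, 7, 3, 7, 3, 9] i = i := by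
  intro i hi
  exact fixRangeK_sound fxr_33_0 i (Nat.zero_le _) hi

theorem fixwr_34 : ∀ i < 3510, Fn.applyW XU [3, 3, 4, 3, 5, 7, 2, 2, 8, 3, 3, 6, 4, 2, 5, 2, 2, 9] i = i := by
  intro i hi
  exact fixRangeK_sound fxr_34_0 i (Nat.zero_le _) hi

theorem fixwr_35 : ∀ i < 3510, Fn.applyW XU [2, 4, 3, 8, 4, 2, 0, 3, 5, 9, 2, 5, 3, 1] i = i := by
  intro i hi
  exact fixRangeK_sound fxr_35_0 i (Nat.zero_le _) hi

theorem fixwr_36 : ∀ i < 3510, Fn.applyW XU [2, 8, 3, 7, 2, 8, 2, 2, 8, 3, 3, 9, 3, 6, 2, 9, 3, 7] i = i := by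
  intro i hi
  exact fixRangeK_sound fxr_36_0 i (Nat.zero_le _) hi

theorem fixwr_37 : ∀ i < 3510, Fn.applyW XU [3, 9, 9, 2, 4, 3, 8, 8, 2, 5] i = i := by
  intro i hi
  exact fixRangeK_sound fxr_37_0 i (Nat.zero_le _) hi

theorem fixwr_38 : ∀ i < 3510, Fn.applyW XU [9, 6, 4, 7, 8, 5] i = i := by
  intro i hi
  exact fixRangeK_sound fxr_38_0 i (Nat.zero_le _) hi

theorem fixwr_39 : ∀ i < 3510, Fn.applyW XU [3, 6, 3, 5, 3, 8, 2, 4, 2, 7, 2, 8] i = i := by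
  intro i hi
  exact fixRangeK_sound fxr_39_0 i (Nat.zero_le _) hi

theorem fixwr_40 : ∀ i < 3510, Fn.applyW XU [0, 8, 7, 9, 6, 1, 2, 0, 7, 8, 6, 9, 1, 3] i = i := by
  intro i hi
  exact fixRangeK_sound fxr_40_0 i (Nat.zero_le _) hi

theorem fixwr_41 : ∀ i < 3510, Fn.applyW XU [0, 1] i = i := by
  intro i hi
  exact fixRangeK_sound fxr_41_0 i (Nat.zero_le _) hi

theorem fixwr_42 : ∀ i < 3510, Fn.applyW XU [1, 0] i = i := by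
  intro i hi
  exact fixRangeK_sound fxr_42_0 i (Nat.zero_le _) hi

theorem fixwr_43 : ∀ i < 3510, Fn.applyW XU [2, 3] i = i := by
  intro i hi
  exact fixRangeK_sound fxr_43_0 i (Nat.zero_le _) hi

theorem fixwr_44 : ∀ i < 3510, Fn.applyW XU [3, 2] i = i := by
  intro i hi
  exact fixRangeK_sound fxr_44_0 i (Nat.zero_le _) hi

theorem fixwr_45 : ∀ i < 3510, Fn.applyW XU [4, 5] i = i := by
  intro i hi
  exact fixRangeK_sound fxr_45_0 i (Nat.zero_le _) hi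

theorem fixwr_46 : ∀ i < 3510, Fn.applyW XU [5, 4] i = i := by
  intro i hi
  exact fixRangeK_sound fxr_46_0 i (Nat.zero_le _) hi

theorem fixwr_47 : ∀ i < 3510, Fn.applyW XU [6, 7] i = i := by
  intro i hi
  exact fixRangeK_sound fxr_47_0 i (Nat.zero_le _) hi

theorem fixwr_48 : ∀ i < 3510, Fn.applyW XU [7, 6] i = i := by
  intro i hi
  exact fixRangeK_sound fxr_48_0 i (Nat.zero_le _) hi

theorem fixwr_49 : ∀ i < 3510, Fn.applyW XU [8, 9] i = i := by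
  intro i hi
  exact fixRangeK_sound fxr_49_0 i (Nat.zero_le _) hi

theorem fixwr_50 : ∀ i < 3510, Fn.applyW XU [9, 8] i = i := by
  intro i hi
  exact fixRangeK_sound fxr_50_0 i (Nat.zero_le _) hi

theorem fixwr_51 : ∀ i < 3510, Fn.applyW XU [] i = i := by
  intro i hi
  exact fixRangeK_sound fxr_51_0 i (Nat.zero_le _) hi

theorem rels35 : ∀ b ∈ PresU5.baseL, ∀ i < 3510, Fn.applyW XU b i = i := by
  intro b hb
  simp only [PresU5.baseL, List.mem_cons, List.not_mem_nil, or_false] at hb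
  rcases hb with rfl | rfl | rfl | rfl | rfl | rfl | rfl | rfl | rfl | rfl | rfl | rfl | rfl | rfl | rfl | rfl | rfl | rfl | rfl | rfl | rfl | rfl | rfl | rfl | rfl | rfl | rfl | rfl | rfl | rfl | rfl | rfl | rfl | rfl | rfl | rfl | rfl | rfl | rfl | rfl | rfl | rfl | rfl | rfl | rfl | rfl | rfl | rfl | rfl | rfl | rfl | rfl
  · exact fixwr_0
  · exact fixwr_1
  · exact fixwr_2
  · exact fixwr_3
  · exact fixwr_4
  · exact fixwr_5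
  · exact fixwr_6
  · exact fixwr_7
  · exact fixwr_8
  · exact fixwr_9
  · exact fixwr_10
  · exact fixwr_11
  · exact fixwr_12
  · exact fixwr_13
  · exact fixwr_14
  · exact fixwr_15
  · exact fixwr_16
  · exact fixwr_17
  · exact fixwr_18
  · exact fixwr_19
  · exact fixwr_20
  · exact fixwr_21
  · exact fixwr_22
  · exact fixwr_23
  · exact fixwr_24
  · exact fixwr_25
  · exact fixwr_26
  · exact fixwr_27
  · exact fixwr_28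
  · exact fixwr_29
  · exact fixwr_30
  · exact fixwr_31
  · exact fixwr_32
  · exact fixwr_33
  · exact fixwr_34
  · exact fixwr_35
  · exact fixwr_36
  · exact fixwr_37
  · exact fixwr_38
  · exact fixwr_39
  · exact fixwr_40
  · exact fixwr_41
  · exact fixwr_42
  · exact fixwr_43
  · exact fixwr_44
  · exact fixwr_45
  · exact fixwr_46
  · exact fixwr_47
  · exact fixwr_48
  · exact fixwr_49
  · exact fixwr_50
  · exact fixwr_51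

theorem fixws_0 : ∀ i < 3510, Fn.applyW XU [1, 0, 0, 1] i = i := by
  intro i hi
  exact fixRangeK_sound fxs_0_0 i (Nat.zero_le _) hi

theorem fixws_1 : ∀ i < 3510, Fn.applyW XU [1, 3, 0, 2, 0, 3, 1, 2] i = i := by
  intro i hi
  exact fixRangeK_sound fxs_1_0 i (Nat.zero_le _) hi

theorem fixws_2 : ∀ i < 3510, Fn.applyW XU [1, 3, 3, 0, 2, 2, 0, 3, 3, 1, 2, 2] i = i := by
  intro i hi
  exact fixRangeK_sound fxs_2_0 i (Nat.zero_le _) hi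

theorem fixws_3 : ∀ i < 3510, Fn.applyW XU [1, 3, 3, 3, 0, 2, 2, 2, 0, 3, 3, 3, 1, 2, 2, 2] i = i := by
  intro i hi
  exact fixRangeK_sound fxs_3_0 i (Nat.zero_le _) hi

theorem fixws_4 : ∀ i < 3510, Fn.applyW XU [1, 3, 3, 3, 3, 0, 2, 2, 2, 2, 0, 3, 3, 3, 3, 1, 2, 2, 2, 2] i = i := by
  intro i hi
  exact fixRangeK_sound fxs_4_0 i (Nat.zero_le _) hi

theorem fixws_5 : ∀ i < 3510, Fn.applyW XU [3, 1, 2, 0, 3, 0, 2, 1] i = i := by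
  intro i hi
  exact fixRangeK_sound fxs_5_0 i (Nat.zero_le _) hi

theorem fixws_6 : ∀ i < 3510, Fn.applyW XU [3, 1, 2, 3, 0, 2, 3, 0, 2, 3, 1, 2] i = i := by
  intro i hi
  exact fixRangeK_sound fxs_6_0 i (Nat.zero_le _) hi

theorem fixws_7 : ∀ i < 3510, Fn.applyW XU [3, 1, 2, 3, 3, 0, 2, 2, 3, 0, 2, 3, 3, 1, 2, 2] i = i := by
  intro i hi
  exact fixRangeK_sound fxs_7_0 i (Nat.zero_le _) hi

theorem fixws_8 : ∀ i < 3510, Fn.applyW XU [3, 1, 2, 3, 3, 3, 0, 2, 2, 2, 3, 0, 2, 3, 3, 3, 1, 2, 2, 2] i = i := by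
  intro i hi
  exact fixRangeK_sound fxs_8_0 i (Nat.zero_le _) hi

theorem fixws_9 : ∀ i < 3510, Fn.applyW XU [3, 1, 2, 3, 3, 3, 3, 0, 2, 2, 2, 2, 3, 0, 2, 3, 3, 3, 3, 1, 2, 2, 2, 2] i = i := by
  intro i hi
  exact fixRangeK_sound fxs_9_0 i (Nat.zero_le _) hi

theorem fixws_10 : ∀ i < 3510, Fn.applyW XU [3, 3, 1, 2, 2, 0, 3, 3, 0, 2, 2, 1] i = i := by
  intro i hi
  exact fixRangeK_sound fxs_10_0 i (Nat.zero_le _) hi

theorem fixws_11 : ∀ i < 3510, Fn.applyW XU [3, 3, 1, 2, 2, 3, 0, 2, 3, 3, 0, 2, 2, 3, 1, 2] i = i := by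
  intro i hi
  exact fixRangeK_sound fxs_11_0 i (Nat.zero_le _) hi

theorem fixws_12 : ∀ i < 3510, Fn.applyW XU [3, 3, 1, 2, 2, 3, 3, 0, 2, 2, 3, 3, 0, 2, 2, 3, 3, 1, 2, 2] i = i := by
  intro i hi
  exact fixRangeK_sound fxs_12_0 i (Nat.zero_le _) hi

theorem fixws_13 : ∀ i < 3510, Fn.applyW XU [3, 3, 1, 2, 2, 3, 3, 3, 0, 2, 2, 2, 3, 3, 0, 2, 2, 3, 3, 3, 1, 2, 2, 2] i = i := by
  intro i hi
  exact fixRangeK_sound fxs_13_0 i (Nat.zero_le _) hi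

theorem fixws_14 : ∀ i < 3510, Fn.applyW XU [3, 3, 1, 2, 2, 3, 3, 3, 3, 0, 2, 2, 2, 2, 3, 3, 0, 2, 2, 3, 3, 3, 3, 1, 2, 2, 2, 2] i = i := by
  intro i hi
  exact fixRangeK_sound fxs_14_0 i (Nat.zero_le _) hi

theorem fixws_15 : ∀ i < 3510, Fn.applyW XU [3, 3, 3, 1, 2, 2, 2, 0, 3, 3, 3, 0, 2, 2, 2, 1] i = i := by
  intro i hi
  exact fixRangeK_sound fxs_15_0 i (Nat.zero_le _) hi

theorem fixws_16 : ∀ i < 3510, Fn.applyW XU [3, 3, 3, 1, 2, 2, 2, 3, 0, 2, 3, 3, 3, 0, 2, 2, 2, 3, 1, 2] i = i := by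
  intro i hi
  exact fixRangeK_sound fxs_16_0 i (Nat.zero_le _) hi

theorem fixws_17 : ∀ i < 3510, Fn.applyW XU [3, 3, 3, 1, 2, 2, 2, 3, 3, 0, 2, 2, 3, 3, 3, 0, 2, 2, 2, 3, 3, 1, 2, 2] i = i := by
  intro i hi
  exact fixRangeK_sound fxs_17_0 i (Nat.zero_le _) hi

theorem fixws_18 : ∀ i < 3510, Fn.applyW XU [3, 3, 3, 1, 2, 2, 2, 3, 3, 3, 0, 2, 2, 2, 3, 3, 3, 0, 2, 2, 2, 3, 3, 3, 1, 2, 2, 2] i = i := by
  intro i hi
  exact fixRangeK_sound fxs_18_0 i (Nat.zero_le _) hi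

theorem fixws_19 : ∀ i < 3510, Fn.applyW XU [3, 3, 3, 1, 2, 2, 2, 3, 3, 3, 3, 0, 2, 2, 2, 2, 3, 3, 3, 0, 2, 2, 2, 3, 3, 3, 3, 1, 2, 2, 2, 2] i = i := by
  intro i hi
  by_cases h0 : i < 1755
  · exact fixRangeK_sound fxs_19_0 i (Nat.zero_le _) h0
  exact fixRangeK_sound fxs_19_1 i (Nat.le_of_not_gt h0) hi

theorem fixws_20 : ∀ i < 3510, Fn.applyW XU [3, 3, 3, 3, 1, 2, 2, 2, 2, 0, 3, 3, 3, 3, 0, 2, 2, 2, 2, 1] i = i := by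
  intro i hi
  exact fixRangeK_sound fxs_20_0 i (Nat.zero_le _) hi

theorem fixws_21 : ∀ i < 3510, Fn.applyW XU [3, 3, 3, 3, 1, 2, 2, 2, 2, 3, 0, 2, 3, 3, 3, 3, 0, 2, 2, 2, 2, 3, 1, 2] i = i := by
  intro i hi
  exact fixRangeK_sound fxs_21_0 i (Nat.zero_le _) hi

theorem fixws_22 : ∀ i < 3510, Fn.applyW XU [3, 3, 3, 3, 1, 2, 2, 2, 2, 3, 3, 0, 2, 2, 3, 3, 3, 3, 0, 2, 2, 2, 2, 3, 3, 1, 2, 2] i = i := by
  intro i hi
  exact fixRangeK_sound fxs_22_0 i (Nat.zero_le _) hi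

theorem fixws_23 : ∀ i < 3510, Fn.applyW XU [3, 3, 3, 3, 1, 2, 2, 2, 2, 3, 3, 3, 0, 2, 2, 2, 3, 3, 3, 3, 0, 2, 2, 2, 2, 3, 3, 3, 1, 2, 2, 2] i = i := by
  intro i hi
  by_cases h0 : i < 1755
  · exact fixRangeK_sound fxs_23_0 i (Nat.zero_le _) h0
  exact fixRangeK_sound fxs_23_1 i (Nat.le_of_not_gt h0) hi

theorem fixws_24 : ∀ i < 3510, Fn.applyW XU [3, 3, 3, 3, 1, 2, 2, 2, 2, 3, 3, 3, 3, 0, 2, 2, 2, 2, 3, 3, 3, 3, 0, 2, 2, 2, 2, 3, 3, 3, 3, 1, 2, 2, 2, 2] i = i := by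
  intro i hi
  by_cases h0 : i < 1755
  · exact fixRangeK_sound fxs_24_0 i (Nat.zero_le _) h0
  exact fixRangeK_sound fxs_24_1 i (Nat.le_of_not_gt h0) hi

theorem sides35_split : CertsU.sides =
    ([[1, 0, 0, 1], [1, 3, 0, 2, 0, 3, 1, 2], [1, 3, 3, 0, 2, 2, 0, 3, 3, 1, 2, 2], [1, 3, 3, 3, 0, 2, 2, 2, 0, 3, 3, 3, 1, 2, 2, 2], [1, 3, 3, 3, 3, 0, 2, 2, 2, 2, 0, 3, 3, 3, 3, 1, 2, 2, 2, 2], [3, 1, 2, 0, 3, 0, 2, 1], [3, 1, 2, 3, 0, 2, 3, 0, 2, 3, 1, 2], [3, 1, 2, 3, 3, 0, 2, 2, 3, 0, 2, 3, 3, 1, 2, 2], [3, 1, 2, 3, 3, 3, 0, 2, 2, 2, 3, 0, 2, 3, 3, 3, 1, 2, 2, 2], [3, 1, 2, 3, 3, 3, 3, 0, 2, 2, 2, 2, 3, 0, 2, 3, 3, 3, 3, 1, 2, 2, 2, 2], [3, 3, 1, 2, 2, 0, 3, 3, 0, 2, 2, 1], [3, 3, 1, 2, 2, 3, 0, 2, 3, 3, 0, 2, 2, 3, 1, 2], [3, 3, 1, 2, 2, 3, 3, 0, 2, 2, 3, 3, 0, 2, 2, 3, 3, 1, 2, 2], [3, 3, 1, 2, 2, 3, 3, 3, 0, 2, 2, 2, 3, 3, 0, 2, 2, 3, 3,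 3, 1, 2, 2, 2], [3, 3, 1, 2, 2, 3, 3, 3, 3, 0, 2, 2, 2, 2, 3, 3, 0, 2, 2, 3, 3, 3, 3, 1, 2, 2, 2, 2], [3, 3, 3, 1, 2, 2, 2, 0, 3, 3, 3, 0, 2, 2, 2, 1], [3, 3, 3, 1, 2, 2, 2, 3, 0, 2, 3, 3, 3, 0, 2, 2, 2, 3, 1, 2], [3, 3, 3, 1, 2, 2, 2, 3, 3, 0, 2, 2, 3, 3, 3, 0, 2, 2, 2, 3, 3, 1, 2, 2], [3, 3, 3, 1, 2, 2, 2, 3, 3, 3, 0, 2, 2, 2, 3, 3, 3, 0, 2, 2, 2, 3, 3, 3, 1, 2, 2, 2], [3, 3, 3, 1, 2, 2, 2, 3, 3, 3, 3, 0, 2, 2, 2, 2, 3, 3, 3, 0, 2, 2, 2, 3, 3, 3, 3, 1, 2, 2, 2, 2], [3, 3, 3, 3, 1, 2, 2, 2, 2, 0, 3, 3, 3, 3, 0, 2, 2, 2, 2, 1], [3, 3, 3, 3, 1, 2, 2, 2, 2, 3, 0, 2, 3, 3, 3, 3, 0, 2, 2, 2, 2, 3, 1, 2], [3, 3, 3, 3, 1, 2, 2, 2, 2, 3, 3, 0, 2, 2, 3, 3, 3, 3, 0, 2, 2, 2, 2, 3, 3, 1, 2, 2], [3, 3, 3, 3, 1, 2, 2, 2, 2, 3, 3, 3, 0, 2, 2, 2, 3, 3, 3, 3, 0, 2, 2, 2, 2, 3, 3, 3, 1, 2, 2, 2], [3, 3, 3, 3, 1, 2, 2, 2, 2, 3, 3, 3, 3, 0, 2, 2, 2, 2,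 3, 3, 3, 3, 0, 2, 2, 2, 2, 3, 3, 3, 3, 1, 2, 2, 2, 2]] : List (List ℕ)) := by
  decide +kernel

theorem sides35 : ∀ b ∈ CertsU.sides, ∀ i < 3510, Fn.applyW XU b i = i := by
  intro b hb
  rw [sides35_split] at hb
  simp only [List.mem_cons, List.not_mem_nil, or_false] at hb
  rcases hb with rfl | rfl | rfl | rfl | rfl | rfl | rfl | rfl | rfl | rfl | rfl | rfl | rfl | rfl | rfl | rfl | rfl | rfl | rfl | rfl | rfl | rfl | rfl | rfl | rfl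
  · exact fixws_0
  · exact fixws_1
  · exact fixws_2
  · exact fixws_3
  · exact fixws_4
  · exact fixws_5
  · exact fixws_6
  · exact fixws_7
  · exact fixws_8
  · exact fixws_9
  · exact fixws_10
  · exact fixws_11
  · exact fixws_12
  · exact fixws_13
  · exact fixws_14
  · exact fixws_15
  · exact fixws_16
  · exact fixws_17
  · exact fixws_18
  · exact fixws_19
  · exact fixws_20
  · exact fixws_21
  · exact fixws_22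
  · exact fixws_23
  · exact fixws_24

/-- a word in the letters is trivial in the group if it fixes all the 3510 points -/
theorem wprod_xM_eq_one (w : List ℕ) (hw : ∀ s ∈ w, s < 10)
    (h : ∀ i < 3510, Fn.applyW XU w i = i) : wprod xM w = 1 := by
  apply Ord.Fi22Order.rho_injective
  rw [map_one]
  apply Equiv.ext
  intro i
  apply Fin.ext
  have h1 := TabPerm.hom_word xM Fi22o3510.rho rho35_xM w hw i
  rw [h1, Equiv.Perm.one_apply]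
  exact h i.val i.isLt

theorem rels_hold : ∀ b ∈ PresU5.baseL, wprod xM b = 1 := by
  intro b hb
  have hl : ∀ s ∈ b, s < 10 := fun s hs => lettersK_lt PresU5.hlet hb hs
  exact wprod_xM_eq_one b hl (rels35 b hb)

theorem sides_hold : ∀ c ∈ CertsU.certs, ∀ s ∈ c.side, wprod xM s = 1 := by
  intro c hc s hs
  have hm := CertsU.mem_sides c hc s hs
  exact wprod_xM_eq_one s (CertsU.sides_lt s hm) (sides35 s hm)

/-- the homomorphism of the presented cover to the group -/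
noncomputable def phi : PresU5.Grp →* Cfsg.Spor.Fi22 := (PresU5.hliftG xM rels_hold).choose

theorem phi_v : ∀ s < 10, phi (PresU5.v s) = xM s := (PresU5.hliftG xM rels_hold).choose_spec

end Cfsg.Agent.Lib.Helper12.Fi22M.ModelU
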