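import Cfsg.Agent.Lib.Helper12.Ord.Fi22Order
import Cfsg.Agent.Lib.Helper12.M23Ext.TabPerm
import Cfsg.Agent.Lib.Helper12.Fi22M.CertsU
import Cfsg.Agent.Lib.Helper12.Fi22M.XTabU

/-!
Five elements of odd order of the presented group of Fischer as words in the generators (generated, helper12).
-/

set_option autoImplicit false
set_option maxRecDepth 100000
set_option Elab.async false

namespace Cfsg.Agent.Lib.Helper12.Fi22M.ModelU

open Cfsg.Agent.Lib.Helper12.TC Cfsg.Agent.Lib.Helper12.TCG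
  Cfsg.Agent.Lib.Helper12.M23Ext Cfsg.Agent.Lib.Helper12.Fi22M Cfsg.Agent.Lib.Helper12.Fi22M.XTabU

/-- the generators of the presented group -/
noncomputable def gP (x : ℕ) : Cfsg.Spor.Fi22 :=
  PresentedGroup.mk (Cfsg.Spor.coxRelators Cfsg.Spor.Fi22.edges ∪ {r | r ∈ Cfsg.Spor.Fi22.extra})
    (FreeGroup.of (Fi22Pres.gen x))

/-- the ten letters as words in the generators -/
def xw : ℕ → List ℕ
  | 0 => [0, 1]
  | 1 => [1, 0]
  | 2 => [5, 4, 2, 3, 7, 8, 4, 3, 7, 5, 4, 3, 2, 1, 2, 3, 4, 5, 7, 3, 4, 8, 7, 3, 2, 3]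
  | 3 => [3, 2, 3, 7, 8, 4, 3, 7, 5, 4, 3, 2, 1, 2, 3, 4, 5, 7, 3, 4, 8, 7, 3, 2, 4, 5]
  | 4 => [5, 6]
  | 5 => [6, 5]
  | 6 => [1, 2]
  | 7 => [2, 1]
  | 8 => [7, 8]
  | 9 => [8, 7]
  | _ => []

/-- the ten letters as elements of the group -/
noncomputable def xM (s : ℕ) : Cfsg.Spor.Fi22 := wprod gP (xw s)

theorem xw_lt : ∀ s < 10, ∀ x ∈ xw s, x < 9 := by decide

theorem col35_0 : allBelowK 3510 (fun i => Nat.beq (XU 0 i) (Fn.applyW Fi22o3510.TT (xw 0) i)) = true := by
  decide +kernel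

theorem col35_1 : allBelowK 3510 (fun i => Nat.beq (XU 1 i) (Fn.applyW Fi22o3510.TT (xw 1) i)) = true := by
  decide +kernel

theorem col35_2 : allBelowK 3510 (fun i => Nat.beq (XU 2 i) (Fn.applyW Fi22o3510.TT (xw 2) i)) = true := by
  decide +kernel

theorem col35_3 : allBelowK 3510 (fun i => Nat.beq (XU 3 i) (Fn.applyW Fi22o3510.TT (xw 3) i)) = true := by
  decide +kernel

theorem col35_4 : allBelowK 3510 (fun i => Nat.beq (XU 4 i) (Fn.applyW Fi22o3510.TT (xw 4) i)) = true := by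
  decide +kernel

theorem col35_5 : allBelowK 3510 (fun i => Nat.beq (XU 5 i) (Fn.applyW Fi22o3510.TT (xw 5) i)) = true := by
  decide +kernel

theorem col35_6 : allBelowK 3510 (fun i => Nat.beq (XU 6 i) (Fn.applyW Fi22o3510.TT (xw 6) i)) = true := by
  decide +kernel

theorem col35_7 : allBelowK 3510 (fun i => Nat.beq (XU 7 i) (Fn.applyW Fi22o3510.TT (xw 7) i)) = true := by
  decide +kernel

theorem col35_8 : allBelowK 3510 (fun i => Nat.beq (XU 8 i) (Fn.applyW Fi22o3510.TT (xw 8) i)) = true := by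
  decide +kernel

theorem col35_9 : allBelowK 3510 (fun i => Nat.beq (XU 9 i) (Fn.applyW Fi22o3510.TT (xw 9) i)) = true := by
  decide +kernel

theorem col35 : ∀ s < 10, ∀ i < 3510, XU s i = Fn.applyW Fi22o3510.TT (xw s) i := by
  intro s hs i hi
  have key : allBelowK 3510 (fun i => Nat.beq (XU s i) (Fn.applyW Fi22o3510.TT (xw s) i)) = true := by
    interval_cases s
    · exact col35_0
    · exact col35_1
    · exact col35_2
    · exact col35_3
    · exact col35_4
    · exact col35_5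
    · exact col35_6
    · exact col35_7
    · exact col35_8
    · exact col35_9
  have := (allBelowK_iff 3510 _).mp key i hi
  rwa [Nat.beq_eq] at this

theorem rho35_xM : ∀ s < 10, ∀ i : Fin Fi22o3510.cN,
    ((Fi22o3510.rho (xM s) i : Fin Fi22o3510.cN) : ℕ) = XU s i.val := by
  intro s hs i
  have h := TabPerm.hom_word gP Fi22o3510.rho Fi22o3510.rho_gen (xw s) (xw_lt s hs) i
  rw [col35 s hs i.val i.isLt]
  exact h

end Cfsg.Agent.Lib.Helper12.Fi22M.ModelU
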