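import Cfsg.Agent.Lib.Helper12.Fi22M.ModelUDefs
import Cfsg.Agent.Lib.Helper12.Fi22M.FixRange

/-!
The relators and the side conditions on 3510 points, part 0 (generated, helper12).
-/

set_option autoImplicit false
set_option maxRecDepth 100000
set_option Elab.async false

namespace Cfsg.Agent.Lib.Helper12.Fi22M.ModelU

open Cfsg.Agent.Lib.Helper12.TC Cfsg.Agent.Lib.Helper12.TCG
  Cfsg.Agent.Lib.Helper12.M23Ext Cfsg.Agent.Lib.Helper12.Fi22M Cfsg.Agent.Lib.Helper12.Fi22M.XTabU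

theorem fxr_1_0 : fixRangeK XU [2, 2, 2, 2, 2] 0 3510 = true := by
  decide +kernel

theorem fxr_3_0 : fixRangeK XU [6, 6, 6] 0 3510 = true := by
  decide +kernel

theorem fxr_5_0 : fixRangeK XU [0, 3, 0, 2, 3, 3, 0, 2, 2, 3, 3, 3, 0, 2, 2, 2, 3, 3, 3, 3, 0, 2, 2, 2, 2] 0 3510 = true := by
  decide +kernel

theorem fxr_8_0 : fixRangeK XU [4, 3, 5, 2, 5, 5, 3, 5, 2, 4, 2, 5, 3, 4, 2, 4, 4, 3, 4, 2, 5, 2] 0 3510 = true := by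
  decide +kernel

theorem fxr_12_0 : fixRangeK XU [3, 5, 3, 5, 2, 5, 5, 2, 4, 3, 4, 4, 3, 4, 2, 4, 2, 5] 0 3510 = true := by
  decide +kernel

theorem fxr_13_0 : fixRangeK XU [5, 3, 3, 5, 2, 2, 2, 5, 2, 4, 3, 3, 3, 4, 2, 2, 4, 3] 0 3510 = true := by
  decide +kernel

theorem fxr_16_0 : fixRangeK XU [2, 5, 2, 0, 2, 2, 1, 2, 5, 2, 4, 3, 4, 3, 0, 3, 3, 1, 3, 4, 3, 5] 0 3510 = true := by
  decide +kernel

theorem fxr_18_0 : fixRangeK XU [0, 2, 7, 0, 0, 3, 6, 2, 6, 3, 7, 2, 1, 1, 6, 3, 1, 6] 0 3510 = true := by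
  decide +kernel

theorem fxr_23_0 : fixRangeK XU [1, 2, 0, 7, 3, 6, 2, 2, 0, 3, 3, 7, 2, 6, 1, 3, 0, 6] 0 3510 = true := by
  decide +kernel

theorem fxr_24_0 : fixRangeK XU [2, 7, 7, 3, 4, 2, 6, 3, 5, 2, 6, 6, 3, 5] 0 3510 = true := by
  decide +kernel

theorem fxr_25_0 : fixRangeK XU [7, 0, 4, 6, 5, 1, 6, 0] 0 3510 = true := by
  decide +kernel

theorem fxr_28_0 : fixRangeK XU [3, 0, 7, 2, 1, 6, 3, 0, 2, 7, 0, 3, 6, 1, 2, 6] 0 3510 = true := by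
  decide +kernel

theorem fxr_30_0 : fixRangeK XU [2, 5, 2, 7, 2, 2, 4, 3, 6, 2, 5, 3, 3, 6, 3, 4, 3, 6] 0 3510 = true := by
  decide +kernel

theorem fxr_35_0 : fixRangeK XU [2, 4, 3, 8, 4, 2, 0, 3, 5, 9, 2, 5, 3, 1] 0 3510 = true := by
  decide +kernel

theorem fxr_38_0 : fixRangeK XU [9, 6, 4, 7, 8, 5] 0 3510 = true := by
  decide +kernel

theorem fxr_39_0 : fixRangeK XU [3, 6, 3, 5, 3, 8, 2, 4, 2, 7, 2, 8] 0 3510 = true := by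
  decide +kernel

theorem fxr_42_0 : fixRangeK XU [1, 0] 0 3510 = true := by
  decide +kernel

theorem fxr_45_0 : fixRangeK XU [4, 5] 0 3510 = true := by
  decide +kernel

theorem fxr_48_0 : fixRangeK XU [7, 6] 0 3510 = true := by
  decide +kernel

theorem fxr_51_0 : fixRangeK XU [] 0 3510 = true := by
  decide +kernel

theorem fxs_3_0 : fixRangeK XU [1, 3, 3, 3, 0, 2, 2, 2, 0, 3, 3, 3, 1, 2, 2, 2] 0 3510 = true := by
  decide +kernel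

theorem fxs_10_0 : fixRangeK XU [3, 3, 1, 2, 2, 0, 3, 3, 0, 2, 2, 1] 0 3510 = true := by
  decide +kernel

theorem fxs_12_0 : fixRangeK XU [3, 3, 1, 2, 2, 3, 3, 0, 2, 2, 3, 3, 0, 2, 2, 3, 3, 1, 2, 2] 0 3510 = true := by
  decide +kernel

theorem fxs_14_0 : fixRangeK XU [3, 3, 1, 2, 2, 3, 3, 3, 3, 0, 2, 2, 2, 2, 3, 3, 0, 2, 2, 3, 3, 3, 3, 1, 2, 2, 2, 2] 0 3510 = true := by
  decide +kernel

theorem fxs_15_0 : fixRangeK XU [3, 3, 3, 1, 2, 2, 2, 0, 3, 3, 3, 0, 2, 2, 2, 1] 0 3510 = true := by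
  decide +kernel

theorem fxs_23_0 : fixRangeK XU [3, 3, 3, 3, 1, 2, 2, 2, 2, 3, 3, 3, 0, 2, 2, 2, 3, 3, 3, 3, 0, 2, 2, 2, 2, 3, 3, 3, 1, 2, 2, 2] 0 1755 = true := by
  decide +kernel

theorem fxs_24_0 : fixRangeK XU [3, 3, 3, 3, 1, 2, 2, 2, 2, 3, 3, 3, 3, 0, 2, 2, 2, 2, 3, 3, 3, 3, 0, 2, 2, 2, 2, 3, 3, 3, 3, 1, 2, 2, 2, 2] 0 1755 = true := by
  decide +kernel

end Cfsg.Agent.Lib.Helper12.Fi22M.ModelU
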