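import Cfsg.Agent.Lib.Helper12.McLM.OddLift

/-!
Central extensions with a kernel of odd order, continued: a product of pairwise commuting involutions which is trivial
in the quotient is trivial for the lifts as well.  The shapes of relators are: a product of two conjugates of letters
has a given order; a product of pairwise commuting conjugates of letters is trivial (helper12).
-/

set_option autoImplicit false

namespace Cfsg.Agent.Lib.Helper12.Fi22M.OddLift2

open Cfsg.Agent.Lib.Helper12.TC Cfsg.Agent.Lib.Helper12.TCG Cfsg.Agent.Lib.Helper12.McLM.OddLift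

section Lists

variable {Γ : Type*} [Group Γ]

theorem prod_sq_of_commute (L : List Γ) (hsq : ∀ a ∈ L, a * a = 1)
    (hc : ∀ a ∈ L, ∀ b ∈ L, a * b = b * a) : L.prod * L.prod = 1 := by
  induction L with
  | nil => simp
  | cons a L ih =>
    have ha : a * a = 1 := hsq a List.mem_cons_self
    have hL := ih (fun b hb => hsq b (List.mem_cons_of_mem _ hb))
      (fun b hb c hc' => hc b (List.mem_cons_of_mem _ hb) c (List.mem_cons_of_mem _ hc'))
    have hcomm : Commute a L.prod :=
      Commute.list_prod_right _ _ (fun b hb => hc a List.mem_cons_self b (List.mem_cons_of_mem _ hb))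
    rw [List.prod_cons]
    calc a * L.prod * (a * L.prod) = a * (L.prod * a) * L.prod := by group
      _ = a * (a * L.prod) * L.prod := by rw [hcomm.eq]
      _ = (a * a) * (L.prod * L.prod) := by group
      _ = 1 := by rw [ha, hL, mul_one]

theorem wprod_flatten_map (f : ℕ → Γ) {α : Type*} (g : α → List ℕ) (cs : List α) :
    wprod f (cs.map g).flatten = (cs.map fun p => wprod f (g p)).prod := by
  induction cs with
  | nil => simp [wprod_nil]
  | cons p cs ih =>
    rw [List.map_cons, List.flatten_cons, wprod_append, ih, List.map_cons, List.prod_cons]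

end Lists

/-- the shapes of the relators -/
inductive Cert where
  | dih (w1 : List ℕ) (i1 : ℕ) (w2 : List ℕ) (i2 : ℕ) (m : ℕ) : Cert
  | cprod (cs : List (List ℕ × ℕ)) : Cert

/-- the relator of a shape -/
def Cert.word : Cert → List ℕ
  | .dih w1 i1 w2 i2 m => (List.replicate m (cj w1 i1 ++ cj w2 i2)).flatten
  | .cprod cs => (cs.map fun p => cj p.1 p.2).flatten

/-- the side conditions of a shape: words which are to be trivial in the quotient -/
def Cert.side : Cert → List (List ℕ)
  | .dih _ _ _ _ _ => []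
  | .cprod cs => (cs.product cs).map fun pq =>
      cj pq.1.1 pq.1.2 ++ cj pq.2.1 pq.2.2 ++ (cj pq.1.1 pq.1.2 ++ cj pq.2.1 pq.2.2)

section Main

variable {Γ G : Type*} [Group Γ] [Group G] (σ : Γ →* G)

theorem lift_rel [Finite Γ] (hcen : σ.ker ≤ Subgroup.center Γ) (hodd : Odd (Nat.card σ.ker))
    (f : ℕ → Γ) (hf : ∀ s, f s * f s = 1) (c : Cert)
    (h : wprod (fun s => σ (f s)) c.word = 1)
    (hside : ∀ s ∈ c.side, wprod (fun s => σ (f s)) s = 1) : wprod f c.word = 1 := by
  cases c with
  | dih w1 i1 w2 i2 m =>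
    rw [WPres.wprod_map σ f] at h
    simp only [Cert.word] at h ⊢
    rw [wprod_flatten_replicate, wprod_append] at h ⊢
    exact dih_lift σ hcen hodd (wprod_cj_sq f hf w1 i1) (wprod_cj_sq f hf w2 i2) m h
  | cprod cs =>
    rw [WPres.wprod_map σ f] at h
    simp only [Cert.word] at h ⊢
    rw [wprod_flatten_map] at h ⊢
    set L : List Γ := cs.map fun p => wprod f (cj p.1 p.2) with hL
    have hsq : ∀ a ∈ L, a * a = 1 := by
      intro a ha
      rw [hL, List.mem_map] at ha
      obtain ⟨p, _, rfl⟩ := ha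
      exact wprod_cj_sq f hf p.1 p.2
    have hcomm : ∀ a ∈ L, ∀ b ∈ L, a * b = b * a := by
      intro a ha b hb
      rw [hL, List.mem_map] at ha hb
      obtain ⟨p, hp, rfl⟩ := ha
      obtain ⟨q, hq, rfl⟩ := hb
      have hs := hside (cj p.1 p.2 ++ cj q.1 q.2 ++ (cj p.1 p.2 ++ cj q.1 q.2)) (by
        simp only [Cert.side, List.mem_map]
        exact ⟨(p, q), List.mem_product.mpr ⟨hp, hq⟩, rfl⟩)
      rw [WPres.wprod_map σ f, wprod_append, wprod_append] at hs
      have h2 : σ ((wprod f (cj p.1 p.2) * wprod f (cj q.1 q.2)) ^ 2) = 1 := by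
        rw [pow_two]; exact hs
      have h3 := dih_lift σ hcen hodd (wprod_cj_sq f hf p.1 p.2) (wprod_cj_sq f hf q.1 q.2) 2 h2
      rw [pow_two] at h3
      have hu := wprod_cj_sq f hf p.1 p.2
      have hv := wprod_cj_sq f hf q.1 q.2
      set u := wprod f (cj p.1 p.2)
      set v := wprod f (cj q.1 q.2)
      calc u * v = u * v * ((u * v) * (v * u)) := by
            have : u * v * (v * u) = 1 := by
              calc u * v * (v * u) = u * (v * v) * u := by group
                _ = 1 := by rw [hv, mul_one, hu]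
            rw [this, mul_one]
        _ = (u * v * (u * v)) * (v * u) := by group
        _ = v * u := by rw [h3, one_mul]
    have hP := prod_sq_of_commute L hsq hcomm
    have hk : L.prod ∈ σ.ker := MonoidHom.mem_ker.mpr h
    exact eq_one_of_sq_of_odd σ hodd hk hP

/-- a group presented by relators of the shapes above on involutions maps onto every finite stem extension
with a kernel of odd order of a group generated by involutions which satisfy the relators and the side conditions -/
theorem exists_surj_of_odd_stem [Finite Γ] (hσ : Cfsg.IsStemExtension σ) (hodd : Odd (Nat.card σ.ker))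
    (n : ℕ) (baseL : List (List ℕ)) (hlet : lettersK n baseL = true) (certs : List Cert)
    (hshape : ∀ b ∈ baseL, b = [] ∨ (∃ s, b = [s, s]) ∨ ∃ c ∈ certs, b = c.word)
    (hsq : ∀ s < n, [s, s] ∈ baseL)
    (hsl : ∀ c ∈ certs, ∀ s ∈ c.side, ∀ t ∈ s, t < n)
    (x : ℕ → G) (hx : ∀ b ∈ baseL, wprod x b = 1)
    (hxs : ∀ c ∈ certs, ∀ s ∈ c.side, wprod x s = 1)
    (hgen : Subgroup.closure {y | ∃ s < n, y = x s} = ⊤) :
    ∃ ψ : WPres.Grp n baseL →* Γ, Function.Surjective ψ ∧
      ∀ s < n, σ (ψ (WPres.v n baseL s)) = x s := by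
  have hcen := hσ.2.1
  have hxsq : ∀ s < n, x s * x s = 1 := by
    intro s hs
    have := hx _ (hsq s hs)
    rwa [wprod_cons, wprod_cons, wprod_nil, mul_one] at this
  have hex : ∀ s : ℕ, ∃ y : Γ, (s < n → σ y = x s) ∧ y * y = 1 := by
    intro s
    by_cases hs : s < n
    · obtain ⟨y, hy1, hy2⟩ := exists_invol_lift σ hσ.1 hcen hodd (hxsq s hs)
      exact ⟨y, fun _ => hy1, hy2⟩
    · exact ⟨1, fun h => absurd h hs, mul_one 1⟩
  choose f hf1 hf2 using hex
  have hσfl : ∀ l : List ℕ, (∀ s ∈ l, s < n) → wprod (fun s => σ (f s)) l = wprod x l := by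
    intro l
    induction l with
    | nil => intro _; rfl
    | cons s l ih =>
      intro hl
      rw [wprod_cons, wprod_cons, ih (fun t ht => hl t (List.mem_cons_of_mem _ ht)),
        hf1 s (hl s List.mem_cons_self)]
  have hw : ∀ b ∈ baseL, wprod f b = 1 := by
    intro b hb
    have hbl : ∀ s ∈ b, s < n := fun s hs => lettersK_lt hlet hb hs
    rcases hshape b hb with rfl | ⟨s, rfl⟩ | ⟨c, hc, rfl⟩
    · rfl
    · rw [wprod_cons, wprod_cons, wprod_nil, mul_one]
      exact hf2 s
    · apply lift_rel σ hcen hodd f hf2 c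
      · rw [hσfl _ hbl]
        exact hx _ hb
      · intro s hs
        rw [hσfl _ (hsl c hc s hs)]
        exact hxs c hc s hs
  obtain ⟨ψ, hψ⟩ := WPres.hlift n baseL hlet f hw
  refine ⟨ψ, ?_, ?_⟩
  · rw [← MonoidHom.range_eq_top]
    apply eq_top_of_map_eq_top σ hσ
    rw [eq_top_iff, ← hgen, Subgroup.closure_le]
    rintro y ⟨s, hs, rfl⟩
    exact ⟨ψ (WPres.v n baseL s), ⟨_, rfl⟩, by rw [hψ s hs]; exact hf1 s hs⟩
  · intro s hs
    rw [hψ s hs]
    exact hf1 s hs

end Main

end Cfsg.Agent.Lib.Helper12.Fi22M.OddLift2
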