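import Cfsg.Agent.Lib.Helper12.TCG.Fi22Ia51840.Rho
import Cfsg.Agent.Lib.Helper12.TCG.Fi22Ib729.Rho
import Cfsg.Agent.Lib.Helper12.TCG.Fi22Ic364.Rho
import Cfsg.Agent.Lib.Helper12.TCG.Fi22Id14080.Rho
import Cfsg.Agent.Lib.Helper12.Fi22M.CertsI
import Cfsg.Agent.Lib.Helper12.Ord.SubPres

/-!
The group presented on the nine involutions has at most `14080 * 364 * 729 * 51840` elements: the subgroup
generated by the first letters has index `14080`, `364`, `729` in the group presented on nine, eight, seven letters
and is a quotient of the group presented on one letter less; the group presented on six letters has `51840` elements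
(helper12).
-/

set_option autoImplicit false
set_option maxRecDepth 100000

namespace Cfsg.Agent.Lib.Helper12.Fi22M.OrderI

open Cfsg.Agent.Lib.Helper12.TC Cfsg.Agent.Lib.Helper12.TCG Cfsg.Agent.Lib.Helper12.Ord
  Cfsg.Agent.Lib.Helper12.Fi22M

/-- a group with a subgroup of index `n` which lies in the image of a group with at most `m` elements has at most
`n * m` elements -/
theorem step {A B : Type} [Group A] [Group B] [Finite A] (ι : A →* B) (Hs : Subgroup B)
    (hle : Hs ≤ ι.range) (n m : ℕ) (hn : 0 < n) (hidx : Hs.index = n) (hm : Nat.card A ≤ m) :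
    Finite B ∧ Nat.card B ≤ n * m := by
  have hfr : Finite ι.range := Finite.of_surjective _ ι.rangeRestrict_surjective
  have hcr : Nat.card ι.range ≤ m :=
    (Nat.card_le_card_of_surjective _ ι.rangeRestrict_surjective).trans hm
  have hinj : Function.Injective (Subgroup.inclusion hle) := Subgroup.inclusion_injective _
  exact card_le_of_index Hs n m hn hidx (Finite.of_injective _ hinj)
    ((Nat.card_le_card_of_injective _ hinj).trans hcr)

/-- the subgroup generated by the letters below `k` lies in the image of a homomorphism which hits these letters -/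
theorem closure_le_range {A B : Type} [Group A] [Group B] (ι : A →* B) (vA : ℕ → A) (vB : ℕ → B) (k : ℕ)
    (hι : ∀ s < k, ι (vA s) = vB s) (sw : List (List ℕ)) (hsw : ∀ w ∈ sw, ∃ s < k, w = [s]) :
    Subgroup.closure {γ | ∃ w ∈ sw, γ = wprod vB w} ≤ ι.range := by
  rw [Subgroup.closure_le]
  rintro γ ⟨w, hw, rfl⟩
  obtain ⟨s, hs, rfl⟩ := hsw w hw
  exact ⟨vA s, by rw [hι s hs, wprod_cons, wprod_nil, mul_one]⟩

theorem hs6_bot : Fi22Ia51840.Hs = ⊥ := by
  rw [Fi22Ia51840.hH, Subgroup.closure_eq_bot_iff]
  rintro γ ⟨w, hw, rfl⟩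
  exact absurd hw List.not_mem_nil

theorem card6 : Finite PresI6.Grp ∧ Nat.card PresI6.Grp = 51840 :=
  card_of_index_bot Fi22Ia51840.Hs 51840 (by decide) Fi22Ia51840.rho_index hs6_bot

instance finite6 : Finite PresI6.Grp := card6.1

theorem base6_holds : ∀ b ∈ PresI6.baseL, wprod PresI7.v b = 1 :=
  fun b hb => PresI7.hbase b (CertsI.base6_sub b hb)

/-- the homomorphism from the group on six letters -/
noncomputable def iota6 : PresI6.Grp →* PresI7.Grp := (PresI6.hliftG PresI7.v base6_holds).choose

theorem iota6_v : ∀ s < 6, iota6 (PresI6.v s) = PresI7.v s :=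
  (PresI6.hliftG PresI7.v base6_holds).choose_spec

theorem hs7_le : Fi22Ib729.Hs ≤ iota6.range := by
  rw [Fi22Ib729.hH]
  exact closure_le_range iota6 PresI6.v PresI7.v 6 iota6_v Fi22Ib729.sw (by decide)

theorem card7 : Finite PresI7.Grp ∧ Nat.card PresI7.Grp ≤ 37791360 := by
  have h := step iota6 Fi22Ib729.Hs hs7_le 729 51840 (by decide) Fi22Ib729.rho_index card6.2.le
  exact ⟨h.1, h.2.trans (by norm_num)⟩

instance finite7 : Finite PresI7.Grp := card7.1

theorem base7_holds : ∀ b ∈ PresI7.baseL, wprod PresI8.v b = 1 :=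
  fun b hb => PresI8.hbase b (CertsI.base7_sub b hb)

/-- the homomorphism from the group on seven letters -/
noncomputable def iota7 : PresI7.Grp →* PresI8.Grp := (PresI7.hliftG PresI8.v base7_holds).choose

theorem iota7_v : ∀ s < 7, iota7 (PresI7.v s) = PresI8.v s :=
  (PresI7.hliftG PresI8.v base7_holds).choose_spec

theorem hs8_le : Fi22Ic364.Hs ≤ iota7.range := by
  rw [Fi22Ic364.hH]
  exact closure_le_range iota7 PresI7.v PresI8.v 7 iota7_v Fi22Ic364.sw (by decide)

theorem card8 : Finite PresI8.Grp ∧ Nat.card PresI8.Grp ≤ 13756055040 := by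
  have h := step iota7 Fi22Ic364.Hs hs8_le 364 37791360 (by decide) Fi22Ic364.rho_index card7.2
  exact ⟨h.1, h.2.trans (by norm_num)⟩

instance finite8 : Finite PresI8.Grp := card8.1

theorem base8_holds : ∀ b ∈ PresI8.baseL, wprod PresI9.v b = 1 :=
  fun b hb => PresI9.hbase b (CertsI.base8_sub b hb)

/-- the homomorphism from the group on eight letters -/
noncomputable def iota8 : PresI8.Grp →* PresI9.Grp := (PresI8.hliftG PresI9.v base8_holds).choose

theorem iota8_v : ∀ s < 8, iota8 (PresI8.v s) = PresI9.v s :=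
  (PresI8.hliftG PresI9.v base8_holds).choose_spec

theorem hs9_le : Fi22Id14080.Hs ≤ iota8.range := by
  rw [Fi22Id14080.hH]
  exact closure_le_range iota8 PresI8.v PresI9.v 8 iota8_v Fi22Id14080.sw (by decide)

theorem finite_card_le : Finite PresI9.Grp ∧ Nat.card PresI9.Grp ≤ 193685254963200 := by
  have h := step iota8 Fi22Id14080.Hs hs9_le 14080 13756055040 (by decide) Fi22Id14080.rho_index card8.2
  exact ⟨h.1, h.2.trans (by norm_num)⟩

instance finite9 : Finite PresI9.Grp := finite_card_le.1

end Cfsg.Agent.Lib.Helper12.Fi22M.OrderI
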