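import Cfsg.Agent.Lib.Helper12.TCG.Fi22Pb243.Rho
import Cfsg.Agent.Lib.Helper12.TCG.Fi22Pc728.Rho
import Cfsg.Agent.Lib.Helper12.TCG.Fi22Pd14080.Rho
import Cfsg.Agent.Lib.Helper12.Fi22M.OrderI

/-!
The group presented on the nine involutions by the relators of Coxeter, the spider relator and one relator of type
E7 has at most `14080 * 728 * 243 * 51840` elements (helper12).
-/

set_option autoImplicit false
set_option maxRecDepth 100000

namespace Cfsg.Agent.Lib.Helper12.Fi22M.OrderP

open Cfsg.Agent.Lib.Helper12.TC Cfsg.Agent.Lib.Helper12.TCG Cfsg.Agent.Lib.Helper12.Ord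
  Cfsg.Agent.Lib.Helper12.Fi22M Cfsg.Agent.Lib.Helper12.Fi22M.OrderI

theorem base6_sub : ∀ b ∈ PresI6.baseL, b ∈ PresP7.baseL := by decide

theorem base7_sub : ∀ b ∈ PresP7.baseL, b ∈ PresP8.baseL := by decide

theorem base8_sub : ∀ b ∈ PresP8.baseL, b ∈ PresP9.baseL := by decide

theorem base6_holds : ∀ b ∈ PresI6.baseL, wprod PresP7.v b = 1 :=
  fun b hb => PresP7.hbase b (base6_sub b hb)

/-- the homomorphism from the group on six letters -/
noncomputable def iota6 : PresI6.Grp →* PresP7.Grp := (PresI6.hliftG PresP7.v base6_holds).choose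

theorem iota6_v : ∀ s < 6, iota6 (PresI6.v s) = PresP7.v s :=
  (PresI6.hliftG PresP7.v base6_holds).choose_spec

theorem hs7_le : Fi22Pb243.Hs ≤ iota6.range := by
  rw [Fi22Pb243.hH]
  exact closure_le_range iota6 PresI6.v PresP7.v 6 iota6_v Fi22Pb243.sw (by decide)

theorem card7 : Finite PresP7.Grp ∧ Nat.card PresP7.Grp ≤ 12597120 := by
  have h := step iota6 Fi22Pb243.Hs hs7_le 243 51840 (by decide) Fi22Pb243.rho_index card6.2.le
  exact ⟨h.1, h.2.trans (by norm_num)⟩

instance finite7 : Finite PresP7.Grp := card7.1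

theorem base7_holds : ∀ b ∈ PresP7.baseL, wprod PresP8.v b = 1 :=
  fun b hb => PresP8.hbase b (base7_sub b hb)

/-- the homomorphism from the group on seven letters -/
noncomputable def iota7 : PresP7.Grp →* PresP8.Grp := (PresP7.hliftG PresP8.v base7_holds).choose

theorem iota7_v : ∀ s < 7, iota7 (PresP7.v s) = PresP8.v s :=
  (PresP7.hliftG PresP8.v base7_holds).choose_spec

theorem hs8_le : Fi22Pc728.Hs ≤ iota7.range := by
  rw [Fi22Pc728.hH]
  exact closure_le_range iota7 PresP7.v PresP8.v 7 iota7_v Fi22Pc728.sw (by decide)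

theorem card8 : Finite PresP8.Grp ∧ Nat.card PresP8.Grp ≤ 9170703360 := by
  have h := step iota7 Fi22Pc728.Hs hs8_le 728 12597120 (by decide) Fi22Pc728.rho_index card7.2
  exact ⟨h.1, h.2.trans (by norm_num)⟩

instance finite8 : Finite PresP8.Grp := card8.1

theorem base8_holds : ∀ b ∈ PresP8.baseL, wprod PresP9.v b = 1 :=
  fun b hb => PresP9.hbase b (base8_sub b hb)

/-- the homomorphism from the group on eight letters -/
noncomputable def iota8 : PresP8.Grp →* PresP9.Grp := (PresP8.hliftG PresP9.v base8_holds).choose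

theorem iota8_v : ∀ s < 8, iota8 (PresP8.v s) = PresP9.v s :=
  (PresP8.hliftG PresP9.v base8_holds).choose_spec

theorem hs9_le : Fi22Pd14080.Hs ≤ iota8.range := by
  rw [Fi22Pd14080.hH]
  exact closure_le_range iota8 PresP8.v PresP9.v 8 iota8_v Fi22Pd14080.sw (by decide)

theorem finite_card_le : Finite PresP9.Grp ∧ Nat.card PresP9.Grp ≤ 129123503308800 := by
  have h := step iota8 Fi22Pd14080.Hs hs9_le 14080 9170703360 (by decide) Fi22Pd14080.rho_index card8.2
  exact ⟨h.1, h.2.trans (by norm_num)⟩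

instance finite9 : Finite PresP9.Grp := finite_card_le.1

end Cfsg.Agent.Lib.Helper12.Fi22M.OrderP
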