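import Cfsg.Agent.Lib.Helper12.TCG.Fi22Ua405.Rho
import Cfsg.Agent.Lib.Helper12.TCG.Fi22Ub33792.Le
import Cfsg.Agent.Lib.Helper12.TCG.Fi22Uc2688.Le
import Cfsg.Agent.Lib.Helper12.TCG.Fi22Ud3510.Le
import Cfsg.Agent.Lib.Helper12.Fi22M.CertsU
import Cfsg.Agent.Lib.Helper12.Fi22M.OrderI

/-!
The group presented on the five elements of odd order has at most `3510 * 2688 * 33792 * 405` elements: the subgroup
generated by the first generators has index `3510`, `2688`, `33792` in the group presented on five, four, three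
generators and is a quotient of the group presented on one generator less; the group presented on two generators
has `405` elements (helper12).
-/

set_option autoImplicit false
set_option maxRecDepth 100000

namespace Cfsg.Agent.Lib.Helper12.Fi22M.OrderU

open Cfsg.Agent.Lib.Helper12.TC Cfsg.Agent.Lib.Helper12.TCG Cfsg.Agent.Lib.Helper12.Ord
  Cfsg.Agent.Lib.Helper12.Fi22M Cfsg.Agent.Lib.Helper12.Fi22M.OrderI

theorem hs2_bot : Fi22Ua405.Hs = ⊥ := by
  rw [Fi22Ua405.hH, Subgroup.closure_eq_bot_iff]
  rintro γ ⟨w, hw, rfl⟩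
  exact absurd hw List.not_mem_nil

theorem card2 : Finite PresU2.Grp ∧ Nat.card PresU2.Grp = 405 :=
  card_of_index_bot Fi22Ua405.Hs 405 (by decide) Fi22Ua405.rho_index hs2_bot

instance finite2 : Finite PresU2.Grp := card2.1

theorem base2_holds : ∀ b ∈ PresU2.baseL, wprod PresU3.v b = 1 :=
  fun b hb => PresU3.hbase b (CertsU.base2_sub b hb)

/-- the homomorphism from the group on two generators -/
noncomputable def iota2 : PresU2.Grp →* PresU3.Grp := (PresU2.hliftG PresU3.v base2_holds).choose

theorem iota2_v : ∀ s < 4, iota2 (PresU2.v s) = PresU3.v s :=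
  (PresU2.hliftG PresU3.v base2_holds).choose_spec

theorem hs3_le : Fi22Ub33792.Hs ≤ iota2.range := by
  rw [Fi22Ub33792.hH]
  exact closure_le_range iota2 PresU2.v PresU3.v 4 iota2_v Fi22Ub33792.sw (by decide)

theorem card3 : Finite PresU3.Grp ∧ Nat.card PresU3.Grp ≤ 13685760 := by
  have h := card_le_of_index_le iota2 Fi22Ub33792.Hs hs3_le 33792 405 Fi22Ub33792.index_le card2.2.le
  exact ⟨h.1, h.2.trans (by norm_num)⟩

instance finite3 : Finite PresU3.Grp := card3.1

theorem base3_holds : ∀ b ∈ PresU3.baseL, wprod PresU4.v b = 1 :=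
  fun b hb => PresU4.hbase b (CertsU.base3_sub b hb)

/-- the homomorphism from the group on three generators -/
noncomputable def iota3 : PresU3.Grp →* PresU4.Grp := (PresU3.hliftG PresU4.v base3_holds).choose

theorem iota3_v : ∀ s < 6, iota3 (PresU3.v s) = PresU4.v s :=
  (PresU3.hliftG PresU4.v base3_holds).choose_spec

theorem hs4_le : Fi22Uc2688.Hs ≤ iota3.range := by
  rw [Fi22Uc2688.hH]
  exact closure_le_range iota3 PresU3.v PresU4.v 6 iota3_v Fi22Uc2688.sw (by decide)

theorem card4 : Finite PresU4.Grp ∧ Nat.card PresU4.Grp ≤ 36787322880 := by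
  have h := card_le_of_index_le iota3 Fi22Uc2688.Hs hs4_le 2688 13685760 Fi22Uc2688.index_le card3.2
  exact ⟨h.1, h.2.trans (by norm_num)⟩

instance finite4 : Finite PresU4.Grp := card4.1

theorem base4_holds : ∀ b ∈ PresU4.baseL, wprod PresU5.v b = 1 :=
  fun b hb => PresU5.hbase b (CertsU.base4_sub b hb)

/-- the homomorphism from the group on four generators -/
noncomputable def iota4 : PresU4.Grp →* PresU5.Grp := (PresU4.hliftG PresU5.v base4_holds).choose

theorem iota4_v : ∀ s < 8, iota4 (PresU4.v s) = PresU5.v s :=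
  (PresU4.hliftG PresU5.v base4_holds).choose_spec

theorem hs5_le : Fi22Ud3510.Hs ≤ iota4.range := by
  rw [Fi22Ud3510.hH]
  exact closure_le_range iota4 PresU4.v PresU5.v 8 iota4_v Fi22Ud3510.sw (by decide)

theorem finite_card_le : Finite PresU5.Grp ∧ Nat.card PresU5.Grp ≤ 129123503308800 := by
  have h := card_le_of_index_le iota4 Fi22Ud3510.Hs hs5_le 3510 36787322880 Fi22Ud3510.index_le card4.2
  exact ⟨h.1, h.2.trans (by norm_num)⟩

instance finite5 : Finite PresU5.Grp := finite_card_le.1

end Cfsg.Agent.Lib.Helper12.Fi22M.OrderU
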