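import Cfsg.Agent.Lib.Helper12.QLift
import Cfsg.Agent.Lib.Helper12.Fi22M.OddLift2

/-!
Central extensions with a kernel of order prime to `q`, continued: the generators may have different orders, all of
them divisors of `q`, and a product of pairwise commuting conjugates of generators which is trivial in the quotient is
trivial for the lifts as well (helper12).
-/

set_option autoImplicit false

namespace Cfsg.Agent.Lib.Helper12.Fi22M.QLift2

open Cfsg.Agent.Lib.Helper12.TC Cfsg.Agent.Lib.Helper12.TCG Cfsg.Agent.Lib.Helper12.QLift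

section Lists

variable {Γ : Type*} [Group Γ]

theorem prod_pow_of_commute (q : ℕ) (L : List Γ) (hq : ∀ a ∈ L, a ^ q = 1)
    (hc : ∀ a ∈ L, ∀ b ∈ L, a * b = b * a) : L.prod ^ q = 1 := by
  induction L with
  | nil => simp
  | cons a L ih =>
    have ha : a ^ q = 1 := hq a List.mem_cons_self
    have hL := ih (fun b hb => hq b (List.mem_cons_of_mem _ hb))
      (fun b hb c hc' => hc b (List.mem_cons_of_mem _ hb) c (List.mem_cons_of_mem _ hc'))
    have hcomm : Commute a L.prod :=
      Commute.list_prod_right _ _ (fun b hb => hc a List.mem_cons_self b (List.mem_cons_of_mem _ hb))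
    rw [List.prod_cons, hcomm.mul_pow, ha, hL, mul_one]

/-- the conjugate of a letter by a word -/
def cjq (w : List ℕ) (s : ℕ) : List ℕ := invw w ++ s :: w

theorem wprod_cjq (f : ℕ → Γ) (hf : ∀ s, f (flp s) = (f s)⁻¹) (w : List ℕ) (s : ℕ) :
    wprod f (cjq w s) = (wprod f w)⁻¹ * f s * wprod f w := by
  unfold cjq
  rw [wprod_append, wprod_cons, wprod_invw f hf]
  group

theorem wprod_cjq_pow (f : ℕ → Γ) (hf : ∀ s, f (flp s) = (f s)⁻¹) (q : ℕ) (hfq : ∀ s, f s ^ q = 1)
    (w : List ℕ) (s : ℕ) : wprod f (cjq w s) ^ q = 1 := by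
  rw [wprod_cjq f hf]
  have : (wprod f w)⁻¹ * f s * wprod f w = (wprod f w)⁻¹ * f s * (wprod f w)⁻¹⁻¹ := by rw [inv_inv]
  rw [this, conj_pow, hfq, mul_one, mul_inv_cancel]

end Lists

/-- the shapes of the relators -/
inductive Cert where
  | conj (w : List ℕ) (i t m : ℕ) : Cert
  | cprod (cs : List (List ℕ × ℕ)) : Cert

/-- the relator of a shape -/
def Cert.word : Cert → List ℕ
  | .conj w i t m => invw w ++ (2 * i) :: (w ++ List.replicate m t)
  | .cprod cs => (cs.map fun p => cjq p.1 p.2).flatten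

/-- the side conditions of a shape: words which are to be trivial in the quotient -/
def Cert.side : Cert → List (List ℕ)
  | .conj _ _ _ _ => []
  | .cprod cs => (cs.product cs).map fun pq =>
      invw (cjq pq.1.1 pq.1.2) ++ (cjq pq.2.1 pq.2.2 ++ (cjq pq.1.1 pq.1.2 ++ invw (cjq pq.2.1 pq.2.2)))

section Main

variable {Γ G : Type*} [Group Γ] [Group G] (σ : Γ →* G)

theorem lift_rel2 [Finite Γ] (hcen : σ.ker ≤ Subgroup.center Γ) (q : ℕ)
    (hq : Nat.Coprime q (Nat.card σ.ker)) (f : ℕ → Γ) (hf : ∀ s, f (flp s) = (f s)⁻¹)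
    (hfq : ∀ s, f s ^ q = 1) (c : Cert)
    (h : wprod (fun s => σ (f s)) c.word = 1)
    (hside : ∀ s ∈ c.side, wprod (fun s => σ (f s)) s = 1) : wprod f c.word = 1 := by
  cases c with
  | conj w i t m =>
    exact lift_rel σ hcen q hq f hf hfq ⟨w, i, t, m⟩ h
  | cprod cs =>
    rw [WPres.wprod_map σ f] at h
    simp only [Cert.word] at h ⊢
    rw [OddLift2.wprod_flatten_map] at h ⊢
    set L : List Γ := cs.map fun p => wprod f (cjq p.1 p.2) with hL
    have hLq : ∀ a ∈ L, a ^ q = 1 := by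
      intro a ha
      rw [hL, List.mem_map] at ha
      obtain ⟨p, _, rfl⟩ := ha
      exact wprod_cjq_pow f hf q hfq p.1 p.2
    have hcomm : ∀ a ∈ L, ∀ b ∈ L, a * b = b * a := by
      intro a ha b hb
      rw [hL, List.mem_map] at ha hb
      obtain ⟨p, hp, rfl⟩ := ha
      obtain ⟨r, hr, rfl⟩ := hb
      have hs := hside (invw (cjq p.1 p.2) ++ (cjq r.1 r.2 ++ (cjq p.1 p.2 ++ invw (cjq r.1 r.2)))) (by
        simp only [Cert.side, List.mem_map]
        exact ⟨(p, r), List.mem_product.mpr ⟨hp, hr⟩, rfl⟩)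
      rw [WPres.wprod_map σ f, wprod_append, wprod_append, wprod_append, wprod_invw f hf,
        wprod_invw f hf] at hs
      have hu := wprod_cjq_pow f hf q hfq p.1 p.2
      have hv := wprod_cjq_pow f hf q hfq r.1 r.2
      set u := wprod f (cjq p.1 p.2)
      set v := wprod f (cjq r.1 r.2)
      have h1 : σ (u⁻¹ * v * u) = σ v := by
        have e : u⁻¹ * v * u = (u⁻¹ * (v * (u * v⁻¹))) * v := by group
        rw [e, map_mul, hs, one_mul]
      have h2 : (u⁻¹ * v * u) ^ q = 1 := by
        have : u⁻¹ * v * u = u⁻¹ * v * u⁻¹⁻¹ := by rw [inv_inv]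
        rw [this, conj_pow, hv, mul_one, mul_inv_cancel]
      have h3 := pow_lift_unique σ hcen q hq h2 hv h1
      calc u * v = u * (u⁻¹ * v * u) := by rw [h3]
        _ = v * u := by group
    have hP := prod_pow_of_commute q L hLq hcomm
    have hk : L.prod ∈ σ.ker := MonoidHom.mem_ker.mpr h
    exact eq_one_of_pow_of_coprime σ q hq hk hP

/-- a group presented by relators of the shapes above, on elements whose orders divide `q`, maps onto every finite
stem extension, with a kernel of order prime to `q`, of a group generated by elements which satisfy the relators and the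
side conditions -/
theorem exists_surj_of_coprime_stem2 [Finite Γ] (hσ : Cfsg.IsStemExtension σ) (q : ℕ)
    (hq : Nat.Coprime q (Nat.card σ.ker)) (qf : ℕ → ℕ)
    (n : ℕ) (hqf : ∀ i < n, qf i ∣ q)
    (baseL : List (List ℕ)) (hlet : lettersK (2 * n) baseL = true) (certs : List Cert)
    (hshape : ∀ b ∈ baseL, b = [] ∨ (∃ s, b = [s, flp s]) ∨ (∃ i < n, b = List.replicate (qf i) (2 * i)) ∨
      ∃ c ∈ certs, b = c.word)
    (hpow : ∀ i < n, List.replicate (qf i) (2 * i) ∈ baseL)
    (hpair : ∀ i < n, [2 * i, 2 * i + 1] ∈ baseL)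
    (hsl : ∀ c ∈ certs, ∀ s ∈ c.side, ∀ t ∈ s, t < 2 * n)
    (x : ℕ → G) (hx : ∀ b ∈ baseL, wprod x b = 1)
    (hxs : ∀ c ∈ certs, ∀ s ∈ c.side, wprod x s = 1)
    (hgen : Subgroup.closure {y | ∃ s < 2 * n, y = x s} = ⊤) :
    ∃ ψ : WPres.Grp (2 * n) baseL →* Γ, Function.Surjective ψ ∧
      ∀ s < 2 * n, σ (ψ (WPres.v (2 * n) baseL s)) = x s := by
  have hcen := hσ.2.1
  have hxq : ∀ i < n, x (2 * i) ^ (qf i) = 1 := by
    intro i hi
    have := hx _ (hpow i hi)
    rwa [wprod_replicate] at this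
  have hxinv : ∀ i < n, x (2 * i + 1) = (x (2 * i))⁻¹ := by
    intro i hi
    have := hx _ (hpair i hi)
    rw [wprod_cons, wprod_cons, wprod_nil, mul_one] at this
    exact (inv_eq_of_mul_eq_one_right this).symm
  -- the lifts
  have hex : ∀ i : ℕ, ∃ y : Γ, (i < n → σ y = x (2 * i)) ∧ (i < n → y ^ (qf i) = 1) ∧ y ^ q = 1 := by
    intro i
    by_cases hi : i < n
    · have hqi : Nat.Coprime (qf i) (Nat.card σ.ker) := Nat.Coprime.coprime_dvd_left (hqf i hi) hq
      obtain ⟨y, hy1, hy2⟩ := exists_pow_lift σ hσ.1 hcen (qf i) hqi (hxq i hi)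
      refine ⟨y, fun _ => hy1, fun _ => hy2, ?_⟩
      obtain ⟨d, hd⟩ := hqf i hi
      rw [hd, pow_mul, hy2, one_pow]
    · exact ⟨1, fun h => absurd h hi, fun h => absurd h hi, one_pow q⟩
  choose y hy1 hy3 hy2 using hex
  set f : ℕ → Γ := fun s => if s % 2 = 0 then y (s / 2) else (y (s / 2))⁻¹ with hfdef
  have hf : ∀ s, f (flp s) = (f s)⁻¹ := by
    intro s
    simp only [hfdef, flp]
    by_cases hs : s % 2 = 0
    · have h1 : (s + 1) % 2 ≠ 0 := by omega
      have h2 : (s + 1) / 2 = s / 2 := by omega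
      rw [if_pos hs, if_neg h1, if_pos hs, h2]
    · have h1 : (s - 1) % 2 = 0 := by omega
      have h2 : (s - 1) / 2 = s / 2 := by omega
      rw [if_neg hs, if_pos h1, if_neg hs, h2, inv_inv]
  have hfq : ∀ s, f s ^ q = 1 := by
    intro s
    simp only [hfdef]
    by_cases hs : s % 2 = 0
    · rw [if_pos hs]; exact hy2 _
    · rw [if_neg hs, inv_pow, hy2, inv_one]
  have hσf : ∀ s < 2 * n, σ (f s) = x s := by
    intro s hs
    simp only [hfdef]
    by_cases hs2 : s % 2 = 0
    · rw [if_pos hs2, hy1 (s / 2) (by omega)]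
      congr 1; omega
    · rw [if_neg hs2, map_inv, hy1 (s / 2) (by omega), ← hxinv (s / 2) (by omega)]
      congr 1; omega
  have hσfl : ∀ l : List ℕ, (∀ s ∈ l, s < 2 * n) → wprod (fun s => σ (f s)) l = wprod x l := by
    intro l
    induction l with
    | nil => intro _; rfl
    | cons s l ih =>
      intro hl
      rw [wprod_cons, wprod_cons, ih (fun t ht => hl t (List.mem_cons_of_mem _ ht)),
        hσf s (hl s List.mem_cons_self)]
  have hw : ∀ b ∈ baseL, wprod f b = 1 := by
    intro b hb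
    have hbl : ∀ s ∈ b, s < 2 * n := fun s hs => lettersK_lt hlet hb hs
    rcases hshape b hb with rfl | ⟨s, rfl⟩ | ⟨i, hi, rfl⟩ | ⟨c, hc, rfl⟩
    · rfl
    · rw [wprod_cons, wprod_cons, wprod_nil, mul_one, hf s, mul_inv_cancel]
    · rw [wprod_replicate]
      have : f (2 * i) = y i := by
        simp only [hfdef]
        rw [if_pos (by omega)]
        congr 1; omega
      rw [this]
      exact hy3 i hi
    · apply lift_rel2 σ hcen q hq f hf hfq c
      · rw [hσfl _ hbl]
        exact hx _ hb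
      · intro s hs
        rw [hσfl _ (hsl c hc s hs)]
        exact hxs c hc s hs
  obtain ⟨ψ, hψ⟩ := WPres.hlift (2 * n) baseL hlet f hw
  refine ⟨ψ, ?_, ?_⟩
  · rw [← MonoidHom.range_eq_top]
    apply Cfsg.Agent.Lib.Helper12.McLM.OddLift.eq_top_of_map_eq_top σ hσ
    rw [eq_top_iff, ← hgen, Subgroup.closure_le]
    rintro y' ⟨s, hs, rfl⟩
    exact ⟨ψ (WPres.v (2 * n) baseL s), ⟨_, rfl⟩, by rw [hψ s hs]; exact hσf s hs⟩
  · intro s hs
    rw [hψ s hs]
    exact hσf s hs

end Main

end Cfsg.Agent.Lib.Helper12.Fi22M.QLift2
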