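import Cfsg.Agent.Lib.Helper12.Fi22M.ExistI
import Cfsg.Agent.Lib.Helper12.QLift

/-!
The kernel of every finite stem extension of the group of Fischer with a kernel of odd order has at most three
elements: the group presented on the nine involutions maps onto the extension, and the kernel of the extension is the
image of the kernel of the presented group (helper12).
-/

set_option autoImplicit false
set_option maxRecDepth 100000

namespace Cfsg.Agent.Lib.Helper12.Fi22M.UpperI

open Cfsg.Agent.Lib.Helper12.TC Cfsg.Agent.Lib.Helper12.TCG Cfsg.Agent.Lib.Helper12.Fi22M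

theorem card_ker_le_of_odd (Γ : Type) [Group Γ] [Finite Γ] (σ : Γ →* Cfsg.Spor.Fi22)
    (hσ : Cfsg.IsStemExtension σ) (hodd : Odd (Nat.card σ.ker)) : Nat.card σ.ker ≤ 3 := by
  obtain ⟨ψ, hψ, hψv⟩ := OddLift2.exists_surj_of_odd_stem σ hσ hodd 9 PresI9.baseL PresI9.hlet
    CertsI.certs9 CertsI.shape9 CertsI.sq9
    (fun c hc s hs => CertsI.sides9_lt s (CertsI.mem_sides9 c hc s hs))
    ModelI.xM ModelI.rels_hold ModelI.sides_hold ModelI.xM_gen
  have hcomp : σ.comp ψ = ModelI.phi := by
    apply WPres.hom_ext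
    intro s hs
    rw [MonoidHom.comp_apply, hψv s hs]
    exact (ModelI.phi_v s hs).symm
  have hker := QLift.ker_eq_map σ ModelI.phi ψ hψ hcomp
  haveI : Finite ModelI.phi.ker := Subtype.finite
  have hsurj : Function.Surjective (fun x : ModelI.phi.ker =>
      (⟨ψ x.1, by rw [hker]; exact ⟨x.1, x.2, rfl⟩⟩ : σ.ker)) := by
    rintro ⟨y, hy⟩
    rw [hker] at hy
    obtain ⟨u, hu, rfl⟩ := hy
    exact ⟨⟨u, hu⟩, rfl⟩
  have := Nat.card_le_card_of_surjective _ hsurj
  rw [ExistI.card_ker] at this
  exact this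

end Cfsg.Agent.Lib.Helper12.Fi22M.UpperI
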