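import Cfsg.Agent.Lib.Helper12.Fi22M.OrderU
import Cfsg.Agent.Lib.Helper12.Fi22M.GenU
import Cfsg.Agent.Lib.Helper12.Fi22M.ExistI

/-!
The kernel of every finite stem extension of the group of Fischer with a kernel of order prime to fifteen has at most
two elements: the group presented on the five elements of odd order maps onto the extension, and the kernel of the
extension is the image of the kernel of the presented group (helper12).
-/

set_option autoImplicit false
set_option maxRecDepth 100000

namespace Cfsg.Agent.Lib.Helper12.Fi22M.UpperU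

open Cfsg.Agent.Lib.Helper12.TC Cfsg.Agent.Lib.Helper12.TCG Cfsg.Agent.Lib.Helper12.Fi22M

instance finite5 : Finite PresU5.Grp := OrderU.finite5

theorem card_ker_phi_le : Nat.card ModelU.phi.ker ≤ 2 := by
  have h1 := OrderU.finite_card_le.2
  rw [ExistI.card_eq_mul ModelU.phi GenU.phi_surjective] at h1
  omega

theorem card_ker_le_of_coprime (Γ : Type) [Group Γ] [Finite Γ] (σ : Γ →* Cfsg.Spor.Fi22)
    (hσ : Cfsg.IsStemExtension σ) (hcop : Nat.Coprime 15 (Nat.card σ.ker)) : Nat.card σ.ker ≤ 2 := by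
  obtain ⟨ψ, hψ, hψv⟩ := QLift2.exists_surj_of_coprime_stem2 σ hσ 15 hcop CertsU.qf 5 CertsU.qf_dvd
    PresU5.baseL PresU5.hlet CertsU.certs CertsU.shape5 CertsU.pow5 CertsU.pair5
    (fun c hc s hs => CertsU.sides_lt s (CertsU.mem_sides c hc s hs))
    ModelU.xM ModelU.rels_hold ModelU.sides_hold GenU.xM_gen
  have hcomp : σ.comp ψ = ModelU.phi := by
    apply WPres.hom_ext
    intro s hs
    rw [MonoidHom.comp_apply, hψv s hs]
    exact (ModelU.phi_v s hs).symm
  have hker := QLift.ker_eq_map σ ModelU.phi ψ hψ hcomp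
  haveI : Finite ModelU.phi.ker := Subtype.finite
  have hsurj : Function.Surjective (fun x : ModelU.phi.ker =>
      (⟨ψ x.1, by rw [hker]; exact ⟨x.1, x.2, rfl⟩⟩ : σ.ker)) := by
    rintro ⟨y, hy⟩
    rw [hker] at hy
    obtain ⟨u, hu, rfl⟩ := hy
    exact ⟨⟨u, hu⟩, rfl⟩
  exact (Nat.card_le_card_of_surjective _ hsurj).trans card_ker_phi_le

end Cfsg.Agent.Lib.Helper12.Fi22M.UpperU
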